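import Mathlib
import Cfsg.Agent.S3800
import Cfsg.Agent.Lib.Helper79.BG10.Conj

/-!
# B-G Theorem 14.4: general group-theoretic plumbing
-/

set_option autoImplicit false

namespace Cfsg.Agent.Helper60.BG144

open Subgroup
open Cfsg.Agent.Helper79.BG10 (cj mem_cj conj_mem_cj cj_mul cj_one cj_mono cj_le_iff card_cj
  isPGroup_cj cj_eq_self_of_mem cj_eq_self_of_mem_normalizer mem_normalizer_of_cj_eq cj_inv_cj
  cj_cj_inv)

variable {G : Type*} [Group G]

/-- membership in the normalizer, conjugation form -/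
theorem conj_mem_of_mem_normalizer {H : Subgroup G} {n h : G}
    (hn : n ∈ normalizer (H : Set G)) (hh : h ∈ H) : n * h * n⁻¹ ∈ H :=
  (mem_normalizer_iff.mp hn h).1 hh

theorem conj_inv_mem_of_mem_normalizer {H : Subgroup G} {n h : G}
    (hn : n ∈ normalizer (H : Set G)) (hh : h ∈ H) : n⁻¹ * h * n ∈ H := by
  have := conj_mem_of_mem_normalizer (inv_mem hn) hh
  simpa using this

/-- Relative Frattini argument: `Ns` normal in `N`, `A` a `p`-subgroup of `N` with `p ∤ |Ns|`,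
`N` normalizes `Ns A`; then every `n ∈ N` is `e * s` with `e ∈ N ∩ N(A)`, `s ∈ Ns`. -/
theorem frattini_rel [Finite G] {p : ℕ} [Fact p.Prime] {N Ns A : Subgroup G}
    (hNsN : Ns ≤ N) (hnorm : N ≤ normalizer (Ns : Set G)) (hAN : A ≤ N) (hA : IsPGroup p A)
    (hcop : (Nat.card Ns).Coprime p)
    (hN2 : N ≤ normalizer ((Ns ⊔ A : Subgroup G) : Set G)) :
    ∀ n ∈ N, ∃ e ∈ N ⊓ normalizer (A : Set G), ∃ s ∈ Ns, n = e * s := by
  intro n hn
  have : (Ns.subgroupOf N).Normal := by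
    refine ⟨fun x hx g => ?_⟩
    rw [mem_subgroupOf] at hx ⊢
    have := conj_mem_of_mem_normalizer (hnorm g.2) hx
    simpa using this
  have hc1 : (Nat.card (Ns.subgroupOf N)).Coprime p := by
    rw [Nat.card_congr (Subgroup.subgroupOfEquivOfLe hNsN).toEquiv]; exact hcop
  have hP : IsPGroup p (A.subgroupOf N) := hA.comap_subtype
  have hg : (⟨n, hn⟩ : N) ∈ normalizer ((Ns.subgroupOf N ⊔ A.subgroupOf N : Subgroup N) : Set N) := by
    rw [← Subgroup.subgroupOf_sup hNsN hAN, ← Subgroup.subgroupOf_normalizer_eq (sup_le hNsN hAN)]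
    rw [mem_subgroupOf]
    exact hN2 hn
  obtain ⟨s', hs', hs'n⟩ := Cfsg.Agent.S3800.frattini_aux (Ns.subgroupOf N) (A.subgroupOf N) hc1 hP
    ⟨n, hn⟩ hg
  rw [← Subgroup.subgroupOf_normalizer_eq hAN, mem_subgroupOf] at hs'n
  rw [mem_subgroupOf] at hs'
  -- n = s * e with s = s', e = s'⁻¹ n
  set s : G := (s' : G) with hs
  have he : s⁻¹ * n ∈ N ⊓ normalizer (A : Set G) := by
    refine ⟨N.mul_mem (N.inv_mem s'.2) hn, ?_⟩
    simpa using hs'n
  refine ⟨s⁻¹ * n, he, (s⁻¹ * n)⁻¹ * s * (s⁻¹ * n), ?_, by group⟩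
  exact conj_inv_mem_of_mem_normalizer (hnorm he.1) hs'

/-- Splitting a centralizing element along a complement. -/
theorem centralizer_split {N Ns E : Subgroup G} (hnorm : N ≤ normalizer (Ns : Set G))
    (hEN : E ≤ N) (hdisj : Ns ⊓ E = ⊥) {x : G} (hx : x ∈ E) {e s : G} (he : e ∈ E) (hs : s ∈ Ns)
    (hc : (e * s) * x = x * (e * s)) : e * x = x * e ∧ s * x = x * s := by
  have h1 : s * x * s⁻¹ = e⁻¹ * x * e := by
    have : e * (s * x * s⁻¹) * e⁻¹ = x := by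
      have : e * (s * x * s⁻¹) * e⁻¹ = (e * s) * x * (e * s)⁻¹ := by group
      rw [this, hc]; group
    calc s * x * s⁻¹ = e⁻¹ * (e * (s * x * s⁻¹) * e⁻¹) * e := by group
      _ = e⁻¹ * x * e := by rw [this]
  have h2 : s * x * s⁻¹ * x⁻¹ ∈ Ns := by
    have : s * x * s⁻¹ * x⁻¹ = s * (x * s⁻¹ * x⁻¹) := by group
    rw [this]
    exact Ns.mul_mem hs (conj_mem_of_mem_normalizer (hnorm (hEN hx)) (Ns.inv_mem hs))
  have h3 : s * x * s⁻¹ * x⁻¹ ∈ E := by
    rw [h1]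
    exact E.mul_mem (E.mul_mem (E.mul_mem (E.inv_mem he) hx) he) (E.inv_mem hx)
  have h4 : s * x * s⁻¹ * x⁻¹ = 1 := by
    have : s * x * s⁻¹ * x⁻¹ ∈ Ns ⊓ E := ⟨h2, h3⟩
    rwa [hdisj, mem_bot] at this
  have hsx : s * x = x * s := by
    have : s * x = (s * x * s⁻¹ * x⁻¹) * (x * s) := by group
    rw [this, h4, one_mul]
  refine ⟨?_, hsx⟩
  have h5 : e * x * s = x * e * s := by
    calc e * x * s = e * (x * s) := by group
      _ = e * (s * x) := by rw [hsx]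
      _ = (e * s) * x := by group
      _ = x * (e * s) := hc
      _ = x * e * s := by group
  exact mul_right_cancel h5

/-- an element `n` of a normal subgroup `Ns` (normalized by `x`) conjugating `x` into a
subgroup `E ∋ x` meeting `Ns` trivially centralizes `x`. -/
theorem commute_of_conj_mem {Ns E : Subgroup G} (hdisj : Ns ⊓ E = ⊥) {x n : G}
    (hxn : x ∈ normalizer (Ns : Set G)) (hx : x ∈ E) (hn : n ∈ Ns) (h : n⁻¹ * x * n ∈ E) :
    n * x = x * n := by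
  have h2 : x⁻¹ * (n⁻¹ * x * n) ∈ Ns := by
    have : x⁻¹ * (n⁻¹ * x * n) = (x⁻¹ * n⁻¹ * x) * n := by group
    rw [this]
    exact Ns.mul_mem (conj_inv_mem_of_mem_normalizer hxn (Ns.inv_mem hn)) hn
  have h3 : x⁻¹ * (n⁻¹ * x * n) ∈ E := E.mul_mem (E.inv_mem hx) h
  have h4 : x⁻¹ * (n⁻¹ * x * n) = 1 := by
    have : x⁻¹ * (n⁻¹ * x * n) ∈ Ns ⊓ E := ⟨h2, h3⟩
    rwa [hdisj, mem_bot] at this
  have : n * x = x * n * (x⁻¹ * (n⁻¹ * x * n))⁻¹ := by group
  rw [this, h4]; group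

end Cfsg.Agent.Helper60.BG144
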