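import Mathlib
import Cfsg.Agent.Lib.Helper60.BG144a
import Cfsg.Agent.Lib.Helper84.GrpSylow
import Cfsg.Agent.Lib.Helper34.BG10a
import Cfsg.Agent.Lib.Helper45.FittingHall
import Cfsg.Agent.Lib.Helper55.BGDecomp2

/-!
# B-G Theorem 14.4: plumbing that needs the Prelude vocabulary (no frozen rows)
-/

set_option autoImplicit false
set_option linter.style.haveILetI false

namespace Cfsg.Agent.Helper60.BG144

open Subgroup Cfsg
open Cfsg.Agent.Helper79.BG10 (cj mem_cj conj_mem_cj cj_mul cj_one cj_mono cj_le_iff card_cj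
  isPGroup_cj cj_eq_self_of_mem cj_eq_self_of_mem_normalizer mem_normalizer_of_cj_eq cj_inv_cj
  cj_cj_inv)
open Cfsg.Agent.Helper55.BGB (sigmaCore_le isPi_sigmaCore le_normalizer_sigmaCore
  le_normalizer_map_subtype)

variable {G : Type*} [Group G]

theorem relIndex_map_subtype_eq [Finite G] {M : Subgroup G} (K : Subgroup ↥M) :
    (K.map M.subtype).relIndex M = K.index := by
  have h1 := Subgroup.relIndex_mul_index (Subgroup.map_subtype_le K)
  rw [Subgroup.index_map_subtype] at h1
  exact Nat.eq_of_mul_eq_mul_right (Nat.pos_of_ne_zero Subgroup.index_ne_zero_of_finite) h1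

theorem elemAb_cj {p : ℕ} {B : Subgroup G} (hB : IsElementaryAbelian p B) (g : G) :
    IsElementaryAbelian p (cj g B) := by
  refine ⟨?_, ?_⟩
  · haveI := hB.1
    exact Subgroup.map_isMulCommutative _ _
  · rintro _ ⟨b, hb, rfl⟩
    rw [← map_pow, hB.2 b hb, map_one]

theorem not_isCyclic_of_elemAb {p : ℕ} (hp : p.Prime) {A : Subgroup G}
    (hA : IsElementaryAbelian p A) (hc : Nat.card A = p ^ 2) : ¬ IsCyclic A := by
  intro h
  obtain ⟨g, hg⟩ := h.exists_generator
  have h1 : orderOf g = Nat.card A := orderOf_eq_card_of_forall_mem_zpowers hg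
  have h2 : g ^ p = 1 := by
    apply Subtype.ext
    simpa using hA.2 g.1 g.2
  have h3 : orderOf g ∣ p := orderOf_dvd_of_pow_eq_one h2
  rw [h1, hc] at h3
  have h4 := Nat.le_of_dvd hp.pos h3
  nlinarith [hp.one_lt]

/-- cyclic Sylow `p`-subgroups force `p`-rank at most one. -/
theorem pRankLE_one_of_cyclic_sylow {H : Type*} [Group H] [Finite H] {p : ℕ} [hp : Fact p.Prime]
    (h : ∀ P : Sylow p H, IsCyclic P) : PRankLE p 1 H := by
  intro A _ hAp
  have hA : IsPGroup p A := fun a => ⟨1, by
    apply Subtype.ext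
    simpa using hAp a.1 a.2⟩
  obtain ⟨P, hP⟩ := hA.exists_le_sylow
  haveI := h P
  haveI : IsCyclic A := Subgroup.isCyclic_of_le hP
  classical
  haveI : Fintype A := Fintype.ofFinite A
  have h1 := IsCyclic.card_pow_eq_one_le (α := A) hp.out.pos
  have h2 : (Finset.univ.filter fun a : A => a ^ p = 1) = Finset.univ := by
    apply Finset.filter_true_of_mem
    intro a _
    apply Subtype.ext
    simpa using hAp a.1 a.2
  rw [h2, Finset.card_univ, ← Nat.card_eq_fintype_card] at h1
  simpa using h1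

theorem not_mem_kappa_of_mem_tau2 [Finite G] {N : Subgroup G} {q : ℕ} (h : q ∈ tau2 N) :
    q ∉ kappa N := by
  intro hk
  haveI : Fact q.Prime := ⟨h.1⟩
  exact h.2.2.2 (pRankLE_one_of_cyclic_sylow (fun P => (hk.2.2.2 P).1))

/-- a coatom of a minimal simple group of odd order is the full normalizer of each of its
nontrivial normal subgroups. -/
theorem normalizer_eq_of_coatom [Finite G] (hG : IsMinSimpleOddOrder G) {M T : Subgroup G}
    (hM : IsCoatom M) (hTM : T ≤ M) (hT1 : T ≠ ⊥) (hn : M ≤ normalizer (T : Set G)) :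
    normalizer (T : Set G) = M := by
  have hTt : T ≠ ⊤ := fun h => hM.1 (top_le_iff.mp (h ▸ hTM))
  have hne := Cfsg.Agent.Helper34.BG.normalizer_ne_top hG hT1 hTt
  by_contra hneq
  exact hne (hM.2 _ (lt_of_le_of_ne hn (Ne.symm hneq)))

/-- `M_F ≤ M_σ` (part of B-G 15.2, elementary). -/
theorem fittingHallOf_le_sigmaCore [Finite G] (hG : IsMinSimpleOddOrder G) {M : Subgroup G}
    (hM : IsCoatom M) : fittingHallOf M ≤ sigmaCore M := by
  unfold fittingHallOf sigmaCore
  apply Subgroup.map_mono
  apply le_sSup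
  refine ⟨inferInstance, ?_⟩
  intro q hq hqd
  haveI : Fact q.Prime := ⟨hq⟩
  have hHmem := Cfsg.Agent.Helper45.FH.fittingHall_mem (G := ↥M)
  haveI hHnil : Group.IsNilpotent (fittingHall ↥M) := hHmem.2.1
  have hHcop := hHmem.2.2
  have Q : Sylow q (fittingHall ↥M) := default
  haveI hQn : (Q : Subgroup (fittingHall ↥M)).Normal := inferInstance
  haveI := Sylow.characteristic_of_normal Q hQn
  haveI hTn : ((Q : Subgroup (fittingHall ↥M)).map (fittingHall ↥M).subtype).Normal :=
    ConjAct.normal_of_characteristic_of_normal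
  have hTp : IsPGroup q ((Q : Subgroup (fittingHall ↥M)).map (fittingHall ↥M).subtype) :=
    Q.isPGroup'.map _
  have hTidx : ¬ q ∣ ((Q : Subgroup (fittingHall ↥M)).map (fittingHall ↥M).subtype).index := by
    rw [Subgroup.index_map_subtype]
    intro hd
    rcases (Nat.Prime.dvd_mul hq).mp hd with h | h
    · exact Q.not_dvd_index h
    · have := Nat.Coprime.eq_one_of_dvd (Nat.Coprime.coprime_dvd_left hqd hHcop) h
      exact hq.one_lt.ne' this
  have hQ1 : (Q : Subgroup (fittingHall ↥M)) ≠ ⊥ := Q.ne_bot_of_dvd_card hqd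
  refine ⟨hq, hqd.trans ((Subgroup.card_subgroup_dvd_card _)), hTp.toSylow hTidx, ?_⟩
  have hT1 : (((Q : Subgroup (fittingHall ↥M)).map (fittingHall ↥M).subtype).map M.subtype) ≠ ⊥ := by
    intro h
    apply hQ1
    rw [Subgroup.map_eq_bot_iff_of_injective _ M.subtype_injective,
      Subgroup.map_eq_bot_iff_of_injective _ (Subgroup.subtype_injective _)] at h
    exact h
  have hle := le_normalizer_map_subtype M
    ((Q : Subgroup (fittingHall ↥M)).map (fittingHall ↥M).subtype)
  have := normalizer_eq_of_coatom hG hM (Subgroup.map_subtype_le _) hT1 hle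
  exact this.le

/-- if `M_σ` is nilpotent then `M_σ ≤ M_F`. -/
theorem sigmaCore_le_fittingHallOf_of_nil [Finite G] {M : Subgroup G}
    (hHall : IsPiHallOf (sigma M) (sigmaCore M) M) (hnil : Group.IsNilpotent (sigmaCore M)) :
    sigmaCore M ≤ fittingHallOf M := by
  have hcard : Nat.card (sigmaCore M) = Nat.card (piCore (sigma M) ↥M) := by
    unfold sigmaCore
    exact Subgroup.card_map_of_injective M.subtype_injective
  have hidx : (sigmaCore M).relIndex M = (piCore (sigma M) ↥M).index := by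
    unfold sigmaCore
    exact relIndex_map_subtype_eq _
  have hnil' : Group.IsNilpotent (piCore (sigma M) ↥M) := by
    have e : piCore (sigma M) ↥M ≃* sigmaCore M :=
      Subgroup.equivMapOfInjective _ _ M.subtype_injective
    haveI := hnil
    exact Group.nilpotent_of_mulEquiv e.symm
  have hcop : (Nat.card (piCore (sigma M) ↥M)).Coprime (piCore (sigma M) ↥M).index := by
    rw [← hcard, ← hidx]
    by_contra hnc
    obtain ⟨q, hq, h1, h2⟩ := Nat.Prime.not_coprime_iff_dvd.mp hnc
    exact hHall.2.2 q hq (hHall.2.1 q hq h1) h2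
  unfold fittingHallOf sigmaCore
  apply Subgroup.map_mono
  apply le_sSup
  exact ⟨inferInstance, hnil', hcop⟩

/-- `C_G(x) ≤ N_G(X)` for `X ≤ ⟨x⟩`. -/
theorem centralizer_le_normalizer_of_le_zpowers {x : G} {X : Subgroup G} (hX : X ≤ zpowers x) :
    centralizer ({x} : Set G) ≤ normalizer (X : Set G) := by
  intro c hc
  rw [mem_centralizer_singleton_iff] at hc
  have h1 : c ∈ centralizer (X : Set G) := by
    rw [mem_centralizer_iff]
    intro y hy
    obtain ⟨k, rfl⟩ := mem_zpowers_iff.mp (hX hy)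
    have : Commute c x := hc
    exact (this.zpow_right k).eq.symm
  exact centralizer_le_normalizer _ h1

/-- `κ(N)'`-elements of `N` lie in `U N_σ`. -/
theorem mem_U_sup_sigmaCore [Finite G] {N K U : Subgroup G} (hKU : IsSigmaDecomposition N K U)
    {x : G} (hxN : x ∈ N) (hx : ∀ q : ℕ, q.Prime → q ∣ orderOf x → q ∉ kappa N) :
    x ∈ U ⊔ sigmaCore N := by
  set H : Subgroup G := U ⊔ sigmaCore N with hH
  have hHN : H ≤ N := sup_le hKU.compl.1 (sigmaCore_le N)
  have hKn : K ≤ normalizer (H : Set G) := by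
    intro k hk
    apply mem_normalizer_of_cj_eq
    show (U ⊔ sigmaCore N).map _ = _
    rw [Subgroup.map_sup]
    have h1 : cj k U = U := cj_eq_self_of_mem_normalizer (hKU.normal hk)
    have h2 : cj k (sigmaCore N) = sigmaCore N :=
      cj_eq_self_of_mem_normalizer (le_normalizer_sigmaCore N (hKU.hall.1 hk))
    show cj k U ⊔ cj k (sigmaCore N) = _
    rw [h1, h2]
  have hNn : N ≤ normalizer (H : Set G) := by
    intro m hm
    obtain ⟨a, ha, b, hb, rfl⟩ := hKU.compl.2.2.2 m hm
    have h1 : a ∈ normalizer (H : Set G) := le_normalizer (mem_sup_left ha)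
    have h2 : K ⊔ sigmaCore N ≤ normalizer (H : Set G) :=
      sup_le hKn (le_sup_right.trans le_normalizer)
    exact mul_mem h1 (h2 hb)
  haveI : (H.subgroupOf N).Normal := (Subgroup.normal_subgroupOf_iff_le_normalizer hHN).mpr hNn
  have hpow : x ^ (H.relIndex N) ∈ H := by
    have := Subgroup.pow_index_mem (H.subgroupOf N) (⟨x, hxN⟩ : ↥N)
    rw [mem_subgroupOf] at this
    simpa [Subgroup.relIndex] using this
  -- relIndex H N = card K
  have hUs : sigmaCore N ⊓ U = ⊥ := by
    rw [eq_bot_iff]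
    intro z hz
    have : z ∈ U ⊓ (K ⊔ sigmaCore N) := ⟨hz.2, mem_sup_right hz.1⟩
    rwa [hKU.compl.2.2.1] at this
  have hcardH : Nat.card H = Nat.card (sigmaCore N) * Nat.card U := by
    have h := Cfsg.Agent.Helper50.card_sup_mul_card_inf_of_le_normalizer (sigmaCore N) U
      (hKU.compl.1.trans (le_normalizer_sigmaCore N))
    rw [hUs, Subgroup.card_bot, mul_one, sup_comm] at h
    exact h
  have hrel : H.relIndex N = Nat.card K := by
    have h1 := Cfsg.Agent.Helper55.BGB.card_mul_relIndex hHN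
    have h2 := Cfsg.Agent.Helper55.BGB.card_decomp hKU
    have hpos : 0 < Nat.card H := Nat.card_pos
    apply Nat.eq_of_mul_eq_mul_left hpos
    rw [h1, h2, hcardH]; ring
  rw [hrel] at hpow
  have hcop : (Nat.card K).Coprime (orderOf x) := by
    by_contra hnc
    obtain ⟨q, hq, h1, h2⟩ := Nat.Prime.not_coprime_iff_dvd.mp hnc
    exact hx q hq h2 (hKU.hall.2.1 q hq h1)
  have := Cfsg.Agent.Helper23.mem_sup_of_pow_mem_of_coprime H H hcop hpow
    (by rw [pow_orderOf_eq_one]; exact one_mem _)
  simpa using this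

end Cfsg.Agent.Helper60.BG144
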