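import Cfsg.Agent.Lib.Helper1.CD3.Defs
import Cfsg.Agent.Lib.Helper79.Inflation
import Cfsg.Agent.Lib.Helper76.CD2Basic
import Cfsg.Agent.S4458
import Mathlib

/-!
CD3B (P3) `sylow_der_comm` for helper1's lemma server (S4460): `P'` is abelian, via `cd(Φ/R) ⊆ {1, p^a}` and
S4458 (two character degrees => derived subgroup abelian).
-/

set_option autoImplicit false

namespace Cfsg.Agent.Helper60.CD3B

open Cfsg Cfsg.Agent.Helper81 Cfsg.Agent.Helper1.CD3

universe u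

/-- (P3) [MED-HARD] `P' ` is abelian.  Proof: `P ≃* Φ ⧸ R` (`R` normal `p`-complement).  For `φ ∈ Irr(Φ ⧸ R)` nonlinear,
the inflation to `Φ` is nonlinear of the same degree `d`, `d.factorization p = a` by `h2`, and `d ∣ |Φ/R| = p^k`
(degree divides order), so `d = p ^ a`.  So `cd(Φ/R) ⊆ {1, p^a}`; if `Φ/R` is nonabelian apply `Cfsg.Agent.S4458.result`
(with `m = p^a`) to get `(Φ/R)'` abelian; transport to `P`. -/
theorem sylow_der_comm {Φ : Type u} [Group Φ] [Finite Φ] (p a : ℕ) [Fact p.Prime] (ha : 0 < a)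
    (h2 : ∀ θ : Φ → ℂ, IsIrrCharacter Φ θ → θ 1 ≠ 1 → ∃ d : ℕ, θ 1 = (d : ℂ) ∧ d.factorization p = a)
    (R : Subgroup Φ) (hR : R.Normal) (hRc : (Nat.card R).Coprime p) (hRi : ∃ k : ℕ, R.index = p ^ k)
    (P : Sylow p Φ) :
    ∀ x ∈ ⁅(P : Subgroup Φ), (P : Subgroup Φ)⁆, ∀ y ∈ ⁅(P : Subgroup Φ), (P : Subgroup Φ)⁆, x * y = y * x := by
  classical
  haveI := hR
  have hp : p.Prime := Fact.out
  -- the character degrees of `Φ ⧸ R`
  have hcd : ∀ ψ : IrrCharacter (Φ ⧸ R),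
      charDegree (ψ : Φ ⧸ R → ℂ) = 1 ∨ charDegree (ψ : Φ ⧸ R → ℂ) = p ^ a := by
    intro ψ
    have hdeg : charDegree (Cfsg.Agent.Helper79.inflate R ψ : Φ → ℂ) = charDegree (ψ : Φ ⧸ R → ℂ) :=
      Cfsg.Agent.Helper79.charDegree_inflate R ψ
    obtain ⟨h1, -⟩ := Cfsg.Agent.Helper79.irr_one_eq (Cfsg.Agent.Helper79.inflate R ψ)
    by_cases hd1 : charDegree (ψ : Φ ⧸ R → ℂ) = 1
    · left; exact hd1
    right
    have hne : (Cfsg.Agent.Helper79.inflate R ψ : Φ → ℂ) 1 ≠ 1 := by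
      rw [h1, hdeg]
      intro h
      exact hd1 (by exact_mod_cast h)
    obtain ⟨d, hd, hfac⟩ := h2 _ (Cfsg.Agent.Helper79.inflate R ψ).2 hne
    have hdd : d = charDegree (ψ : Φ ⧸ R → ℂ) := by
      rw [h1, hdeg] at hd
      exact_mod_cast hd.symm
    obtain ⟨k, hk⟩ := hRi
    have hdvd : charDegree (ψ : Φ ⧸ R → ℂ) ∣ p ^ k := by
      have := Cfsg.Agent.Helper79.irr_degree_dvd_card ψ
      rwa [← Subgroup.index_eq_card, hk] at this
    obtain ⟨j, -, hjeq⟩ := (Nat.dvd_prime_pow hp).1 hdvd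
    rw [← hdd] at hjeq
    rw [hjeq, hp.factorization_pow, Finsupp.single_eq_same] at hfac
    rw [← hdd, hjeq, hfac]
  -- the derived subgroup of `Φ ⧸ R` is abelian
  have hQcomm : ∀ a' ∈ commutator (Φ ⧸ R), ∀ b' ∈ commutator (Φ ⧸ R), a' * b' = b' * a' := by
    by_cases hm : ∃ ψ : IrrCharacter (Φ ⧸ R), charDegree (ψ : Φ ⧸ R → ℂ) = p ^ a
    · exact Cfsg.Agent.S4458.result (p ^ a) hcd hm (Nat.one_lt_pow ha.ne' hp.one_lt).ne'
    · push Not at hm
      have hall : ∀ ψ : IrrCharacter (Φ ⧸ R), charDegree (ψ : Φ ⧸ R → ℂ) = 1 :=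
        fun ψ => (hcd ψ).resolve_right (hm ψ)
      have hc := Cfsg.Agent.Helper76.CD2.comm_of_all_linear hall
      intro a' _ b' _
      exact hc a' b'
  -- `P ⊓ R = ⊥`
  have hPR : ∀ g : Φ, g ∈ (P : Subgroup Φ) → g ∈ R → g = 1 := by
    intro g hgP hgR
    obtain ⟨k, hk⟩ := P.2 ⟨g, hgP⟩
    have hk' : g ^ (p ^ k) = 1 := by
      have := congrArg Subtype.val hk
      simpa using this
    have h1 : orderOf g ∣ p ^ k := orderOf_dvd_of_pow_eq_one hk'
    have h2' : orderOf g ∣ Nat.card R := by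
      have := orderOf_dvd_natCard (⟨g, hgR⟩ : R)
      rwa [Subgroup.orderOf_mk] at this
    have h3 : orderOf g ∣ Nat.gcd (Nat.card R) (p ^ k) := Nat.dvd_gcd h2' h1
    rw [Nat.Coprime.pow_right k hRc] at h3
    exact orderOf_eq_one_iff.1 (Nat.dvd_one.1 h3)
  -- transport
  intro x hx y hy
  have hle : ⁅(P : Subgroup Φ), (P : Subgroup Φ)⁆ ≤ (P : Subgroup Φ) := Subgroup.commutator_le_self _
  have hmap : ∀ z ∈ ⁅(P : Subgroup Φ), (P : Subgroup Φ)⁆,
      (QuotientGroup.mk' R) z ∈ commutator (Φ ⧸ R) := by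
    intro z hz
    have h1 : (QuotientGroup.mk' R) z ∈
        (⁅(P : Subgroup Φ), (P : Subgroup Φ)⁆).map (QuotientGroup.mk' R) :=
      Subgroup.mem_map_of_mem _ hz
    rw [Subgroup.map_commutator] at h1
    exact Subgroup.commutator_mono le_top le_top h1
  have hq := hQcomm _ (hmap x hx) _ (hmap y hy)
  rw [← map_mul, ← map_mul] at hq
  have hxy : (x * y)⁻¹ * (y * x) ∈ R := by
    have := QuotientGroup.eq.1 hq
    exact this
  have hxyP : (x * y)⁻¹ * (y * x) ∈ (P : Subgroup Φ) :=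
    (P : Subgroup Φ).mul_mem ((P : Subgroup Φ).inv_mem ((P : Subgroup Φ).mul_mem (hle hx) (hle hy)))
      ((P : Subgroup Φ).mul_mem (hle hy) (hle hx))
  have := hPR _ hxyP hxy
  exact (inv_mul_eq_one.1 this)

end Cfsg.Agent.Helper60.CD3B
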