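import Mathlib
import Cfsg.Agent.Lib.Helper64.S4017Defs

/-!
Auxiliary lemmas for helper60's pieces of helper64's S4017M lemma server.
-/

set_option autoImplicit false

namespace Cfsg.Agent.Helper60.S4017M

open Cfsg.Agent.Helper64.S4017

variable {G : Type*} [Group G] [Finite G] {a p : ℕ} {Q : Subgroup G} {x : G}

omit [Finite G] in
/-- powers of `g` map `H` into `H` under conjugation, if `g` does. -/
theorem aux_pow_conj_mem {H : Subgroup G} {g : G} (hg : ∀ h ∈ H, g * h * g⁻¹ ∈ H) (n : ℕ) :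
    ∀ h ∈ H, g ^ n * h * (g ^ n)⁻¹ ∈ H := by
  induction n with
  | zero => intro h hh; simpa using hh
  | succ n ih =>
    intro h hh
    have h1 := hg _ (ih h hh)
    have : g ^ (n + 1) * h * (g ^ (n + 1))⁻¹ = g * (g ^ n * h * (g ^ n)⁻¹) * g⁻¹ := by
      rw [pow_succ']; group
    rw [this]; exact h1

/-- in a finite group, the inverse of `g` maps `H` into `H` under conjugation, if `g` does. -/
theorem aux_inv_conj_mem {H : Subgroup G} {g : G} (hg : ∀ h ∈ H, g * h * g⁻¹ ∈ H) :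
    ∀ h ∈ H, g⁻¹ * h * g ∈ H := by
  intro h hh
  have hpos : 0 < orderOf g := orderOf_pos g
  have hinv : g ^ (orderOf g - 1) = g⁻¹ := by
    apply eq_inv_of_mul_eq_one_left
    rw [← pow_succ, Nat.sub_add_cancel hpos, pow_orderOf_eq_one]
  have := aux_pow_conj_mem hg (orderOf g - 1) h hh
  rwa [hinv, inv_inv] at this

/-- in a finite group, `g H g⁻¹ ⊆ H` implies `g ∈ N(H)`. -/
theorem aux_mem_normalizer {H : Subgroup G} {g : G} (hg : ∀ h ∈ H, g * h * g⁻¹ ∈ H) :
    g ∈ Subgroup.normalizer (H : Set G) := by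
  rw [Subgroup.mem_normalizer_iff]
  intro h
  refine ⟨hg h, fun hh => ?_⟩
  have := aux_inv_conj_mem hg _ hh
  have e : g⁻¹ * (g * h * g⁻¹) * g = h := by group
  rwa [e] at this

omit [Finite G] in
theorem aux_isPel_conj {c : G} (g : G) (hc : IsPel p c) : IsPel p (g * c * g⁻¹) := by
  obtain ⟨j, hj⟩ := hc
  refine ⟨j, ?_⟩
  rw [← hj]
  exact (SemiconjBy.orderOf_eq g (show SemiconjBy g c (g * c * g⁻¹) by
    unfold SemiconjBy; group)).symm

theorem aux_four_le (h : Setting a p Q x) : 4 ≤ 2 ^ a := by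
  calc 4 = 2 ^ 2 := by norm_num
    _ ≤ 2 ^ a := Nat.pow_le_pow_right (by norm_num) h.two_le

theorem aux_p_ne_two (h : Setting a p Q x) : p ≠ 2 := by
  intro hp
  have h4 := aux_four_le h
  have := h.p_eq
  omega

theorem aux_three_le_p (h : Setting a p Q x) : 3 ≤ p := by
  have h4 := aux_four_le h
  have := h.p_eq
  omega

/-- a `p`-element of order dividing `2` is trivial. -/
theorem aux_pel_sq (h : Setting a p Q x) {c : G} (hc : IsPel p c) (hcc : c * c = 1) : c = 1 := by
  obtain ⟨j, hj⟩ := hc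
  have hdvd : orderOf c ∣ 2 := orderOf_dvd_of_pow_eq_one (by rw [sq]; exact hcc)
  rcases Nat.eq_zero_or_pos j with h0 | h0
  · rw [h0, pow_zero] at hj
    exact orderOf_eq_one_iff.1 hj
  · exfalso
    have hp2 : p ∣ 2 := by
      refine dvd_trans ?_ hdvd
      rw [hj]
      exact dvd_pow_self p h0.ne'
    have := Nat.le_of_dvd (by norm_num) hp2
    have := aux_three_le_p h
    omega

theorem aux_Q_comm (h : Setting a p Q x) : ∀ s ∈ Q, ∀ s' ∈ Q, s * s' = s' * s := by
  intro s hs s' hs'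
  have h1 := h.elem s hs
  have h2 := h.elem s' hs'
  have h3 := h.elem (s * s') (Q.mul_mem hs hs')
  -- s s' s s' = 1 → s s' = s'⁻¹ s⁻¹ = s' s
  have e1 : s⁻¹ = s := inv_eq_of_mul_eq_one_right h1
  have e2 : s'⁻¹ = s' := inv_eq_of_mul_eq_one_right h2
  have e3 : (s * s')⁻¹ = s * s' := inv_eq_of_mul_eq_one_right h3
  rw [mul_inv_rev, e1, e2] at e3
  exact e3.symm

theorem aux_exists_ne_one (h : Setting a p Q x) : ∃ t ∈ Q, t ≠ 1 := by
  by_contra hne
  push Not at hne
  have : Q = ⊥ := (Subgroup.eq_bot_iff_forall _).2 hne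
  have hc := h.card_Q
  rw [this, Subgroup.card_bot] at hc
  have := aux_four_le h
  omega

/-- the elements of `Q` other than `1` are involutions, not `p`-elements. -/
theorem aux_not_pel (h : Setting a p Q x) {t : G} (ht : t ∈ Q) (ht1 : t ≠ 1) : ¬ IsPel p t :=
  fun hp => ht1 (aux_pel_sq h hp (h.elem t ht))

end Cfsg.Agent.Helper60.S4017M
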