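import Mathlib
import Cfsg.Agent.Lib.Helper64.S4017Defs
import Cfsg.Agent.Lib.Helper60.S4017MAux

/-!
S4017M (PGN) `Setting.pgroup_normalized` for helper64's lemma server (S4017).
-/

set_option autoImplicit false

namespace Cfsg.Agent.Helper60.S4017M

open Cfsg.Agent.Helper64.S4017

variable {G : Type*} [Group G] [Finite G] {a p : ℕ} {Q : Subgroup G} {x : G}

/-- (PGN) a `p`-subgroup normalised by `Q` and `x` centralises `Q`: if `E ≠ 1`, `N(E)` is proper and
contains `Q`, `x`, `E`; by Lemma H `E ≤ N(Q)`; then `[e, s] ∈ E ∩ Q = 1`. -/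
theorem Setting.pgroup_normalized (h : Setting a p Q x) (T : Tools a p Q x) (E : Subgroup G)
    (hE : ∀ e ∈ E, IsPel p e) (hQ : ∀ s ∈ Q, ∀ e ∈ E, s * e * s⁻¹ ∈ E)
    (hx : ∀ e ∈ E, x * e * x⁻¹ ∈ E) : ∀ e ∈ E, ∀ s ∈ Q, e * s = s * e := by
  intro e he s hs
  by_cases hbot : E = ⊥
  · rw [hbot, Subgroup.mem_bot] at he
    subst he
    simp
  have hNtop : Subgroup.normalizer (E : Set G) ≠ ⊤ := by
    intro htop
    have hn : E.Normal := Subgroup.normalizer_eq_top_iff.1 htop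
    haveI := h.simple
    rcases hn.eq_bot_or_eq_top with h1 | h1
    · exact hbot h1
    · obtain ⟨t, ht, ht1⟩ := aux_exists_ne_one h
      exact aux_not_pel h ht ht1 (hE t (by rw [h1]; trivial))
  have hQN : Q ≤ Subgroup.normalizer (E : Set G) := fun s hs => aux_mem_normalizer (hQ s hs)
  have hxN : x ∈ Subgroup.normalizer (E : Set G) := aux_mem_normalizer hx
  have hEN : E ≤ Subgroup.normalizer (E : Set G) := Subgroup.le_normalizer
  have h1 : e * s * e⁻¹ ∈ Q := T.lemmaH _ hNtop hQN hxN e (hEN he) s hs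
  have hcQ : e * s * e⁻¹ * s⁻¹ ∈ Q := Q.mul_mem h1 (Q.inv_mem hs)
  have hcE : e * s * e⁻¹ * s⁻¹ ∈ E := by
    have : e * s * e⁻¹ * s⁻¹ = e * (s * e⁻¹ * s⁻¹) := by group
    rw [this]
    exact E.mul_mem he (hQ s hs _ (E.inv_mem he))
  have hc1 : e * s * e⁻¹ * s⁻¹ = 1 := aux_pel_sq h (hE _ hcE) (h.elem _ hcQ)
  have : e * s = (e * s * e⁻¹ * s⁻¹) * (s * e) := by group
  rw [this, hc1, one_mul]

end Cfsg.Agent.Helper60.S4017M
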