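import Mathlib
import Cfsg.Agent.Lib.Helper64.S4017Defs
import Cfsg.Agent.Lib.Helper60.S4017MAux

/-!
S4017M (P1C) `Setting.p1ne_of_p1ne` for helper64's lemma server (S4017).
-/

set_option autoImplicit false

namespace Cfsg.Agent.Helper60.S4017M

open Cfsg.Agent.Helper64.S4017
open scoped Pointwise

variable {G : Type*} [Group G] [Finite G] {a p : ℕ} {Q : Subgroup G} {x : G}

/-- the `2`-part of `|G|` is `2 ^ a`. -/
theorem aux_factorization_two (h : Setting a p Q x) : (Nat.card G).factorization 2 = a := by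
  have hG : Nat.card G ≠ 0 := Nat.card_pos.ne'
  have h1 : 2 ^ a ∣ Nat.card G := by
    rw [← h.card_Q]
    exact Subgroup.card_subgroup_dvd_card Q
  have h2 := h.sylow
  rw [Nat.prime_two.pow_dvd_iff_le_factorization hG] at h1 h2
  omega

/-- the `Q`'s of two settings are conjugate (Sylow). -/
theorem aux_conj_Q (h : Setting a p Q x) {Q' : Subgroup G} {x' : G} (h' : Setting a p Q' x') :
    ∃ g : G, ∀ s : G, s ∈ Q' ↔ ∃ r ∈ Q, g * r * g⁻¹ = s := by
  haveI : Fact (Nat.Prime 2) := ⟨Nat.prime_two⟩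
  have hf := aux_factorization_two h
  let P : Sylow 2 G := Sylow.ofCard Q (by rw [h.card_Q, hf])
  let P' : Sylow 2 G := Sylow.ofCard Q' (by rw [h'.card_Q, hf])
  obtain ⟨g, hg⟩ := MulAction.exists_smul_eq G P P'
  refine ⟨g, fun s => ?_⟩
  have hQ' : Q' = MulAut.conj g • Q := by
    have := congrArg (fun S : Sylow 2 G => (S : Subgroup G)) hg
    simpa [P, P', Sylow.pointwise_smul_def, Sylow.smul_def] using this.symm
  rw [hQ', Subgroup.mem_smul_pointwise_iff_exists]
  simp only [MulAut.smul_def, MulAut.conj_apply]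

/-- (P1C) `P₁ ≠ 1` does not depend on the setting. -/
theorem Setting.p1ne_of_p1ne {Q' : Subgroup G} {x' : G} (h : Setting a p Q x)
    (h' : Setting a p Q' x') (hP1 : P1ne p Q) : P1ne p Q' := by
  obtain ⟨c, hc1, hcp, hcQ⟩ := hP1
  obtain ⟨g, hg⟩ := aux_conj_Q h h'
  refine ⟨g * c * g⁻¹, ?_, aux_isPel_conj g hcp, ?_⟩
  · intro hh
    apply hc1
    have : c = g⁻¹ * (g * c * g⁻¹) * g := by group
    rw [this, hh]; group
  · intro s hs
    obtain ⟨r, hr, rfl⟩ := (hg s).1 hs
    have := hcQ r hr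
    calc g * c * g⁻¹ * (g * r * g⁻¹) = g * (c * r) * g⁻¹ := by group
      _ = g * (r * c) * g⁻¹ := by rw [this]
      _ = g * r * g⁻¹ * (g * c * g⁻¹) := by group

end Cfsg.Agent.Helper60.S4017M
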