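import Mathlib
import Cfsg.Agent.Lib.Helper64.S4017Defs
import Cfsg.Agent.Lib.Helper60.S4017MAux

/-!
S4017M (M3) `Setting.m3` for helper64's lemma server (S4017).
-/

set_option autoImplicit false

namespace Cfsg.Agent.Helper60.S4017M

open Cfsg.Agent.Helper64.S4017

variable {G : Type*} [Group G] [Finite G] {a p : ℕ} {Q : Subgroup G} {x : G}

/-- (M3) `P₁ = Z_t ∩ C(Q)` is a `p`-group normalised by `x`, so `P₁⟨x⟩` is a `p`-group, lies in a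
Sylow `p`-subgroup, which is abelian. -/
theorem Setting.m3 (h : Setting a p Q x)
    (hct : ∀ t ∈ Q, t ≠ 1 → ∃ Z : Subgroup G, (∀ z, z ∈ Z ↔ (z * t = t * z ∧ IsPel p z)) ∧
      ∀ z ∈ Z, ∀ z' ∈ Z, z * z' = z' * z)
    {c : G} (hc : IsPel p c) (hcQ : ∀ s ∈ Q, c * s = s * c) : c * x = x * c := by
  haveI : Fact p.Prime := ⟨h.prime⟩
  obtain ⟨t, ht, ht1⟩ := aux_exists_ne_one h
  obtain ⟨Z, hZ, -⟩ := hct t ht ht1
  set P₁ : Subgroup G := Z ⊓ Subgroup.centralizer (Q : Set G) with hP₁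
  have hmem : ∀ z : G, z ∈ P₁ ↔ (IsPel p z ∧ ∀ s ∈ Q, z * s = s * z) := by
    intro z
    rw [hP₁, Subgroup.mem_inf, hZ, Subgroup.mem_centralizer_iff]
    constructor
    · rintro ⟨⟨_, hz⟩, hs⟩
      exact ⟨hz, fun s hs' => (hs s hs').symm⟩
    · rintro ⟨hz, hs⟩
      exact ⟨⟨hs t ht, hz⟩, fun s hs' => (hs s hs').symm⟩
  have hP₁p : IsPGroup p P₁ := by
    intro g
    obtain ⟨j, hj⟩ := ((hmem g.1).1 g.2).1
    refine ⟨j, ?_⟩
    apply Subtype.ext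
    rw [Subgroup.coe_pow, ← hj, pow_orderOf_eq_one]
    rfl
  have hxp : IsPGroup p (Subgroup.zpowers x) := by
    obtain ⟨j, hj⟩ := h.x_pel
    exact IsPGroup.of_card (n := j) (by rw [Nat.card_zpowers, hj])
  have hxinv : ∀ s ∈ Q, x⁻¹ * s * x ∈ Q := aux_inv_conj_mem h.x_norm
  have hnorm : ∀ z ∈ P₁, x * z * x⁻¹ ∈ P₁ := by
    intro z hz
    obtain ⟨hzp, hzQ⟩ := (hmem z).1 hz
    refine (hmem _).2 ⟨aux_isPel_conj x hzp, fun s hs => ?_⟩
    have h1 := hzQ _ (hxinv s hs)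
    calc x * z * x⁻¹ * s = x * (z * (x⁻¹ * s * x)) * x⁻¹ := by group
      _ = x * ((x⁻¹ * s * x) * z) * x⁻¹ := by rw [h1]
      _ = s * (x * z * x⁻¹) := by group
  have hle : Subgroup.zpowers x ≤ Subgroup.normalizer (P₁ : Set G) :=
    (Subgroup.zpowers_le).2 (aux_mem_normalizer hnorm)
  have hsup : IsPGroup p (Subgroup.zpowers x ⊔ P₁ : Subgroup G) :=
    hxp.to_sup_of_normal_right' hP₁p hle
  obtain ⟨S, hS⟩ := hsup.exists_le_sylow
  have hcS : c ∈ S := hS (Subgroup.mem_sup_right ((hmem c).2 ⟨hc, hcQ⟩))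
  have hxS : x ∈ S := hS (Subgroup.mem_sup_left (Subgroup.mem_zpowers x))
  exact h.abel S c hcS x hxS

end Cfsg.Agent.Helper60.S4017M
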