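import Mathlib
import Cfsg.Prelude.Def_Transfer
import Cfsg.Agent.Lib.Helper24.CYCDefs

/-!
CYC piece (FR) `no_regular_friendship` for helper24's lemma server (row S4016): there is no regular
friendship graph of valency `≥ 3`.

Adapted (fresh names, explicit decidability instances) from Mathlib's
`Archive/Wiedijk100Theorems/FriendshipGraphs.lean` (Aaron Anderson, Jalex Stark, Kyle Miller; Apache 2.0).
-/

set_option autoImplicit false

namespace Cfsg.Agent.Helper60.CYC

open Finset SimpleGraph Matrix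

section FR

variable {V : Type*} [Fintype V] [DecidableEq V] {R : Type*} [Semiring R]
  {Γ : SimpleGraph V} [DecidableRel Γ.Adj] {d : ℕ}

theorem fr_adjMatrix_sq_of_ne (hG : ∀ v w : V, v ≠ w → ∃! x : V, Γ.Adj v x ∧ Γ.Adj w x)
    {v w : V} (hvw : v ≠ w) : (Γ.adjMatrix R ^ 2 : Matrix V V R) v w = 1 := by
  rw [sq, Matrix.mul_apply]
  obtain ⟨a, ⟨hva, hwa⟩, huniq⟩ := hG v w hvw
  rw [Finset.sum_eq_single a]
  · simp [adjMatrix_apply, hva, hwa.symm]
  · intro b _ hba
    simp only [adjMatrix_apply]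
    by_cases h1 : Γ.Adj v b
    · by_cases h2 : Γ.Adj b w
      · exact absurd (huniq b ⟨h1, h2.symm⟩) hba
      · simp [h2]
    · simp [h1]
  · intro h; exact absurd (mem_univ a) h

theorem fr_adjMatrix_sq_of_regular (hG : ∀ v w : V, v ≠ w → ∃! x : V, Γ.Adj v x ∧ Γ.Adj w x)
    (hd : Γ.IsRegularOfDegree d) :
    Γ.adjMatrix R ^ 2 = of fun v w => if v = w then (d : R) else (1 : R) := by
  ext v w
  by_cases h : v = w
  · rw [h, sq, adjMatrix_mul_self_apply_self, hd]; simp
  · rw [fr_adjMatrix_sq_of_ne hG h, of_apply, if_neg h]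

theorem fr_adjMatrix_sq_mod_p_of_regular (hG : ∀ v w : V, v ≠ w → ∃! x : V, Γ.Adj v x ∧ Γ.Adj w x)
    {q : ℕ} (dmod : (d : ZMod q) = 1)
    (hd : Γ.IsRegularOfDegree d) : Γ.adjMatrix (ZMod q) ^ 2 = of fun _ _ => 1 := by
  rw [fr_adjMatrix_sq_of_regular hG hd, dmod]
  ext v w
  simp

theorem fr_card_of_regular [Nonempty V] (hG : ∀ v w : V, v ≠ w → ∃! x : V, Γ.Adj v x ∧ Γ.Adj w x)
    (hd : Γ.IsRegularOfDegree d) : d + (Fintype.card V - 1) = d * d := by
  have v := Classical.arbitrary V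
  trans ((Γ.adjMatrix ℕ ^ 2) *ᵥ (fun _ => 1)) v
  · rw [fr_adjMatrix_sq_of_regular hG hd, mulVec, dotProduct, ← insert_erase (mem_univ v)]
    simp only [sum_insert, mul_one, if_true, Nat.cast_id, mem_erase, not_true,
      Ne, not_false_iff, add_right_inj, false_and, of_apply]
    rw [Finset.sum_const_nat, card_erase_of_mem (mem_univ v), mul_one]; · rfl
    intro x hx; simp [(ne_of_mem_erase hx).symm]
  · rw [sq, ← mulVec_mulVec]
    simp only [adjMatrix_mulVec_const_apply_of_regular hd, neighborFinset,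
      Function.const_def, adjMatrix_mulVec_apply _ _ (mulVec _ _),
      mul_one, Nat.cast_id]
    show ∑ _x ∈ (Γ.neighborSet v).toFinset, d = d * d
    rw [Finset.sum_const, smul_eq_mul, Set.toFinset_card, card_neighborSet_eq_degree, hd v]

theorem fr_card_mod_p_of_regular [Nonempty V]
    (hG : ∀ v w : V, v ≠ w → ∃! x : V, Γ.Adj v x ∧ Γ.Adj w x) {q : ℕ} (dmod : (d : ZMod q) = 1)
    (hd : Γ.IsRegularOfDegree d) : (Fintype.card V : ZMod q) = 1 := by
  have hpos : 0 < Fintype.card V := Fintype.card_pos_iff.mpr inferInstance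
  rw [← Nat.succ_pred_eq_of_pos hpos, Nat.succ_eq_add_one, Nat.pred_eq_sub_one]
  simp only [add_eq_right, Nat.cast_add, Nat.cast_one]
  have h := congr_arg (fun n : ℕ => (n : ZMod q)) (fr_card_of_regular hG hd)
  revert h; simp [dmod]

theorem fr_adjMatrix_mul_const_one_of_regular (hd : Γ.IsRegularOfDegree d) :
    Γ.adjMatrix R * of (fun _ _ => 1) = of (fun _ _ => (d : R)) := by
  ext x
  simp only [← hd x, degree, adjMatrix_mul_apply, sum_const, Nat.smul_one_eq_cast,
    of_apply]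

theorem fr_adjMatrix_mul_const_one_mod_p_of_regular {q : ℕ} (dmod : (d : ZMod q) = 1)
    (hd : Γ.IsRegularOfDegree d) :
    Γ.adjMatrix (ZMod q) * of (fun _ _ => 1) = of (fun _ _ => 1) := by
  rw [fr_adjMatrix_mul_const_one_of_regular hd, dmod]

theorem fr_adjMatrix_pow_mod_p_of_regular
    (hG : ∀ v w : V, v ≠ w → ∃! x : V, Γ.Adj v x ∧ Γ.Adj w x) {q : ℕ} (dmod : (d : ZMod q) = 1)
    (hd : Γ.IsRegularOfDegree d) {k : ℕ} (hk : 2 ≤ k) :
    Γ.adjMatrix (ZMod q) ^ k = of (fun _ _ => 1) := by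
  match k with
  | 0 | 1 => exfalso; linarith
  | k + 2 =>
    induction k with
    | zero => exact fr_adjMatrix_sq_mod_p_of_regular hG dmod hd
    | succ k hind =>
      rw [pow_succ', hind (Nat.le_add_left 2 k)]
      exact fr_adjMatrix_mul_const_one_mod_p_of_regular dmod hd

theorem fr_false_of_three_le_degree [Nonempty V]
    (hG : ∀ v w : V, v ≠ w → ∃! x : V, Γ.Adj v x ∧ Γ.Adj w x)
    (hd : Γ.IsRegularOfDegree d) (h : 3 ≤ d) : False := by
  -- get a prime factor of d - 1
  let q : ℕ := (d - 1).minFac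
  have p_dvd_d_pred := (ZMod.natCast_eq_zero_iff _ _).mpr (d - 1).minFac_dvd
  have dpos : 1 ≤ d := by omega
  have : Fact q.Prime := ⟨Nat.minFac_prime (by omega)⟩
  have hp2 : 2 ≤ q := (Fact.out (p := q.Prime)).two_le
  have dmod : (d : ZMod q) = 1 := by
    rw [← Nat.succ_pred_eq_of_pos dpos, Nat.succ_eq_add_one, Nat.pred_eq_sub_one]
    simp only [add_eq_right, Nat.cast_add, Nat.cast_one]
    exact p_dvd_d_pred
  have Vmod := fr_card_mod_p_of_regular hG dmod hd
  -- now we reduce to a trace calculation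
  have := ZMod.trace_pow_card (Γ.adjMatrix (ZMod q))
  contrapose! this; clear this
  -- the trace is 0 mod p when computed one way
  rw [trace_adjMatrix, zero_pow this.out.ne_zero]
  -- but the trace is 1 mod p when computed the other way
  rw [fr_adjMatrix_pow_mod_p_of_regular hG dmod hd hp2]
  dsimp only [Fintype.card] at Vmod
  simp only [Matrix.trace, Matrix.diag, mul_one, nsmul_eq_mul, sum_const,
    of_apply, Ne]
  rw [Vmod, ← Nat.cast_one (R := ZMod (Nat.minFac (d - 1))), ZMod.natCast_eq_zero_iff,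
    Nat.dvd_one, Nat.minFac_eq_one_iff]
  omega

end FR

/-- (FR) No regular friendship graph of valency `≥ 3`. -/
theorem no_regular_friendship {V : Type*} [Fintype V] [Nonempty V] (Γ : SimpleGraph V) [DecidableRel Γ.Adj] (d : ℕ)
    (hfr : ∀ v w : V, v ≠ w → ∃! x : V, Γ.Adj v x ∧ Γ.Adj w x) (hreg : Γ.IsRegularOfDegree d) (h3 : 3 ≤ d) : False := by
  classical
  exact fr_false_of_three_le_degree hfr hreg h3

end Cfsg.Agent.Helper60.CYC
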