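import Mathlib
import Cfsg.Agent.Lib.Helper3.S4017DDefs
import Cfsg.Agent.Lib.Helper60.CYCFR

/-!
S4017D (F3) `friendship_false` for helper3's lemma server (case D of S4017): the commuting graph on involutions is a
regular friendship graph of valency `d ≥ 3`, impossible by `Cfsg.Agent.Helper60.CYC.no_regular_friendship`.
-/

set_option autoImplicit false

namespace Cfsg.Agent.Helper60.S4017D

open Cfsg.Agent.Helper3.S4017

variable {G : Type*} [Group G] [Finite G]

/-- The commuting graph on the involutions of `G`. -/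
def f3Graph (G : Type*) [Group G] : SimpleGraph {z : G // orderOf z = 2} where
  Adj v w := v ≠ w ∧ Commute v.1 w.1
  symm := ⟨fun _ _ h => ⟨h.1.symm, h.2.symm⟩⟩
  loopless := ⟨fun _ h => h.1 rfl⟩

theorem f3Graph_adj {G : Type*} [Group G] (v w : {z : G // orderOf z = 2}) :
    (f3Graph G).Adj v w ↔ v ≠ w ∧ Commute v.1 w.1 := Iff.rfl

/-- The graph core: regular of degree `d ≥ 3` + friendship property is impossible. -/
theorem f3_core (d : ℕ) (h3 : 3 ≤ d)
    (hne : ∃ z : G, orderOf z = 2)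
    (hreg : ∀ z : G, orderOf z = 2 → Nat.card {v : G // orderOf v = 2 ∧ v ≠ z ∧ Commute v z} = d)
    (hfr : ∀ s u : G, orderOf s = 2 → orderOf u = 2 → s ≠ u →
      ∃! v : G, orderOf v = 2 ∧ (v ≠ s ∧ Commute v s) ∧ (v ≠ u ∧ Commute v u)) : False := by
  classical
  letI : Fintype {z : G // orderOf z = 2} := Fintype.ofFinite _
  have : Nonempty {z : G // orderOf z = 2} := let ⟨z, hz⟩ := hne; ⟨⟨z, hz⟩⟩
  refine Cfsg.Agent.Helper60.CYC.no_regular_friendship (f3Graph G) d ?_ ?_ h3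
  · intro v w hvw
    obtain ⟨x, ⟨hx2, ⟨hxs, hcs⟩, ⟨hxu, hcu⟩⟩, huniq⟩ :=
      hfr v.1 w.1 v.2 w.2 (fun h => hvw (Subtype.ext h))
    refine ⟨⟨x, hx2⟩, ⟨(f3Graph_adj _ _).2 ⟨fun h => hxs (congrArg Subtype.val h).symm, hcs.symm⟩,
      (f3Graph_adj _ _).2 ⟨fun h => hxu (congrArg Subtype.val h).symm, hcu.symm⟩⟩, ?_⟩
    rintro ⟨y, hy2⟩ ⟨h1, h2⟩
    obtain ⟨hys, hcs'⟩ := (f3Graph_adj _ _).1 h1
    obtain ⟨hyu, hcu'⟩ := (f3Graph_adj _ _).1 h2
    apply Subtype.ext
    exact huniq y ⟨hy2, ⟨fun h => hys (Subtype.ext h.symm), hcs'.symm⟩,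
      ⟨fun h => hyu (Subtype.ext h.symm), hcu'.symm⟩⟩
  · intro v
    rw [← SimpleGraph.card_neighborSet_eq_degree, Fintype.card_eq_nat_card, ← hreg v.1 v.2]
    refine Nat.card_congr
      ⟨fun x => ⟨x.1.1, x.1.2, fun h => ((f3Graph_adj _ _).1 x.2).1 (Subtype.ext h.symm),
          ((f3Graph_adj _ _).1 x.2).2.symm⟩,
       fun y => ⟨⟨y.1, y.2.1⟩,
          (f3Graph_adj _ _).2 ⟨fun h => y.2.2.1 (congrArg Subtype.val h).symm, y.2.2.2.symm⟩⟩,
       fun x => ?_, fun y => ?_⟩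
    · rfl
    · rfl

/-! ### local copies of (F1), (F2a), (F2b) (so that this file depends on nothing else) -/

omit [Finite G] in
theorem f3_inv_eq {s : G} (hs : orderOf s = 2) : s⁻¹ = s := by
  have h := pow_orderOf_eq_one s
  rw [hs, sq] at h
  exact inv_eq_of_mul_eq_one_right h

omit [Finite G] in
theorem f3_ne_one {s : G} (hs : orderOf s = 2) : s ≠ 1 := by
  rintro rfl
  rw [orderOf_one] at hs
  omega

omit [Finite G] in
theorem f3_conj_left {s u : G} (hs : orderOf s = 2) (hu : orderOf u = 2) :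
    s * (s * u) * s⁻¹ = (s * u)⁻¹ := by
  have hss : s * s = 1 := by
    have h := pow_orderOf_eq_one s
    rwa [hs, sq] at h
  rw [mul_inv_rev, f3_inv_eq hs, f3_inv_eq hu, ← mul_assoc, hss, one_mul]

omit [Finite G] in
theorem f3_conj_right {s u : G} (hs : orderOf s = 2) (hu : orderOf u = 2) :
    u * (s * u) * u⁻¹ = (s * u)⁻¹ := by
  rw [mul_inv_rev, f3_inv_eq hs, mul_assoc, mul_assoc, mul_inv_cancel, mul_one, f3_inv_eq hu]

omit [Finite G] in
theorem f3_comm_of_left {s u : G} (h : Commute (s * u) s) : Commute s u := by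
  have h1 : s * (u * s) = s * (s * u) := by rw [← mul_assoc]; exact h.eq
  have h2 : u * s = s * u := mul_left_cancel h1
  exact (show Commute u s from h2).symm

omit [Finite G] in
theorem f3_comm_of_right {s u : G} (h : Commute (s * u) u) : Commute s u := by
  have h1 : s * u * u = u * s * u := by rw [mul_assoc u s u]; exact h.eq
  exact (mul_right_cancel h1 : s * u = u * s)

omit [Finite G] in
theorem f3_common_of_commute
    (hcomm : ∀ s u : G, orderOf s = 2 → orderOf u = 2 → s ≠ u → Commute s u →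
      ∀ v : G, orderOf v = 2 → Commute v s → Commute v u → v = s ∨ v = u ∨ v = s * u)
    (s u : G) (hs : orderOf s = 2) (hu : orderOf u = 2) (hsu : s ≠ u) (hc : Commute s u) :
    ∃! v : G, orderOf v = 2 ∧ (v ≠ s ∧ Commute v s) ∧ (v ≠ u ∧ Commute v u) := by
  have hs1 := f3_ne_one hs
  have hu1 := f3_ne_one hu
  have hsu1 : s * u ≠ 1 := by
    intro h
    apply hsu
    have := eq_inv_of_mul_eq_one_left h
    rwa [f3_inv_eq hu] at this
  have hord : orderOf (s * u) = 2 := by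
    refine orderOf_eq_prime ?_ hsu1
    rw [hc.mul_pow, ← hs, pow_orderOf_eq_one, hs, ← hu, pow_orderOf_eq_one, one_mul]
  refine ⟨s * u, ⟨hord, ⟨?_, (Commute.refl s).mul_left hc.symm⟩, ⟨?_, hc.mul_left (Commute.refl u)⟩⟩, ?_⟩
  · intro h
    exact hu1 (by simpa using h)
  · intro h
    exact hs1 (by simpa using h)
  · rintro v ⟨hv, ⟨hvs, hcs⟩, ⟨hvu, hcu⟩⟩
    rcases hcomm s u hs hu hsu hc v hv hcs hcu with h | h | h
    · exact absurd h hvs
    · exact absurd h hvu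
    · exact h

omit [Finite G] in
theorem f3_common_of_odd
    (hζ : ∀ y : G, (∃ b : ℕ, 1 ≤ b ∧ orderOf y = 3 ^ b) → ∃ z : G, orderOf z = 2 ∧
      (∀ g : G, g * y * g⁻¹ ∈ Subgroup.zpowers y → Commute g z) ∧ (∀ v : G, orderOf v = 2 → Commute v y → v = z))
    (s u : G) (hs : orderOf s = 2) (hu : orderOf u = 2) (hc : ¬ Commute s u) (b : ℕ) (hb : orderOf (s * u) = 3 ^ b) :
    ∃! v : G, orderOf v = 2 ∧ (v ≠ s ∧ Commute v s) ∧ (v ≠ u ∧ Commute v u) := by
  have hb1 : 1 ≤ b := by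
    rcases Nat.eq_zero_or_pos b with h0 | h0
    · exfalso
      rw [h0, pow_zero, orderOf_eq_one_iff] at hb
      apply hc
      have := eq_inv_of_mul_eq_one_left hb
      rw [f3_inv_eq hu] at this
      rw [this]
    · exact h0
  obtain ⟨z, hz2, h1, h2⟩ := hζ (s * u) ⟨b, hb1, hb⟩
  have hsz : Commute s z := h1 s (by rw [f3_conj_left hs hu]; exact inv_mem (Subgroup.mem_zpowers _))
  have huz : Commute u z := h1 u (by rw [f3_conj_right hs hu]; exact inv_mem (Subgroup.mem_zpowers _))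
  have hyz : Commute (s * u) z := hsz.mul_left huz
  refine ⟨z, ⟨hz2, ⟨?_, hsz.symm⟩, ⟨?_, huz.symm⟩⟩, ?_⟩
  · rintro rfl
    exact hc (f3_comm_of_left hyz)
  · rintro rfl
    exact hc (f3_comm_of_right hyz)
  · rintro v ⟨hv, ⟨_, hcs⟩, ⟨_, hcu⟩⟩
    exact h2 v hv (hcs.mul_right hcu)

omit [Finite G] in
theorem f3_common_of_even
    (hζ : ∀ y : G, (∃ b : ℕ, 1 ≤ b ∧ orderOf y = 3 ^ b) → ∃ z : G, orderOf z = 2 ∧
      (∀ g : G, g * y * g⁻¹ ∈ Subgroup.zpowers y → Commute g z) ∧ (∀ v : G, orderOf v = 2 → Commute v y → v = z))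
    (s u : G) (hs : orderOf s = 2) (hu : orderOf u = 2) (hc : ¬ Commute s u) (b : ℕ) (hb : orderOf (s * u) = 2 * 3 ^ b) :
    ∃! v : G, orderOf v = 2 ∧ (v ≠ s ∧ Commute v s) ∧ (v ≠ u ∧ Commute v u) := by
  set c := s * u with hcdef
  have hb1 : 1 ≤ b := by
    rcases Nat.eq_zero_or_pos b with h0 | h0
    · exfalso
      rw [h0, pow_zero, mul_one] at hb
      apply hc
      -- c has order 2, so c⁻¹ = c, i.e. u * s = s * u
      have h := f3_inv_eq hb
      rw [hcdef, mul_inv_rev, f3_inv_eq hs, f3_inv_eq hu] at h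
      exact (show Commute u s from h).symm
    · exact h0
  have h3pos : 0 < 3 ^ b := pow_pos (by norm_num) b
  set z₀ := c ^ (3 ^ b) with hz₀
  have hz₀2 : orderOf z₀ = 2 := by
    rw [hz₀, orderOf_pow_of_dvd h3pos.ne' (by rw [hb]; exact Dvd.intro_left 2 rfl), hb]
    exact Nat.mul_div_cancel 2 h3pos
  have hconj : ∀ g : G, g * c * g⁻¹ = c⁻¹ → Commute g z₀ := by
    intro g hg
    have h : g * z₀ * g⁻¹ = z₀ := by
      rw [hz₀, ← conj_pow, hg, inv_pow, ← hz₀, f3_inv_eq hz₀2]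
    have : g * z₀ = z₀ * g := by
      calc g * z₀ = g * z₀ * g⁻¹ * g := by group
        _ = z₀ * g := by rw [h]
    exact this
  have hsz : Commute s z₀ := hconj s (f3_conj_left hs hu)
  have huz : Commute u z₀ := hconj u (f3_conj_right hs hu)
  have hcz : Commute c z₀ := (Commute.refl c).pow_right _
  set y := c ^ 2 with hy
  have hyord : orderOf y = 3 ^ b := by
    rw [hy, orderOf_pow_of_dvd (by norm_num) (by rw [hb]; exact Dvd.intro _ rfl), hb]
    exact Nat.mul_div_cancel_left _ (by norm_num)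
  obtain ⟨z, hz2, h1, h2⟩ := hζ y ⟨b, hb1, hyord⟩
  have hzz : z₀ = z := h2 z₀ hz₀2 (by
    rw [hy, hz₀]
    exact ((Commute.refl c).pow_pow _ _))
  refine ⟨z₀, ⟨hz₀2, ⟨?_, hsz.symm⟩, ⟨?_, huz.symm⟩⟩, ?_⟩
  · intro h
    rw [h] at hcz
    exact hc (f3_comm_of_left hcz)
  · intro h
    rw [h] at hcz
    exact hc (f3_comm_of_right hcz)
  · rintro v ⟨hv, ⟨_, hcs⟩, ⟨_, hcu⟩⟩
    rw [hzz]
    exact h2 v hv ((hcs.mul_right hcu).pow_right 2)

/-- (F3) [ABSTRACT, ASM of F1, F2a, F2b + Helper60 `no_regular_friendship`] the friendship contradiction.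
Graph on `V = {z : G // orderOf z = 2}` (`Fintype.ofFinite`), `Adj v w := v ≠ w ∧ Commute v.1 w.1`; `hord` splits `i = 0` / `i = 1`;
regular of degree `d` by `hreg` (`Nat.card` of the neighbour set). -/
theorem friendship_false (d : ℕ) (h3 : 3 ≤ d)
    (hne : ∃ z : G, orderOf z = 2)
    (hreg : ∀ z : G, orderOf z = 2 → Nat.card {v : G // orderOf v = 2 ∧ v ≠ z ∧ Commute v z} = d)
    (hcomm : ∀ s u : G, orderOf s = 2 → orderOf u = 2 → s ≠ u → Commute s u →
      ∀ v : G, orderOf v = 2 → Commute v s → Commute v u → v = s ∨ v = u ∨ v = s * u)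
    (hord : ∀ s u : G, orderOf s = 2 → orderOf u = 2 → ∃ i b : ℕ, i ≤ 1 ∧ orderOf (s * u) = 2 ^ i * 3 ^ b)
    (hζ : ∀ y : G, (∃ b : ℕ, 1 ≤ b ∧ orderOf y = 3 ^ b) → ∃ z : G, orderOf z = 2 ∧
      (∀ g : G, g * y * g⁻¹ ∈ Subgroup.zpowers y → Commute g z) ∧ (∀ v : G, orderOf v = 2 → Commute v y → v = z)) :
    False := by
  refine f3_core d h3 hne hreg ?_
  intro s u hs hu hsu
  by_cases hc : Commute s u
  · exact f3_common_of_commute hcomm s u hs hu hsu hc
  · obtain ⟨i, b, hi, hb⟩ := hord s u hs hu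
    interval_cases i
    · rw [pow_zero, one_mul] at hb
      exact f3_common_of_odd hζ s u hs hu hc b hb
    · rw [pow_one] at hb
      exact f3_common_of_even hζ s u hs hu hc b hb

end Cfsg.Agent.Helper60.S4017D
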