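import Mathlib
import Cfsg.Agent.Lib.Helper60.BG144b
import Cfsg.Agent.Lib.Helper52.CoprimeHall
import Cfsg.Agent.Lib.Helper50.SubnormalSylow

/-!
# B-G Theorem 13.9 (sigma-partition): general plumbing (no frozen rows)
-/

set_option autoImplicit false
set_option linter.style.haveILetI false

namespace Cfsg.Agent.Helper60.BG139

open Subgroup Cfsg
open Cfsg.Agent.Helper79.BG10 (cj mem_cj conj_mem_cj cj_mul cj_one cj_mono cj_le_iff card_cj
  isPGroup_cj cj_eq_self_of_mem cj_eq_self_of_mem_normalizer mem_normalizer_of_cj_eq cj_inv_cj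
  cj_cj_inv)
open Cfsg.Agent.Helper84 (IsSylIn)

variable {G : Type*} [Group G]

/-- Hall `π`-subgroup of a solvable subgroup `M` over a given `r`-subgroup, `r ∈ π`. -/
theorem exists_hall_ge [Finite G] {M T : Subgroup G} (hsol : Group.IsSolvable M) (π : Set ℕ)
    {r : ℕ} [hr' : Fact r.Prime] (hr : r ∈ π) (hT : IsPGroup r T) (hTM : T ≤ M) :
    ∃ K : Subgroup G, IsPiHallOf π K M ∧ T ≤ K := by
  have hM0 : Nat.card M ≠ 0 := Nat.card_pos.ne'
  obtain ⟨K₀, hK₀M, hK₀c⟩ := Cfsg.Agent.Helper52.hall_exists_internal M hsol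
    (Cfsg.Agent.Helper52.piPart π (Nat.card M)) (Cfsg.Agent.Helper52.piPrimePart π (Nat.card M))
    (Cfsg.Agent.Helper52.piPart_mul_piPrimePart π hM0).symm
    (Cfsg.Agent.Helper52.piPart_coprime π _)
  have hHall : IsPiHallOf π K₀ M :=
    (Cfsg.Agent.Helper52.isPiHallOf_iff_card π K₀ M).mpr ⟨hK₀M, hK₀c⟩
  haveI : Finite K₀ := inferInstance
  obtain ⟨R, -, hR⟩ := Cfsg.Agent.Helper84.exists_isSylIn_ge (p := r) (H := (⊥ : Subgroup G))
    (K := K₀) bot_le (IsPGroup.of_bot)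
  have hRM : IsSylIn r R M := by
    refine ⟨hR.1.trans hK₀M, hR.2.1, ?_⟩
    rw [← Subgroup.relIndex_mul_relIndex R K₀ M hR.1 hK₀M]
    intro hd
    rcases (Nat.Prime.dvd_mul hr'.out).mp hd with h | h
    · exact hR.2.2 h
    · exact hHall.2.2 r hr'.out hr h
  obtain ⟨k, hk, hTk⟩ := hRM.exists_conj_ge hTM hT
  refine ⟨cj k K₀, ?_, hTk.trans (cj_mono k hR.1)⟩
  rw [Cfsg.Agent.Helper52.isPiHallOf_iff_card]
  refine ⟨?_, by rw [card_cj, hK₀c]⟩
  have := cj_mono k hK₀M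
  rwa [cj_eq_self_of_mem hk] at this

/-- a Hall `π`-subgroup has order divisible by every prime of `π` dividing the order of `M`. -/
theorem dvd_card_of_hall [Finite G] {M K : Subgroup G} {π : Set ℕ} (hK : IsPiHallOf π K M)
    {t : ℕ} (ht : t.Prime) (htπ : t ∈ π) (hd : t ∣ Nat.card M) : t ∣ Nat.card K := by
  have h := Cfsg.Agent.Helper55.BGB.card_mul_relIndex hK.1
  rw [← h] at hd
  rcases (Nat.Prime.dvd_mul ht).mp hd with h1 | h1
  · exact h1
  · exact absurd h1 (hK.2.2 t ht htπ)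

/-- Frattini argument plus Cauchy: primes of `|M|` not dividing `|N₀|` occur in `N_M(S)`. -/
theorem exists_orderOf_normalizer [Finite G] {M N₀ S : Subgroup G} {q : ℕ} [Fact q.Prime]
    (hN₀M : N₀ ≤ M) (hnorm : M ≤ normalizer (N₀ : Set G)) (hS : IsSylIn q S N₀)
    {r : ℕ} (hr : r.Prime) (hrM : r ∣ Nat.card M) (hrN : ¬ r ∣ Nat.card N₀) :
    ∃ w ∈ M ⊓ normalizer (S : Set G), orderOf w = r := by
  haveI : Fact r.Prime := ⟨hr⟩
  have hle : M ≤ N₀ ⊔ (M ⊓ normalizer (S : Set G)) := by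
    intro m hm
    have hcjN : cj m N₀ = N₀ := cj_eq_self_of_mem_normalizer (hnorm hm)
    have h1 : IsSylIn q (cj m S) N₀ := by
      have := hS.map_conj m
      rwa [show N₀.map (MulAut.conj m).toMonoidHom = N₀ from hcjN] at this
    obtain ⟨k, hk, hkeq⟩ := hS.exists_conj h1
    -- cj m S = cj k S, so k⁻¹ m normalizes S
    have h2 : cj (k⁻¹ * m) S = S := by
      rw [cj_mul]
      show cj k⁻¹ (cj m S) = S
      rw [show cj m S = cj k S from hkeq, cj_inv_cj]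
    have h3 : k⁻¹ * m ∈ M ⊓ normalizer (S : Set G) :=
      ⟨M.mul_mem (M.inv_mem (hN₀M hk)) hm, mem_normalizer_of_cj_eq h2⟩
    have : m = k * (k⁻¹ * m) := by group
    rw [this]
    exact mul_mem (mem_sup_left hk) (mem_sup_right h3)
  have heq : N₀ ⊔ (M ⊓ normalizer (S : Set G)) = M :=
    le_antisymm (sup_le hN₀M inf_le_left) hle
  have hcard := Cfsg.Agent.Helper50.card_sup_mul_card_inf_of_le_normalizer N₀
    (M ⊓ normalizer (S : Set G)) (inf_le_left.trans hnorm)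
  rw [heq] at hcard
  have hd : r ∣ Nat.card N₀ * Nat.card ↥(M ⊓ normalizer (S : Set G)) := by
    rw [← hcard]; exact Dvd.dvd.mul_right hrM _
  rcases (Nat.Prime.dvd_mul hr).mp hd with h | h
  · exact absurd h hrN
  · obtain ⟨x, hx⟩ := exists_prime_orderOf_dvd_card' r h
    exact ⟨x.1, x.2, by rw [← hx]; exact (Subgroup.orderOf_coe x)⟩

/-- In a group with a normal `q`-complement, an element of prime order `r ≠ q` normalizing a
`q`-subgroup `S` centralizes it. -/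
theorem commute_of_normal_complement [Finite G] {Ns S : Subgroup G} {q r : ℕ} [hq : Fact q.Prime]
    (hnpc : HasNormalPComplement q ↥Ns) (hSNs : S ≤ Ns) (hS : IsPGroup q S)
    {w : G} (hwNs : w ∈ Ns) (hwS : w ∈ normalizer (S : Set G)) (hr : r.Prime) (hrq : r ≠ q)
    (hw : orderOf w = r) : ∀ s ∈ S, s * w = w * s := by
  obtain ⟨P₀, D, hDn, hcompl⟩ := hnpc
  haveI := hDn
  have hDidx : D.index = Nat.card (P₀ : Subgroup ↥Ns) := hcompl.symm.index_eq_card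
  have hDcard : Nat.card D = (P₀ : Subgroup ↥Ns).index := (hcompl.index_eq_card).symm
  obtain ⟨a, ha⟩ := P₀.isPGroup'.exists_card_eq
  have hcopD : (Nat.card D).Coprime q := by
    rw [hDcard, Nat.coprime_comm, Nat.Prime.coprime_iff_not_dvd hq.out]
    exact P₀.not_dvd_index
  -- w ∈ D
  have hwD : (⟨w, hwNs⟩ : ↥Ns) ∈ D := by
    have h1 := Subgroup.pow_index_mem D (⟨w, hwNs⟩ : ↥Ns)
    have hord : orderOf (⟨w, hwNs⟩ : ↥Ns) = r := by
      rw [← hw]; exact (Subgroup.orderOf_mk w hwNs)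
    have hcop : (D.index).Coprime (orderOf (⟨w, hwNs⟩ : ↥Ns)) := by
      rw [hord, hDidx, ha]
      apply Nat.Coprime.pow_left
      rw [Nat.coprime_primes hq.out hr]
      exact fun h => hrq h.symm
    obtain ⟨m, hm⟩ := exists_pow_eq_self_of_coprime hcop
    rw [← hm]
    exact D.pow_mem h1 m
  intro s hs
  have hsNs : s ∈ Ns := hSNs hs
  -- the commutator lies in D and in S
  have hcD : (⟨s, hsNs⟩ : ↥Ns) * ⟨w, hwNs⟩ * (⟨s, hsNs⟩ : ↥Ns)⁻¹ * (⟨w, hwNs⟩ : ↥Ns)⁻¹ ∈ D :=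
    D.mul_mem (hDn.conj_mem _ hwD _) (D.inv_mem hwD)
  have hcS : s * w * s⁻¹ * w⁻¹ ∈ S := by
    have : s * w * s⁻¹ * w⁻¹ = s * (w * s⁻¹ * w⁻¹) := by group
    rw [this]
    exact S.mul_mem hs
      (Cfsg.Agent.Helper60.BG144.conj_mem_of_mem_normalizer hwS (S.inv_mem hs))
  have hval : ((⟨s, hsNs⟩ : ↥Ns) * ⟨w, hwNs⟩ * (⟨s, hsNs⟩ : ↥Ns)⁻¹ * (⟨w, hwNs⟩ : ↥Ns)⁻¹ : ↥Ns).1
      = s * w * s⁻¹ * w⁻¹ := rfl
  have ho1 : orderOf (s * w * s⁻¹ * w⁻¹) ∣ Nat.card D := by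
    rw [← hval, Subgroup.orderOf_coe]
    have := Subgroup.orderOf_dvd_natCard D hcD
    exact this
  obtain ⟨k, hk⟩ := (IsPGroup.iff_orderOf.mp hS) ⟨s * w * s⁻¹ * w⁻¹, hcS⟩
  have ho2 : orderOf (s * w * s⁻¹ * w⁻¹) = q ^ k := by
    rw [← hk]; exact (Subgroup.orderOf_mk _ hcS).symm
  have ho3 : orderOf (s * w * s⁻¹ * w⁻¹) = 1 := by
    have h1 : (orderOf (s * w * s⁻¹ * w⁻¹)).Coprime (orderOf (s * w * s⁻¹ * w⁻¹)) := by
      have h2 : (Nat.card D).Coprime (q ^ k) := hcopD.pow_right k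
      rw [← ho2] at h2
      exact Nat.Coprime.coprime_dvd_left ho1 h2
    exact (Nat.coprime_self _).mp h1
  have h1 : s * w * s⁻¹ * w⁻¹ = 1 := orderOf_eq_one_iff.mp ho3
  have : s * w = (s * w * s⁻¹ * w⁻¹) * (w * s) := by group
  rw [this, h1, one_mul]

end Cfsg.Agent.Helper60.BG139
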