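import Mathlib
import Cfsg.Agent.Lib.Helper60.BG144b
import Cfsg.Agent.Lib.Helper25.BGNat
import Cfsg.Agent.Lib.Helper21.BGSigma
import Cfsg.Agent.Lib.Helper82.BG1215a
import Cfsg.Agent.Lib.Helper34.BG10d
import Cfsg.Agent.Lib.Helper52.CoprimeHall
import Cfsg.Agent.Lib.Helper84.GrpSylow

/-!
# B-G Lemma 16.1, piece (C2): generic plumbing (no frozen rows)
-/

set_option autoImplicit false
set_option linter.style.haveILetI false
set_option linter.unusedSectionVars false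

namespace Cfsg.Agent.Helper60.BG161

open Subgroup Cfsg
open Cfsg.Agent.Helper79.BG10 (cj mem_cj conj_mem_cj cj_mul cj_one cj_mono cj_le_iff card_cj
  isPGroup_cj cj_eq_self_of_mem cj_eq_self_of_mem_normalizer mem_normalizer_of_cj_eq cj_inv_cj
  cj_cj_inv normalizer_cj)
open Cfsg.Agent.Helper55.BGB (sigmaCore_le isPi_sigmaCore le_normalizer_sigmaCore)
open Cfsg.Agent.Helper84 (IsSylIn)

variable {G : Type*} [Group G] [Finite G]

theorem isSylIn_of_index {q : ℕ} {S K : Subgroup G} (hS : IsPGroup q S) (hi : ¬ q ∣ S.index)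
    (hSK : S ≤ K) : IsSylIn q S K := by
  refine ⟨hSK, hS, fun hd => hi ?_⟩
  rw [← Subgroup.relIndex_mul_index hSK]
  exact Dvd.dvd.mul_right hd _

theorem isCoatom_cj' {M : Subgroup G} (hM : IsCoatom M) (g : G) : IsCoatom (cj g M) :=
  (OrderIso.isCoatom_iff (MulEquiv.mapSubgroup (MulAut.conj g)) M).mpr hM

theorem orderOf_prime_ne_one {w : G} {r : ℕ} (hr : r.Prime) (hw : orderOf w = r) : w ≠ 1 := by
  rintro rfl
  rw [orderOf_one] at hw
  exact hr.one_lt.ne hw

theorem isPGroup_zpowers_of_orderOf {w : G} {r : ℕ} (hw : orderOf w = r) :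
    IsPGroup r (zpowers w) := by
  apply IsPGroup.of_card (n := 1)
  rw [Nat.card_zpowers, hw, pow_one]

theorem orderOf_conj_elt (g x : G) : orderOf (g * x * g⁻¹) = orderOf x := by
  have := MulEquiv.orderOf_eq (MulAut.conj g) x
  rwa [MulAut.conj_apply] at this

theorem orderOf_conj_elt' (g x : G) : orderOf (g⁻¹ * x * g) = orderOf x := by
  have := orderOf_conj_elt g⁻¹ x
  rwa [inv_inv] at this

/-- a Sylow subgroup of `M` with normalizer in `M`, read off from `p ∈ σ(M)`, is Sylow in `G`. -/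
theorem exists_sylow_of_mem_sigma {M : Subgroup G} {p : ℕ} (hp : p ∈ sigma M) :
    ∃ T : Subgroup G, T ≤ M ∧ IsPGroup p T ∧ ¬ p ∣ T.index ∧ T ≠ ⊥ ∧
      normalizer (T : Set G) ≤ M := by
  obtain ⟨hpp, hdvd, P, hP⟩ := hp
  haveI : Fact p.Prime := ⟨hpp⟩
  obtain ⟨Q, hQ⟩ := Cfsg.Agent.Helper21.BGSigma.exists_sylow_eq_map M P hP
  refine ⟨(P : Subgroup M).map M.subtype, Subgroup.map_subtype_le _, P.isPGroup'.map _, ?_, ?_, hP⟩
  · rw [← hQ]; exact Q.not_dvd_index
  · intro hbot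
    have h1 : (P : Subgroup M) = ⊥ := by
      rw [← Subgroup.map_eq_bot_iff_of_injective _ M.subtype_injective]; exact hbot
    exact P.ne_bot_of_dvd_card hdvd h1

/-- a subgroup of prime order is generated by each of its non-identity elements -/
theorem mem_zpowers_of_prime_card {Y : Subgroup G} (hY : (Nat.card Y).Prime) {y : G} (hy : y ∈ Y)
    (hy1 : y ≠ 1) : ∀ z ∈ Y, z ∈ zpowers y := by
  intro z hz
  haveI : Fact (Nat.card Y).Prime := ⟨hY⟩
  have htop : zpowers (⟨y, hy⟩ : ↥Y) = ⊤ :=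
    zpowers_eq_top_of_prime_card rfl (fun h => hy1 (by simpa using congrArg Subtype.val h))
  have hmem : (⟨z, hz⟩ : ↥Y) ∈ zpowers (⟨y, hy⟩ : ↥Y) := by rw [htop]; exact mem_top _
  obtain ⟨k, hk⟩ := mem_zpowers_iff.mp hmem
  rw [mem_zpowers_iff]
  refine ⟨k, ?_⟩
  have := congrArg Subtype.val hk
  simpa using this

/-- commuting with a generator of a subgroup of prime order = centralizing it -/
theorem mem_centralizer_of_prime_card {Y : Subgroup G} (hY : (Nat.card Y).Prime) {y : G}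
    (hy : y ∈ Y) (hy1 : y ≠ 1) {x : G} (hx : x ∈ centralizer ({y} : Set G)) :
    x ∈ centralizer (Y : Set G) := by
  rw [mem_centralizer_singleton_iff] at hx
  rw [mem_centralizer_iff]
  intro z hz
  obtain ⟨k, rfl⟩ := mem_zpowers_iff.mp (mem_zpowers_of_prime_card hY hy hy1 z hz)
  have hc : Commute x y := hx
  exact ((hc.zpow_right k).eq).symm

/-! ### the centre of a subgroup, as a subgroup of `G` -/

/-- `Z(X)` as a subgroup of `G`. -/
def zc (X : Subgroup G) : Subgroup G := X ⊓ centralizer (X : Set G)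

theorem zc_le (X : Subgroup G) : zc X ≤ X := inf_le_left

theorem zc_comm (X : Subgroup G) : ∀ a ∈ zc X, ∀ b ∈ zc X, a * b = b * a := by
  intro a ha b hb
  exact (mem_centralizer_iff.mp hb.2) a ha.1

theorem conj_mem_zc {X : Subgroup G} {h x : G} (hh : h ∈ normalizer (X : Set G))
    (hx : x ∈ zc X) : h * x * h⁻¹ ∈ zc X := by
  refine Subgroup.mem_inf.mpr
    ⟨Cfsg.Agent.Helper60.BG144.conj_mem_of_mem_normalizer hh hx.1, ?_⟩
  rw [mem_centralizer_iff]
  intro s hs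
  have h1 : h⁻¹ * s * h ∈ X := Cfsg.Agent.Helper60.BG144.conj_inv_mem_of_mem_normalizer hh hs
  have h2 := (mem_centralizer_iff.mp hx.2) _ h1
  have e1 : s * (h * x * h⁻¹) = h * ((h⁻¹ * s * h) * x) * h⁻¹ := by group
  have e2 : h * x * h⁻¹ * s = h * (x * (h⁻¹ * s * h)) * h⁻¹ := by group
  rw [e1, e2, h2]

theorem normalizer_le_normalizer_zc (X : Subgroup G) :
    normalizer (X : Set G) ≤ normalizer ((zc X : Subgroup G) : Set G) := by
  intro h hh
  rw [mem_normalizer_iff]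
  intro x
  constructor
  · exact conj_mem_zc hh
  · intro hx
    have := conj_mem_zc (inv_mem hh) hx
    have e : h⁻¹ * (h * x * h⁻¹) * h⁻¹⁻¹ = x := by group
    rwa [e] at this

theorem zc_ne_bot_of_nilpotent {X : Subgroup G} (hnil : Group.IsNilpotent ↥X) (hX : X ≠ ⊥) :
    zc X ≠ ⊥ := by
  haveI := hnil
  haveI : Nontrivial ↥X := (Subgroup.nontrivial_iff_ne_bot X).mpr hX
  have hc := Group.IsNilpotent.center_ne_bot ↥X
  obtain ⟨a, ha1⟩ := (Subgroup.ne_bot_iff_exists_ne_one).mp hc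
  have hz : (a : ↥X) ∈ center ↥X := a.2
  have hz1 : (a : ↥X) ≠ 1 := fun h => ha1 (Subtype.ext h)
  set z : ↥X := (a : ↥X) with hzdef
  intro hbot
  apply hz1
  have hmem : (z : G) ∈ zc X := by
    refine Subgroup.mem_inf.mpr ⟨z.2, ?_⟩
    rw [mem_centralizer_iff]
    intro s hs
    have := (Subgroup.mem_center_iff.mp hz) ⟨s, hs⟩
    have := congrArg Subtype.val this
    simpa using this
  rw [hbot] at hmem
  exact Subtype.ext (Subgroup.mem_bot.mp hmem)

/-! ### conjugating complements -/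

theorem isComplIn_cj {A B M : Subgroup G} (h : IsComplIn A B M) (g : G) :
    IsComplIn (cj g A) (cj g B) (cj g M) := by
  refine ⟨cj_mono g h.1, cj_mono g h.2.1, ?_, ?_⟩
  · rw [eq_bot_iff]
    intro x hx
    have h1 : g⁻¹ * x * g ∈ A ⊓ B := ⟨mem_cj.mp hx.1, mem_cj.mp hx.2⟩
    rw [h.2.2.1, Subgroup.mem_bot] at h1
    rw [Subgroup.mem_bot]
    have e : x = g * (g⁻¹ * x * g) * g⁻¹ := by group
    rw [e, h1]; group
  · intro m hm
    obtain ⟨a, ha, b, hb, hab⟩ := h.2.2.2 _ (mem_cj.mp hm)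
    refine ⟨g * a * g⁻¹, conj_mem_cj ha, g * b * g⁻¹, conj_mem_cj hb, ?_⟩
    have e : m = g * (g⁻¹ * m * g) * g⁻¹ := by group
    rw [e, hab]; group

/-- Hall: a `σ(H)'`-subgroup of a solvable `H` is conjugate into a given complement of `H_σ`. -/
theorem exists_conj_le_compl {H E K : Subgroup G} (hsol : Group.IsSolvable H)
    (hHall : IsPiHallOf (sigma H) (sigmaCore H) H) (hE : IsComplIn E (sigmaCore H) H)
    (hKH : K ≤ H) (hK : ∀ p : ℕ, p.Prime → p ∣ Nat.card K → p ∉ sigma H) :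
    ∃ h ∈ H, cj h K ≤ E := by
  have hcop : (Nat.card (sigmaCore H)).Coprime ((sigmaCore H).relIndex H) := by
    apply Nat.coprime_of_dvd
    intro k hk h1 h2
    exact hHall.2.2 k hk (hHall.2.1 k hk h1) h2
  have hY : (Nat.card K).Coprime (Nat.card (sigmaCore H)) := by
    apply Nat.coprime_of_dvd
    intro k hk h1 h2
    exact hK k hk h1 (hHall.2.1 k hk h2)
  have hdec : ∀ k ∈ H, ∃ b ∈ sigmaCore H, ∃ c ∈ E, k = b * c := by
    intro k hk
    obtain ⟨a, ha, b, hb, hab⟩ := hE.2.2.2 k⁻¹ (inv_mem hk)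
    refine ⟨b⁻¹, inv_mem hb, a⁻¹, inv_mem ha, ?_⟩
    have : k = (k⁻¹)⁻¹ := (inv_inv k).symm
    rw [this, hab]; group
  obtain ⟨k, hk, hle⟩ := Cfsg.Agent.Helper82.BG1215.exists_conj_le_of_dec hsol hHall.1
    (le_normalizer_sigmaCore H) hE.1 hdec hcop hKH hY
  exact ⟨k, hk, hle⟩

/-- if `H` has `p`-rank one (`p ∉ σ(H)`) and some element of order `p` of `H` has a fixed point
on `H_σ`, then `p ∈ κ(H)`. -/
theorem mem_kappa_of_prankLE_one (hG : IsMinSimpleOddOrder G) {H : Subgroup G} {p : ℕ}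
    (hp : p.Prime) (hpσ : p ∉ sigma H) (hr1 : PRankLE p 1 ↥H) {y w : G} (hyH : y ∈ H)
    (hy : orderOf y = p) (hw : w ∈ sigmaCore H) (hw1 : w ≠ 1) (hyw : y * w = w * y) :
    p ∈ kappa H := by
  haveI : Fact p.Prime := ⟨hp⟩
  have hpH : p ∣ Nat.card H := by rw [← hy]; exact Subgroup.orderOf_dvd_natCard H hyH
  have hp2 : p ≠ 2 := Cfsg.Agent.Helper34.BG.prime_ne_two hG H hpH
  refine ⟨hp, hpH, hpσ, fun P => ⟨?_, ?_⟩⟩
  · exact Cfsg.Agent.Helper34.BG.isCyclic_of_pRankLE_one hp2 P.isPGroup'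
      (Cfsg.Agent.Helper34.BG.pRankLE_subgroup_type hr1 (P : Subgroup ↥H))
  · have hyo : orderOf (⟨y, hyH⟩ : ↥H) = p := by rw [← hy]; exact Subgroup.orderOf_mk y hyH
    obtain ⟨g, hg⟩ := Cfsg.Agent.Helper21.BGSigma.exists_conj_mem_sylow P
      (isPGroup_zpowers_of_orderOf hyo)
    refine ⟨g * ⟨y, hyH⟩ * g⁻¹, hg, ?_, (g : G) * w * (g : G)⁻¹, ?_, ?_, ?_⟩
    · intro h1
      have h2 : orderOf (g * (⟨y, hyH⟩ : ↥H) * g⁻¹) = p := by rw [orderOf_conj_elt]; exact hyo
      rw [h1, orderOf_one] at h2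
      exact hp.one_lt.ne h2
    · exact Cfsg.Agent.Helper60.BG144.conj_mem_of_mem_normalizer
        (le_normalizer_sigmaCore H g.2) hw
    · intro h1
      apply hw1
      have e : w = (g : G)⁻¹ * ((g : G) * w * (g : G)⁻¹) * (g : G) := by group
      rw [e, h1]; group
    · show (g : G) * y * (g : G)⁻¹ * ((g : G) * w * (g : G)⁻¹) =
        (g : G) * w * (g : G)⁻¹ * ((g : G) * y * (g : G)⁻¹)
      have e1 : (g : G) * y * (g : G)⁻¹ * ((g : G) * w * (g : G)⁻¹) =
          (g : G) * (y * w) * (g : G)⁻¹ := by group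
      have e2 : (g : G) * w * (g : G)⁻¹ * ((g : G) * y * (g : G)⁻¹) =
          (g : G) * (w * y) * (g : G)⁻¹ := by group
      rw [e1, e2, hyw]

end Cfsg.Agent.Helper60.BG161
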