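import Mathlib
import Cfsg.Agent.S1405
import Cfsg.Agent.S1406
import Cfsg.Agent.S1409
import Cfsg.Agent.S1414
import Cfsg.Agent.Lib.Helper98.BG139R6
import Cfsg.Agent.Lib.Helper99.FrobFR
import Cfsg.Agent.Lib.Helper96.BGAsymPure
import Cfsg.Agent.Lib.Helper22.Factorization
import Cfsg.Agent.Lib.Helper15.BGV.Tools
import Cfsg.Agent.Lib.Helper34.BG10d
import Cfsg.Agent.Lib.Helper60.BG161C2a

/-!
# B-G 13.8 (tau1 asymmetry), package (AS3b) `side_beta` of helper96's lemma server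
(`tools/bgasym13_sigs_helper96.lean.txt`).
-/

set_option autoImplicit false
set_option linter.unusedSectionVars false
set_option linter.unusedVariables false
set_option linter.style.haveILetI false

namespace Cfsg.Agent.Helper60.BGAsym

open Subgroup Cfsg
open Cfsg.Agent.Helper52 (sylCard)

variable {G : Type*} [Group G] [Finite G]

/-- a `p`-subgroup of `M` lies in every normal subgroup of `M` of index prime to `p` -/
theorem le_of_isPGroup_of_not_dvd_relIndex {K M Q : Subgroup G} {p : ℕ} (hp : p.Prime)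
    (hMK : M ≤ normalizer (K : Set G)) (hnd : ¬ p ∣ K.relIndex M)
    (hQM : Q ≤ M) (hQ : IsPGroup p Q) : Q ≤ K := by
  haveI : (K.subgroupOf M).Normal := Subgroup.normal_subgroupOf_of_le_normalizer hMK
  have hnd' : ¬ p ∣ (K.subgroupOf M).index := hnd
  intro x hx
  have hxM : x ∈ M := hQM hx
  obtain ⟨k, hk⟩ := hQ ⟨x, hx⟩
  have hxk : x ^ p ^ k = 1 := by
    have := congrArg Subtype.val hk
    simpa using this
  set y : M := ⟨x, hxM⟩ with hy
  have hyk : y ^ p ^ k = 1 := Subtype.ext (by simpa using hxk)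
  have hq : ((QuotientGroup.mk' (K.subgroupOf M)) y) ^ p ^ k = 1 := by
    rw [← map_pow, hyk, map_one]
  have ho1 : orderOf ((QuotientGroup.mk' (K.subgroupOf M)) y) ∣ p ^ k :=
    orderOf_dvd_of_pow_eq_one hq
  have ho2 : orderOf ((QuotientGroup.mk' (K.subgroupOf M)) y) ∣ (K.subgroupOf M).index := by
    rw [Subgroup.index_eq_card]; exact orderOf_dvd_natCard _
  have hcop : (p ^ k).Coprime (K.subgroupOf M).index := by
    apply Nat.Coprime.pow_left
    exact (Nat.Prime.coprime_iff_not_dvd hp).mpr hnd'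
  have ho : orderOf ((QuotientGroup.mk' (K.subgroupOf M)) y) = 1 :=
    Nat.eq_one_of_dvd_coprimes hcop ho1 ho2
  have hyN : y ∈ K.subgroupOf M := by
    have := orderOf_eq_one_iff.mp ho
    exact (QuotientGroup.eq_one_iff y).mp this
  exact Subgroup.mem_subgroupOf.mp hyN

theorem alphaCore_le' (M : Subgroup G) : alphaCore M ≤ M := Subgroup.map_subtype_le _

theorem le_normalizer_alphaCore' (M : Subgroup G) : M ≤ normalizer (alphaCore M : Set G) :=
  Cfsg.Agent.Helper55.BGB.le_normalizer_map_subtype M (piCore (alpha M) M)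

theorem le_normalizer_commutator_self (M : Subgroup G) :
    M ≤ normalizer ((⁅M, M⁆ : Subgroup G) : Set G) := by
  have h := Cfsg.Agent.Helper55.BGB.le_normalizer_map_subtype M (_root_.commutator ↥M)
  rwa [Subgroup.map_subtype_commutator] at h

theorem le_normalizer_of_conj_mem'' {K X : Subgroup G}
    (h : ∀ k ∈ K, ∀ x ∈ X, k * x * k⁻¹ ∈ X) : K ≤ normalizer (X : Set G) := by
  intro k hk
  rw [mem_normalizer_iff]
  intro n
  refine ⟨h k hk n, fun hn => ?_⟩
  have := h k⁻¹ (K.inv_mem hk) _ hn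
  simpa [mul_assoc] using this

/-- `t`-subgroups of `M` lie in `M_α` for `t ∈ α(M)`. -/
theorem le_alphaCore_of_isPGroup (hG : IsMinSimpleOddOrder G) {M T : Subgroup G}
    (hM : IsCoatom M) {t : ℕ} (ht : t ∈ alpha M) (hTM : T ≤ M) (hT : IsPGroup t T) :
    T ≤ alphaCore M :=
  le_of_isPGroup_of_not_dvd_relIndex ht.1 (le_normalizer_alphaCore' M)
    ((Cfsg.Agent.S1405.result hG M hM).1.2.2 t ht.1 ht) hTM hT

/-- `t ∣ |M|` for `t ∈ α(M)`. -/
theorem dvd_card_of_mem_alpha {M : Subgroup G} {t : ℕ} (ht : t ∈ alpha M) : t ∣ Nat.card M := by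
  obtain ⟨A, hAM, hA, hc⟩ := Cfsg.Agent.Helper34.BG.exists_elemAb_of_not_pRankLE ht.2
  haveI : Fact t.Prime := ⟨ht.1⟩
  have hAp : IsPGroup t A := by
    intro a
    refine ⟨1, ?_⟩
    rw [pow_one]
    exact Subtype.ext (by simpa using hA.2 a a.2)
  have hA1 : A ≠ ⊥ := by
    intro h
    rw [h, Subgroup.card_bot] at hc
    have : 1 ≤ t ^ 2 := Nat.one_le_pow _ _ ht.1.pos
    omega
  exact Cfsg.Agent.Helper15.BGV.dvd_card_of_le hAp hA1 hAM

/-- generator of a subgroup of prime order -/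
theorem exists_gen_of_card_prime {Q : Subgroup G} {q : ℕ} (hq : q.Prime) (hQ : Nat.card Q = q) :
    ∃ x ∈ Q, x ≠ 1 ∧ x ^ q = 1 ∧ ∀ y ∈ Q, y ∈ Subgroup.zpowers x := by
  have hQp : (Nat.card Q).Prime := hQ ▸ hq
  have hnt : Nontrivial ↥Q := by
    rw [← Finite.one_lt_card_iff_nontrivial, hQ]; exact hq.one_lt
  obtain ⟨x, hx⟩ := exists_ne (1 : ↥Q)
  have hx1 : (x : G) ≠ 1 := fun h => hx (Subtype.ext h)
  refine ⟨x, x.2, hx1, ?_, Cfsg.Agent.Helper60.BG161.mem_zpowers_of_prime_card hQp x.2 hx1⟩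
  have h1 : x ^ Nat.card ↥Q = 1 := pow_card_eq_one'
  rw [hQ] at h1
  have := congrArg Subtype.val h1
  simpa using this

theorem centralizer_eq_of_gen {Q : Subgroup G} {q : ℕ} (hq : q.Prime) (hQ : Nat.card Q = q)
    {x : G} (hx : x ∈ Q) (hx1 : x ≠ 1) :
    centralizer (Q : Set G) = centralizer ({x} : Set G) := by
  apply le_antisymm
  · exact Subgroup.centralizer_le (by simpa using hx)
  · intro g hg
    exact Cfsg.Agent.Helper60.BG161.mem_centralizer_of_prime_card (hQ ▸ hq) hx hx1 hg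

/-- elements of a subgroup of prime order commute -/
theorem comm_of_card_prime {Q : Subgroup G} {q : ℕ} (hq : q.Prime) (hQ : Nat.card Q = q) :
    ∀ a ∈ Q, ∀ b ∈ Q, a * b = b * a := by
  obtain ⟨x, hx, hx1, hxq, hgen⟩ := exists_gen_of_card_prime hq hQ
  intro a ha b hb
  obtain ⟨i, rfl⟩ := Subgroup.mem_zpowers_iff.mp (hgen a ha)
  obtain ⟨j, rfl⟩ := Subgroup.mem_zpowers_iff.mp (hgen b hb)
  rw [← zpow_add, ← zpow_add, add_comm]

/-- (3b-1): `t ∈ β(M)`. -/
theorem side_beta_mem (hG : IsMinSimpleOddOrder G) {M W St : Subgroup G} {w t : ℕ}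
    [Fact w.Prime] [Fact t.Prime] (hM : IsCoatom M) (hwt : w ≠ t) (htM : t ∣ Nat.card M)
    (hW : IsPGroup w W) (hWM : W ≤ ⁅M, M⁆) (hStM : St ≤ M) (hStt : IsPGroup t St)
    (hWSt : W ≤ normalizer (St : Set G)) (hmove : ¬ St ≤ centralizer (W : Set G)) :
    t ∈ beta M := by
  by_contra hnβ
  have htp : t.Prime := Fact.out
  have hwp : w.Prime := Fact.out
  have h14 := ((Cfsg.Agent.S1414.result hG M hM).2.2.2.2 t htp htM hnβ).1
  obtain ⟨N, hND, hDN, hNt, hNall⟩ := Cfsg.Agent.Helper15.BGV.exists_normal_compl h14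
  have hMD := le_normalizer_commutator_self M
  have hMN : M ≤ normalizer (N : Set G) := by
    apply le_normalizer_of_conj_mem''
    intro m hm n hn
    have hle : N.map (MulAut.conj m).toMonoidHom ≤ N := by
      apply hNall
      · rintro _ ⟨n', hn', rfl⟩
        have := (mem_normalizer_iff.mp (hMD hm) n').mp (hND hn')
        simpa using this
      · rw [Cfsg.Agent.Helper52.card_map_conj]; exact hNt
    have : m * n * m⁻¹ ∈ N.map (MulAut.conj m).toMonoidHom := ⟨n, hn, by simp⟩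
    exact hle this
  have hWcop : (Nat.card W).Coprime t := by
    obtain ⟨k, hk⟩ := IsPGroup.iff_card.mp hW
    rw [hk]
    exact Nat.Coprime.pow_left _ ((Nat.coprime_primes hwp htp).mpr hwt)
  have hWN : W ≤ N := hNall W hWM hWcop
  have hdisj : St ⊓ N = ⊥ := by
    apply Cfsg.Agent.Helper15.BGV.inf_eq_bot_of_coprime_card
    obtain ⟨k, hk⟩ := IsPGroup.iff_card.mp hStt
    rw [hk]
    exact Nat.Coprime.pow_left _ hNt.symm
  apply hmove
  intro s hs
  rw [mem_centralizer_iff]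
  intro u hu
  have hc1 : s * u * s⁻¹ * u⁻¹ ∈ St := by
    have h1 : u * s⁻¹ * u⁻¹ ∈ St :=
      (mem_normalizer_iff.mp (hWSt hu) s⁻¹).mp (St.inv_mem hs)
    have h2 : s * u * s⁻¹ * u⁻¹ = s * (u * s⁻¹ * u⁻¹) := by group
    rw [h2]
    exact St.mul_mem hs h1
  have hc2 : s * u * s⁻¹ * u⁻¹ ∈ N := by
    have h1 : s * u * s⁻¹ ∈ N := (mem_normalizer_iff.mp (hMN (hStM hs)) u).mp (hWN hu)
    exact N.mul_mem h1 (N.inv_mem (hWN hu))
  have hc : s * u * s⁻¹ * u⁻¹ ∈ St ⊓ N := ⟨hc1, hc2⟩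
  rw [hdisj, mem_bot] at hc
  have h3 : s * u = u * s := by
    have := congrArg (fun z => z * u * s) hc
    simpa [mul_assoc] using this
  exact h3.symm

/-- (3b-2): `C_St(Q) ≠ 1`. -/
theorem side_beta_ne_bot {Q W St : Subgroup G} {q w t : ℕ}
    [Fact q.Prime] [Fact w.Prime] [Fact t.Prime] (ht2 : t ≠ 2) (hw2 : w ≠ 2)
    (htw : t ≠ w) (htq : t ≠ q) (hwq : w ≠ q)
    (hQ : Nat.card Q = q) (hW : IsPGroup w W) (hStt : IsPGroup t St)
    (hQW : Q ≤ normalizer (W : Set G))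
    (hfpf : ∀ x ∈ W, (∀ y ∈ Q, y * x = x * y) → x = 1)
    (hWSt : W ≤ normalizer (St : Set G)) (hQSt : Q ≤ normalizer (St : Set G))
    (hmove : ¬ St ≤ centralizer (W : Set G)) :
    St ⊓ centralizer (Q : Set G) ≠ ⊥ := by
  intro hbot
  have hqp : q.Prime := Fact.out
  obtain ⟨x, hx, hx1, hxq, hgen⟩ := exists_gen_of_card_prime hqp hQ
  have hcomm : ∀ u : G, x * u = u * x → ∀ y ∈ Q, y * u = u * y := by
    intro u hxu y hy
    obtain ⟨i, rfl⟩ := Subgroup.mem_zpowers_iff.mp (hgen y hy)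
    exact ((Commute.zpow_left (show Commute x u from hxu) i)).eq
  have hfpf' : ∀ u ∈ W, x * u = u * x → u = 1 := fun u hu hxu => hfpf u hu (hcomm u hxu)
  have hKgen := Cfsg.Agent.Helper96.BGAsym.le_closure_comm_of_fpf W x (hQW hx) hfpf'
  apply hmove
  refine Cfsg.Agent.Helper99.FrobFR.frob_centralizes (Fact.out : t.Prime) (Fact.out : w.Prime)
    hqp ht2 hw2 htw htq hwq St W x hStt hW hWSt (hQSt hx) (hQW hx) hxq hKgen ?_
  intro y hy hxy _
  have hyC : y ∈ St ⊓ centralizer (Q : Set G) := by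
    refine ⟨hy, ?_⟩
    show y ∈ centralizer (Q : Set G)
    rw [mem_centralizer_iff]
    intro z hz
    exact hcomm y hxy z hz
  rw [hbot, mem_bot] at hyC
  rw [hyC]
  exact one_mem _

/-- `N(Q) ≰ M` for `q ∈ τ₁(M)` (S1409). -/
theorem not_normalizer_le_of_tau1 (hG : IsMinSimpleOddOrder G) {M Q : Subgroup G} {q : ℕ}
    [Fact q.Prime] (hM : IsCoatom M) (hqM : q ∈ tau1 M) (hQ : Nat.card Q = q) :
    ¬ normalizer (Q : Set G) ≤ M := by
  intro h
  have h9 := Cfsg.Agent.S1409.result hG M hM q hqM.2.1 Q hQ h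
  exact h9.1.2 hqM.2.2.2.2

theorem not_mem_alpha_of_tau1 {M : Subgroup G} {q : ℕ} (hqM : q ∈ tau1 M) : q ∉ alpha M := by
  intro h
  apply h.2
  intro A hA1 hA2
  exact (hqM.2.2.2.2 A hA1 hA2).trans (Nat.pow_le_pow_right hqM.1.pos (by norm_num))

/-- (3b-3): `M_α ⊓ C(Q)` has rank at most one (S1406 + S1409). -/
theorem side_beta_rank (hG : IsMinSimpleOddOrder G) {M Q : Subgroup G} {q : ℕ}
    [Fact q.Prime] (hM : IsCoatom M) (hqM : q ∈ tau1 M) (hQ : Nat.card Q = q) (hQM : Q ≤ M) :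
    RankLE 1 ↥(alphaCore M ⊓ centralizer (Q : Set G)) := by
  by_contra hr
  have hqp : q.Prime := Fact.out
  have hqα : q ∉ alpha M := not_mem_alpha_of_tau1 hqM
  have hXα : ∀ p : ℕ, p.Prime → p ∣ Nat.card Q → p ∉ alpha M := by
    intro p hp hpd
    rw [hQ] at hpd
    rw [(Nat.prime_dvd_prime_iff_eq hp hqp).mp hpd]; exact hqα
  have hU := Cfsg.Agent.S1406.result hG M hM Q hQM hXα hr
  have hQ1 : Q ≠ ⊥ := by
    intro h
    rw [h, Subgroup.card_bot] at hQ
    exact hqp.one_lt.ne hQ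
  have hQtop : Q ≠ ⊤ := fun h => hM.1 (top_le_iff.mp (h ▸ hQM))
  obtain ⟨L, hL, hNL⟩ := Cfsg.Agent.Helper34.BG.exists_coatom_ge
    (Cfsg.Agent.Helper34.BG.normalizer_ne_top hG hQ1 hQtop)
  have hLM : L ≠ M := fun h => not_normalizer_le_of_tau1 hG hM hqM hQ (h ▸ hNL)
  obtain ⟨M0, hM0, huniq⟩ := hU
  have h1 := huniq M ⟨hM, inf_le_left⟩
  have h2 := huniq L ⟨hL, inf_le_right.trans ((Subgroup.centralizer_le_normalizer _).trans hNL)⟩
  exact hLM (h2.trans h1.symm)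

/-- (3b-3'): `C_St(Q)` is cyclic. -/
theorem side_beta_cyclic (hG : IsMinSimpleOddOrder G) {M Q St : Subgroup G} {q t : ℕ}
    [Fact q.Prime] [Fact t.Prime] (hM : IsCoatom M) (hqM : q ∈ tau1 M) (ht2 : t ≠ 2)
    (hQ : Nat.card Q = q) (hQM : Q ≤ M) (hSt : St ≤ alphaCore M) (hStt : IsPGroup t St) :
    IsCyclic ↥(St ⊓ centralizer (Q : Set G)) := by
  have hr := side_beta_rank hG hM hqM hQ hQM
  have hle : St ⊓ centralizer (Q : Set G) ≤ alphaCore M ⊓ centralizer (Q : Set G) :=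
    inf_le_inf_right _ hSt
  have h1 : PRankLE t 1 ↥(St ⊓ centralizer (Q : Set G)) :=
    Cfsg.Agent.Helper34.BG.pRankLE_mono hle (hr t Fact.out)
  exact Cfsg.Agent.Helper34.BG.isCyclic_of_pRankLE_one ht2 (hStt.to_le inf_le_left) h1

/-- elements of a cyclic subgroup commute -/
theorem comm_of_isCyclic {A : Subgroup G} (hA : IsCyclic ↥A) :
    ∀ a ∈ A, ∀ b ∈ A, a * b = b * a := by
  obtain ⟨g, hg⟩ := hA.exists_generator
  intro a ha b hb
  obtain ⟨i, hi⟩ := Subgroup.mem_zpowers_iff.mp (hg ⟨a, ha⟩)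
  obtain ⟨j, hj⟩ := Subgroup.mem_zpowers_iff.mp (hg ⟨b, hb⟩)
  have hi' : (g : G) ^ i = a := by
    have := congrArg Subtype.val hi
    simpa using this
  have hj' : (g : G) ^ j = b := by
    have := congrArg Subtype.val hj
    simpa using this
  rw [← hi', ← hj', ← zpow_add, ← zpow_add, add_comm]

/-- `Ω₁` of a commutative subgroup -/
def omega1 (A : Subgroup G) (t : ℕ) (hc : ∀ a ∈ A, ∀ b ∈ A, a * b = b * a) : Subgroup G where
  carrier := {a | a ∈ A ∧ a ^ t = 1}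
  mul_mem' := by
    rintro a b ⟨ha, ha'⟩ ⟨hb, hb'⟩
    exact ⟨A.mul_mem ha hb, by
      rw [(show Commute a b from hc a ha b hb).mul_pow, ha', hb', one_mul]⟩
  one_mem' := ⟨A.one_mem, one_pow _⟩
  inv_mem' := by
    rintro a ⟨ha, ha'⟩
    exact ⟨A.inv_mem ha, by rw [inv_pow, ha', inv_one]⟩

theorem mem_omega1 {A : Subgroup G} {t : ℕ} {hc : ∀ a ∈ A, ∀ b ∈ A, a * b = b * a} {a : G} :
    a ∈ omega1 A t hc ↔ a ∈ A ∧ a ^ t = 1 := Iff.rfl

theorem omega1_le (A : Subgroup G) (t : ℕ) (hc : ∀ a ∈ A, ∀ b ∈ A, a * b = b * a) :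
    omega1 A t hc ≤ A := fun _ h => h.1

theorem omega1_elemAb (A : Subgroup G) (t : ℕ) (hc : ∀ a ∈ A, ∀ b ∈ A, a * b = b * a) :
    IsElementaryAbelian t (omega1 A t hc) :=
  ⟨⟨⟨fun a b => Subtype.ext (hc a.1 a.2.1 b.1 b.2.1)⟩⟩, fun a ha => ha.2⟩

theorem normalizer_le_normalizer_omega1 (A : Subgroup G) (t : ℕ)
    (hc : ∀ a ∈ A, ∀ b ∈ A, a * b = b * a) :
    normalizer (A : Set G) ≤ normalizer (omega1 A t hc : Set G) := by
  apply le_normalizer_of_conj_mem''
  intro g hg v hv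
  refine ⟨(mem_normalizer_iff.mp hg v).mp hv.1, ?_⟩
  rw [conj_pow, hv.2]; simp

theorem omega1_ne_bot {A : Subgroup G} {t : ℕ} [Fact t.Prime]
    (hc : ∀ a ∈ A, ∀ b ∈ A, a * b = b * a) (hA : IsPGroup t A) (hA1 : A ≠ ⊥) :
    omega1 A t hc ≠ ⊥ := by
  have htd : t ∣ Nat.card ↥A := Cfsg.Agent.Helper15.BGV.dvd_card_of_le hA hA1 le_rfl
  obtain ⟨x, hx⟩ := exists_prime_orderOf_dvd_card' t htd
  have hx1 : (x : G) ≠ 1 := by
    intro h
    have : x = 1 := Subtype.ext h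
    rw [this, orderOf_one] at hx
    exact (Fact.out : t.Prime).one_lt.ne hx
  intro hbot
  have hmem : (x : G) ∈ omega1 A t hc := by
    refine ⟨x.2, ?_⟩
    have h1 : x ^ t = 1 := by rw [← hx]; exact pow_orderOf_eq_one x
    have := congrArg Subtype.val h1
    simpa using this
  rw [hbot, mem_bot] at hmem
  exact hx1 hmem

/-- (3b-4): `C_St(Q)` is a Sylow `t`-subgroup of `C(Q)`. -/
theorem side_beta_sylow (hG : IsMinSimpleOddOrder G) {M Q St : Subgroup G} {q t : ℕ}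
    [Fact q.Prime] [Fact t.Prime] (hM : IsCoatom M) (hqα : q ∉ alpha M) (ht : t ∈ alpha M)
    (htβ : t ∈ beta M) (hQ : Nat.card Q = q) (hQM : Q ≤ M) (hSt : St ≤ alphaCore M)
    (hStc : Nat.card St = sylCard t (alphaCore M)) (hQSt : Q ≤ normalizer (St : Set G))
    (hne : St ⊓ centralizer (Q : Set G) ≠ ⊥)
    (hcyc : IsCyclic ↥(St ⊓ centralizer (Q : Set G))) :
    Nat.card ↥(St ⊓ centralizer (Q : Set G)) = sylCard t (centralizer (Q : Set G)) := by
  have hqp : q.Prime := Fact.out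
  have htp : t.Prime := Fact.out
  have hStt : IsPGroup t St := Cfsg.Agent.Helper22.isPGroup_of_card_sylCard hStc
  have hAt : IsPGroup t ↥(St ⊓ centralizer (Q : Set G)) := hStt.to_le inf_le_left
  obtain ⟨x, hx, hx1, hxq, hgen⟩ := exists_gen_of_card_prime hqp hQ
  have hCx : centralizer (Q : Set G) = centralizer ({x} : Set G) :=
    centralizer_eq_of_gen hqp hQ hx hx1
  have h5 := Cfsg.Agent.S1405.result hG M hM
  have hcop : (Nat.card Q).Coprime (Nat.card (alphaCore M)) := by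
    rw [hQ, Nat.Prime.coprime_iff_not_dvd hqp]
    intro hd
    exact hqα (h5.1.2.1 q hqp hd)
  have hQsolv : Group.IsSolvable ↥Q := by
    apply Group.isSolvable_of_comm
    intro a b
    exact Subtype.ext (comm_of_card_prime hqp hQ a.1 a.2 b.1 b.2)
  -- (a)
  have hA1 : Nat.card ↥(St ⊓ centralizer (Q : Set G)) =
      sylCard t (alphaCore M ⊓ centralizer (Q : Set G)) := by
    rw [hCx]
    exact Cfsg.Agent.Helper22.card_inf_centralizer_of_invariant_sylow
      (comm_of_card_prime hqp hQ) hQsolv (hQM.trans (le_normalizer_alphaCore' M)) hcop hSt hStc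
      hQSt hx
  -- (b)
  have hmax : ∀ T : Subgroup G, IsPGroup t T → St ⊓ centralizer (Q : Set G) ≤ T →
      T ≤ M ⊓ centralizer (Q : Set G) → St ⊓ centralizer (Q : Set G) = T := by
    intro T hT hAT hTM
    have hTα : T ≤ alphaCore M := le_alphaCore_of_isPGroup hG hM ht (hTM.trans inf_le_left) hT
    have hT2 : T ≤ alphaCore M ⊓ centralizer (Q : Set G) := le_inf hTα (hTM.trans inf_le_right)
    have hcard : Nat.card T ≤ Nat.card ↥(St ⊓ centralizer (Q : Set G)) := by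
      rw [hA1]; exact Cfsg.Agent.Helper22.card_le_sylCard' hT2 hT
    exact Subgroup.eq_of_le_of_card_ge hAT hcard
  -- (c)
  obtain ⟨P, hAP, hPF, hPc⟩ :=
    Cfsg.Agent.Helper15.BGU.exists_syl_ge t hAt (inf_le_right : St ⊓ centralizer (Q : Set G) ≤ _)
  have hPt : IsPGroup t P := Cfsg.Agent.Helper22.isPGroup_of_card_sylCard hPc
  by_cases hAPeq : St ⊓ centralizer (Q : Set G) = P
  · rw [hAPeq]; exact hPc
  exfalso
  obtain ⟨g, hgP, hgN, hgA⟩ := Cfsg.Agent.Helper22.exists_mem_normalizer_not_mem hPt hAP hAPeq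
  have hc := comm_of_isCyclic hcyc
  have hVle := omega1_le _ t hc
  have hAM : St ⊓ centralizer (Q : Set G) ≤ M := inf_le_left.trans (hSt.trans (alphaCore_le' M))
  have hNV : normalizer ((omega1 _ t hc : Subgroup G) : Set G) ≤ M :=
    Cfsg.Agent.Helper98.BG139Req.normalizer_le_of_mem_beta hG M hM t htβ _ (hVle.trans hAM)
      (omega1_elemAb _ t hc) (omega1_ne_bot hc hAt hne)
  have hNA : normalizer ((St ⊓ centralizer (Q : Set G) : Subgroup G) : Set G) ≤ M :=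
    (normalizer_le_normalizer_omega1 _ t hc).trans hNV
  have hT := hmax (P ⊓ normalizer ((St ⊓ centralizer (Q : Set G) : Subgroup G) : Set G))
    (hPt.to_le inf_le_left) (le_inf hAP le_normalizer)
    (le_inf (inf_le_right.trans hNA) (inf_le_left.trans hPF))
  apply hgA
  rw [hT]
  exact ⟨hgP, hgN⟩

/-- **(AS3b)** of helper96's B-G 13.8 server: statement VERBATIM from
`tools/bgasym13_sigs_helper96.lean.txt`. -/
theorem side_beta (hG : IsMinSimpleOddOrder G) {M Q W St : Subgroup G} {q w t : ℕ}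
    [Fact q.Prime] [Fact w.Prime] [Fact t.Prime] (hM : IsCoatom M)
    (hqM : q ∈ tau1 M) (hwq : w ≠ q) (hwα : w ∉ alpha M)
    (hQ : Nat.card Q = q) (hQM : Q ≤ M) (hW : IsPGroup w W) (hWM : W ≤ ⁅M, M⁆)
    (hQW : Q ≤ normalizer (W : Set G))
    (hfpf : ∀ x ∈ W, (∀ y ∈ Q, y * x = x * y) → x = 1)
    (ht : t ∈ alpha M) (hSt : St ≤ alphaCore M) (hStc : Nat.card St = sylCard t (alphaCore M))
    (hWSt : W ≤ normalizer (St : Set G)) (hQSt : Q ≤ normalizer (St : Set G))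
    (hmove : ¬ St ≤ centralizer (W : Set G)) :
    t ∈ beta M ∧ St ⊓ centralizer (Q : Set G) ≠ ⊥ ∧
      IsCyclic ↥(St ⊓ centralizer (Q : Set G)) ∧
      Nat.card ↥(St ⊓ centralizer (Q : Set G)) = sylCard t (centralizer (Q : Set G)) := by
  have hStt : IsPGroup t St := Cfsg.Agent.Helper22.isPGroup_of_card_sylCard hStc
  have hStM : St ≤ M := hSt.trans (alphaCore_le' M)
  have htM : t ∣ Nat.card M := dvd_card_of_mem_alpha ht
  have hqα : q ∉ alpha M := not_mem_alpha_of_tau1 hqM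
  have hwt : w ≠ t := fun h => hwα (h ▸ ht)
  have htq : t ≠ q := fun h => hqα (h ▸ ht)
  have ht2 : t ≠ 2 := Cfsg.Agent.Helper34.BG.prime_ne_two hG M htM
  have hW1 : W ≠ ⊥ := by
    intro h
    apply hmove
    rw [h]
    intro s _
    rw [mem_centralizer_iff]
    intro u hu
    have hu1 : u = 1 := by simpa using hu
    rw [hu1]; simp
  have hw2 : w ≠ 2 :=
    Cfsg.Agent.Helper34.BG.prime_ne_two hG W (Cfsg.Agent.Helper15.BGV.dvd_card_of_le hW hW1 le_rfl)
  have hβ : t ∈ beta M := side_beta_mem hG hM hwt htM hW hWM hStM hStt hWSt hmove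
  have hne : St ⊓ centralizer (Q : Set G) ≠ ⊥ :=
    side_beta_ne_bot ht2 hw2 hwt.symm htq hwq hQ hW hStt hQW hfpf hWSt hQSt hmove
  have hcyc : IsCyclic ↥(St ⊓ centralizer (Q : Set G)) :=
    side_beta_cyclic hG hM hqM ht2 hQ hQM hSt hStt
  exact ⟨hβ, hne, hcyc,
    side_beta_sylow hG hM hqα ht hβ hQ hQM hSt hStc hQSt hne hcyc⟩

end Cfsg.Agent.Helper60.BGAsym
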