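import Mathlib
import Cfsg.Agent.S1350
import Cfsg.Agent.S1415
import Cfsg.Agent.Lib.Helper58.BG139R12
import Cfsg.Agent.Lib.Helper25.BG142Q10
import Cfsg.Agent.Lib.Helper25.BG142Q17
import Cfsg.Agent.Lib.Helper77.BG142Q14
import Cfsg.Agent.Lib.Helper60.BG139a
import Cfsg.Agent.Lib.Helper60.BGAsymAS3b
import Cfsg.Agent.Lib.Helper99.FrobFR
import Cfsg.Agent.Lib.Helper96.BGAsymPure
import Cfsg.Agent.Lib.Helper24.SZInternal
import Cfsg.Agent.Lib.Helper24.Averaging
import Cfsg.Agent.Lib.Helper52.CoprimeSylow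
import Cfsg.Agent.Lib.Helper78.BG121

/-!
# (Q11) = (L9) of helper54's B-G 14.2 server (`tools/bg142_sigs_helper54.lean.txt`):
Frobenius-normality.  BACKUP version by helper60.
-/

set_option autoImplicit false
set_option linter.unusedSectionVars false
set_option linter.unusedVariables false
set_option linter.style.haveILetI false

namespace Cfsg.Agent.Helper60.BG142Req

open Subgroup Cfsg
open Cfsg.Agent.Helper52 (sylCard)
open Cfsg.Agent.Helper60.BGAsym (exists_gen_of_card_prime centralizer_eq_of_gen comm_of_isCyclic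
  le_normalizer_of_conj_mem'')

variable {G : Type*} [Group G] [Finite G]

/-- a subgroup of a cyclic subgroup normalized by `E` is normalized by `E` -/
theorem le_normalizer_of_le_cyclic {E P Y : Subgroup G} (hP : IsCyclic P)
    (hEP : E ≤ normalizer (P : Set G)) (hYP : Y ≤ P) : E ≤ normalizer (Y : Set G) := by
  intro e he
  apply Cfsg.Agent.Helper52.mem_normalizer_of_map_conj_eq
  have hle : Y.map (MulAut.conj e).toMonoidHom ≤ P := by
    rintro _ ⟨y, hy, rfl⟩
    have := (mem_normalizer_iff.mp (hEP he) y).mp (hYP hy)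
    simpa using this
  exact Cfsg.Agent.Helper25.BG142Req.eq_of_card_eq_of_le_cyclic hP hle hYP
    (Cfsg.Agent.Helper52.card_map_conj e Y)

/-- the Frobenius core of (L9): `X = ⟨x⟩` of prime order `t`, `Y` of prime order `s` normalized by
`X` with `C_Y(x) = 1`, both acting on `N` with `C_N(x) ≤ C(Y)`; then the `X Y`-invariant Sylow
`q`-subgroups of `N` are centralized by `Y`. -/
theorem frob_core {N X Y : Subgroup G} {t s q : ℕ} [Fact t.Prime] [Fact s.Prime] [Fact q.Prime]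
    (hq2 : q ≠ 2) (hs2 : s ≠ 2) (hqs : q ≠ s) (hqt : q ≠ t) (hst : s ≠ t)
    (hX : Nat.card X = t) (hY : Nat.card Y = s)
    (hXY : X ≤ normalizer (Y : Set G))
    (hfpf : Y ⊓ centralizer (X : Set G) = ⊥)
    (hfix : N ⊓ centralizer (X : Set G) ≤ centralizer (Y : Set G))
    {Q : Subgroup G} (hQN : Q ≤ N) (hQq : IsPGroup q Q)
    (hXQ : X ≤ normalizer (Q : Set G)) (hYQ : Y ≤ normalizer (Q : Set G)) :
    Q ≤ centralizer (Y : Set G) := by
  have htp : t.Prime := Fact.out
  have hsp : s.Prime := Fact.out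
  obtain ⟨x, hx, hx1, hxt, hgen⟩ := exists_gen_of_card_prime htp hX
  have hCX : centralizer (X : Set G) = centralizer ({x} : Set G) :=
    centralizer_eq_of_gen htp hX hx hx1
  have hYs : IsPGroup s Y := IsPGroup.of_card (n := 1) (by rw [hY, pow_one])
  have hfpf' : ∀ u ∈ Y, x * u = u * x → u = 1 := by
    intro u hu hxu
    have hmem : u ∈ Y ⊓ centralizer (X : Set G) := by
      refine ⟨hu, ?_⟩
      rw [hCX]
      exact mem_centralizer_singleton_iff.mpr hxu.symm
    rw [hfpf, mem_bot] at hmem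
    exact hmem
  have hKgen := Cfsg.Agent.Helper96.BGAsym.le_closure_comm_of_fpf Y x (hXY hx) hfpf'
  refine Cfsg.Agent.Helper99.FrobFR.frob_centralizes (Fact.out : q.Prime) hsp htp hq2 hs2 hqs hqt
    hst Q Y x hQq hYs hYQ (hXQ hx) (hXY hx) hxt hKgen ?_
  intro y hy hxy _
  apply hfix
  refine ⟨hQN hy, ?_⟩
  rw [hCX]
  exact mem_centralizer_singleton_iff.mpr hxy.symm

/-- **(Q11)** = (L9): statement VERBATIM from `tools/bg142_sigs_helper54.lean.txt`. -/
theorem le_normalizer_of_semiprime (hG : Cfsg.IsMinSimpleOddOrder G) (M : Subgroup G)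
    (hM : IsCoatom M) (E : Subgroup G) (hE : Cfsg.IsComplIn E (Cfsg.sigmaCore M) M)
    (h2 : Cfsg.tau2 M = ∅)
    (hsemi : ∀ e ∈ E, e ≠ 1 → Cfsg.sigmaCore M ⊓ centralizer ({e} : Set G) =
      Cfsg.sigmaCore M ⊓ centralizer (E : Set G))
    (hK0 : Cfsg.sigmaCore M ⊓ centralizer (E : Set G) ≠ ⊥) (X : Subgroup G) (hXE : X ≤ E)
    (hX : (Nat.card X).Prime) :
    E ≤ normalizer (X : Set G) := by
  obtain ⟨t, ht⟩ : ∃ t, Nat.card X = t := ⟨_, rfl⟩
  rw [ht] at hX
  haveI : Fact t.Prime := ⟨hX⟩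
  have hXt : IsPGroup t X := IsPGroup.of_card (n := 1) (by rw [ht, pow_one])
  have hEne : E ≠ ⊤ := Cfsg.Agent.Helper34.BG.ne_top_of_le_coatom hM hE.1
  have hEsolv : Group.IsSolvable ↥E := Cfsg.Agent.Helper34.BG.solvable_of_ne_top hG hEne
  have htE : t ∣ Nat.card E := ht ▸ Subgroup.card_dvd_of_le hXE
  have hσ : IsPiHallOf (sigma M) (sigmaCore M) M := (Cfsg.Agent.S1350.result hG M hM).1
  have h15 := Cfsg.Agent.S1415.result hG M hM E hE
  rcases Cfsg.Agent.Helper58.BG139Req.mem_tau1_or_tau3_of_dvd hG M hM h2 E hE t hX htE with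
    ht1 | ht3
  · -- `t ∈ τ₁(M)`
    obtain ⟨E1, hE1, hXE1⟩ :=
      Cfsg.Agent.Helper60.BG139.exists_hall_ge hEsolv (tau1 M) ht1 hXt hXE
    obtain ⟨E3, hE3, hEsup, hcop31, hcard⟩ :=
      Cfsg.Agent.Helper58.BG139Req.exists_hall_tau3 hG M hM h2 E hE E1 hE1
    have hE1cyc : IsCyclic E1 := h15.2.1 E1 hE1
    obtain ⟨hE3cyc, hE3comm, hE3norm⟩ := h15.2.2 E3 hE3
    have hE1C : E1 ≤ centralizer (X : Set G) := by
      intro a ha
      rw [mem_centralizer_iff]
      intro b hb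
      exact comm_of_isCyclic hE1cyc b (hXE1 hb) a ha
    suffices hE3C : E3 ≤ centralizer (X : Set G) from
      hEsup.trans (sup_le (hE3C.trans (Subgroup.centralizer_le_normalizer _))
        (hE1C.trans (Subgroup.centralizer_le_normalizer _)))
    by_contra hnot
    have hXN3 : X ≤ normalizer (E3 : Set G) := hXE.trans hE3norm
    have htE3 : ¬ t ∣ Nat.card E3 := by
      intro hd
      have := hE3.2.1 t hX hd
      exact ht1.2.2.2.1 this.2.2.1
    have hcopX3 : (Nat.card X).Coprime (Nat.card E3) := by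
      rw [ht]; exact (Nat.Prime.coprime_iff_not_dvd hX).mpr htE3
    have hE3c := comm_of_isCyclic hE3cyc
    have hE3solv : Group.IsSolvable ↥E3 := by
      apply Group.isSolvable_of_comm
      intro a b
      exact Subtype.ext (hE3c a.1 a.2 b.1 b.2)
    have hdec := Cfsg.Agent.Helper24.eq_commutator_sup_centralizer E3 X hXN3 hcopX3 hE3solv
    have hcomm_ne : (⁅E3, X⁆ : Subgroup G) ≠ ⊥ := by
      intro h
      apply hnot
      rw [h, bot_sup_eq] at hdec
      rw [hdec]
      exact inf_le_right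
    have hcomm_le : (⁅E3, X⁆ : Subgroup G) ≤ E3 :=
      Cfsg.Agent.Helper24.commutator_le_of_le_normalizer E3 X hXN3
    obtain ⟨y0, hy0, s, hs, hy0s⟩ :=
      Cfsg.Agent.Helper25.BG142Req.exists_prime_order_mem' hcomm_ne
    haveI : Fact s.Prime := ⟨hs⟩
    have hYcard : Nat.card (zpowers y0) = s := by rw [Nat.card_zpowers, hy0s]
    have hYcomm : zpowers y0 ≤ (⁅E3, X⁆ : Subgroup G) := by
      rw [zpowers_le]; exact hy0
    have hYE3 : zpowers y0 ≤ E3 := hYcomm.trans hcomm_le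
    have hE33 : (⁅E3, E3⁆ : Subgroup G) = ⊥ := by
      rw [Subgroup.commutator_eq_bot_iff_le_centralizer]
      intro a ha
      rw [mem_centralizer_iff]
      intro b hb
      exact hE3c b hb a ha
    have hfpf : zpowers y0 ⊓ centralizer (X : Set G) = ⊥ := by
      rw [eq_bot_iff]
      intro u hu
      have h1 := Cfsg.Agent.Helper24.inf_centralizer_inf_commutator_le E3 X hXN3 hcopX3.symm
      have h2 : u ∈ E3 ⊓ centralizer (X : Set G) ⊓ ⁅E3, X⁆ :=
        ⟨⟨hYE3 hu.1, hu.2⟩, hYcomm hu.1⟩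
      have h3 := h1 h2
      rwa [hE33] at h3
    have hEY : E ≤ normalizer ((zpowers y0 : Subgroup G) : Set G) :=
      le_normalizer_of_le_cyclic hE3cyc hE3norm hYE3
    have hYE : zpowers y0 ≤ E := hYE3.trans hE3.1
    -- the primes
    have hsE3 : s ∣ Nat.card E3 := hYcard ▸ Subgroup.card_dvd_of_le hYE3
    have hs3 : s ∈ tau3 M := hE3.2.1 s hs hsE3
    have hst : s ≠ t := fun h => htE3 (h ▸ hsE3)
    obtain ⟨w, hw, q, hq, hwq⟩ := Cfsg.Agent.Helper25.BG142Req.exists_prime_order_mem' hK0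
    haveI : Fact q.Prime := ⟨hq⟩
    have hXq : Nat.card (zpowers w) = q := by rw [Nat.card_zpowers, hwq]
    have hXqK : zpowers w ≤ sigmaCore M ⊓ centralizer (E : Set G) := by
      rw [zpowers_le]; exact hw
    have hqMs : q ∣ Nat.card ↥(sigmaCore M) :=
      hXq ▸ Subgroup.card_dvd_of_le (hXqK.trans inf_le_left)
    have hqσ : q ∈ sigma M := hσ.2.1 q hq hqMs
    have hqs : q ≠ s := fun h => hs3.2.1 (h ▸ hqσ)
    have hqt : q ≠ t := fun h => ht1.2.1 (h ▸ hqσ)
    have hq2 : q ≠ 2 := Cfsg.Agent.Helper34.BG.prime_ne_two hG (sigmaCore M) hqMs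
    have hs2 : s ≠ 2 := Cfsg.Agent.Helper34.BG.prime_ne_two hG E3 hsE3
    -- an invariant Sylow `q`-subgroup of `M_σ`
    have hAE : zpowers y0 ⊔ X ≤ E := sup_le hYE hXE
    have hAN : zpowers y0 ⊔ X ≤ normalizer ((sigmaCore M : Subgroup G) : Set G) :=
      hAE.trans (hE.1.trans (Cfsg.Agent.Helper55.BGB.le_normalizer_sigmaCore M))
    have hAcop : (Nat.card ↥(zpowers y0 ⊔ X)).Coprime (Nat.card ↥(sigmaCore M)) := by
      apply Nat.coprime_of_dvd
      intro k hk hk1 hk2
      exact Cfsg.Agent.Helper78.BG121.not_mem_sigma_of_dvd hσ hE hk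
        (hk1.trans (Subgroup.card_dvd_of_le hAE)) (hσ.2.1 k hk hk2)
    have hAsolv : Group.IsSolvable ↥(zpowers y0 ⊔ X) :=
      Cfsg.Agent.Helper34.BG.solvable_of_ne_top hG
        (Cfsg.Agent.Helper34.BG.ne_top_of_le_coatom hM (hAE.trans hE.1))
    obtain ⟨Q, hQN, hQc, hAQ⟩ := Cfsg.Agent.Helper52.exists_invariant_sylow (zpowers y0 ⊔ X)
      (sigmaCore M) hAN hAcop (Or.inl hAsolv) q
    have hQq : IsPGroup q Q := Cfsg.Agent.Helper22.isPGroup_of_card_sylCard hQc
    -- generators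
    obtain ⟨x, hx, hx1, hxt, hgenx⟩ := exists_gen_of_card_prime hX ht
    have hCX : centralizer (X : Set G) = centralizer ({x} : Set G) :=
      centralizer_eq_of_gen hX ht hx hx1
    have hy01 : y0 ≠ 1 := by
      intro h
      rw [h, orderOf_one] at hy0s
      exact hs.one_lt.ne hy0s
    have hCY : centralizer ((zpowers y0 : Subgroup G) : Set G) = centralizer ({y0} : Set G) :=
      centralizer_eq_of_gen hs hYcard (mem_zpowers y0) hy01
    have hfix : sigmaCore M ⊓ centralizer (X : Set G) ≤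
        centralizer ((zpowers y0 : Subgroup G) : Set G) := by
      rw [hCX, hsemi x (hXE hx) hx1]
      exact inf_le_right.trans (Subgroup.centralizer_le hYE)
    have hQY := frob_core hq2 hs2 hqs hqt hst ht hYcard (hXE.trans hEY) hfpf hfix hQN hQq
      (le_sup_right.trans hAQ) (le_sup_left.trans hAQ)
    have hQK0 : Q ≤ sigmaCore M ⊓ centralizer (E : Set G) := by
      rw [← hsemi y0 (hYE (mem_zpowers y0)) hy01, ← hCY]
      exact le_inf hQN hQY
    have hQx : Q ≤ centralizer ({x} : Set G) :=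
      hQK0.trans (inf_le_right.trans (Subgroup.centralizer_le (by simpa using hXE hx)))
    -- contradiction with (Q14) + (Q10)
    obtain ⟨Qs, hQs⟩ := Cfsg.Agent.Helper52.exists_sylow_of_card q (sigmaCore M) Q hQN hQc
    have h14 := Cfsg.Agent.Helper77.BG142Req.uniq_of_P1 hG M hM E hE q (zpowers w) hXq hXqK Qs
    rw [hQs] at h14
    have hox : orderOf x = t := orderOf_eq_prime hxt hx1
    exact Cfsg.Agent.Helper25.BG142Req.not_le_centralizer_of_inUniqueMaximal hG M hM Q h14.2.1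
      h14.2.2 x (hox ▸ hX) (hox ▸ ht1.2.1) (hox ▸ ht1.2.2.2.2) hQx
  · -- `t ∈ τ₃(M)`
    obtain ⟨E3, hE3, hXE3⟩ :=
      Cfsg.Agent.Helper60.BG139.exists_hall_ge hEsolv (tau3 M) ht3 hXt hXE
    obtain ⟨hE3cyc, hE3comm, hE3norm⟩ := h15.2.2 E3 hE3
    exact le_normalizer_of_le_cyclic hE3cyc hE3norm hXE3

end Cfsg.Agent.Helper60.BG142Req
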