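import Mathlib
import Cfsg.Agent.Lib.Helper60.BGAsymAS3b
import Cfsg.Agent.Lib.Helper22.BGAsymAS2
import Cfsg.Agent.Lib.Helper22.BGAsymAS3a
import Cfsg.Agent.Lib.Helper16.BGAsymAS4
import Cfsg.Agent.Lib.Helper41.BGAsymZ
import Cfsg.Agent.Lib.Helper98.BG139Q3
import Cfsg.Agent.Lib.Helper98.BG139R6
import Cfsg.Agent.Lib.Helper15.BGV.Core

/-!
# B-G 13.8 (tau1 asymmetry): the assembly (AS5) of helper96's lemma server
(`tools/bgasym13_sigs_helper96.lean.txt`).  BACKUP version by helper60.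
-/

set_option autoImplicit false
set_option linter.unusedSectionVars false
set_option linter.unusedVariables false
set_option linter.style.haveILetI false

namespace Cfsg.Agent.Helper60.BGAsym

open Subgroup Cfsg
open Cfsg.Agent.Helper52 (sylCard)

variable {G : Type*} [Group G] [Finite G]

theorem elemAb_of_card_prime {X : Subgroup G} {t : ℕ} (ht : t.Prime) (hX : Nat.card X = t) :
    IsElementaryAbelian t X := by
  refine ⟨⟨⟨fun a b => Subtype.ext (comm_of_card_prime ht hX a.1 a.2 b.1 b.2)⟩⟩, fun a ha => ?_⟩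
  have h1 : (⟨a, ha⟩ : ↥X) ^ Nat.card ↥X = 1 := pow_card_eq_one'
  rw [hX] at h1
  have := congrArg Subtype.val h1
  simpa using this

theorem map_conj_le_centralizer {B Q : Subgroup G} {c : G} (hB : B ≤ centralizer (Q : Set G))
    (hc : c ∈ centralizer (Q : Set G)) :
    B.map (MulAut.conj c).toMonoidHom ≤ centralizer (Q : Set G) := by
  rintro _ ⟨b, hb, rfl⟩
  simp only [MulEquiv.coe_toMonoidHom, MulAut.conj_apply]
  exact Subgroup.mul_mem _ (Subgroup.mul_mem _ hc (hB hb)) (Subgroup.inv_mem _ hc)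

/-- **B-G 13.8** = (AS5): statement VERBATIM from `tools/bgasym13_sigs_helper96.lean.txt`. -/
theorem asymmetry (hG : IsMinSimpleOddOrder G) {M H Q W W' : Subgroup G} {q w w' : ℕ}
    [Fact q.Prime] [Fact w.Prime] [Fact w'.Prime]
    (hM : IsCoatom M) (hH : IsCoatom H)
    (hnc : ∀ g : G, H ≠ M.map (MulAut.conj g).toMonoidHom)
    (hqM : q ∈ tau1 M) (hqH : q ∈ tau1 H) (hQ : Nat.card Q = q) (hQI : Q ≤ M ⊓ H)
    (hwq : w ≠ q) (hw'q : w' ≠ q)
    (hW : IsPGroup w W) (hWI : W ≤ M ⊓ H) (hWs : Nat.card W = sylCard w (M ⊓ H))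
    (hQW : Q ≤ normalizer (W : Set G))
    (hfpf : ∀ x ∈ W, (∀ y ∈ Q, y * x = x * y) → x = 1)
    (hN : normalizer (W : Set G) ≤ H)
    (hW' : IsPGroup w' W') (hW'I : W' ≤ M ⊓ H) (hW's : Nat.card W' = sylCard w' (M ⊓ H))
    (hQW' : Q ≤ normalizer (W' : Set G))
    (hfpf' : ∀ x ∈ W', (∀ y ∈ Q, y * x = x * y) → x = 1)
    (hN' : normalizer (W' : Set G) ≤ M) : False := by
  have hqp : q.Prime := Fact.out
  have hU : Cfsg.Agent.Helper34.BG.UniqHyp G :=
    fun K hK h1 h3 => Cfsg.Agent.S1403.result hG K hK h1 h3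
  have hne : M ≠ H := by
    intro h
    apply hnc 1
    rw [Cfsg.Agent.Helper15.BGV.map_conj_one]
    exact h.symm
  have hnc' : ∀ g : G, M ≠ H.map (MulAut.conj g).toMonoidHom := by
    intro g h
    apply hnc g⁻¹
    rw [h, Cfsg.Agent.Helper15.BGV.map_conj_inv_map_conj]
  have hQI' : Q ≤ H ⊓ M := by rw [inf_comm]; exact hQI
  have hWI' : W ≤ H ⊓ M := by rw [inf_comm]; exact hWI
  have hW'I' : W' ≤ H ⊓ M := by rw [inf_comm]; exact hW'I
  have hW's' : Nat.card W' = sylCard w' (H ⊓ M) := by rw [inf_comm]; exact hW's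
  obtain ⟨hW1, hWsM, hwα, hWD, hfacM⟩ :=
    Cfsg.Agent.Helper22.BGAsym.side_basic hG hM hH hne hQ hQI hwq hW hWI hWs hQW hfpf hN
  obtain ⟨hW'1, hW'sH, hw'α, hW'D, hfacH⟩ :=
    Cfsg.Agent.Helper22.BGAsym.side_basic hG hH hM hne.symm hQ hQI' hw'q hW' hW'I' hW's' hQW'
      hfpf' hN'
  have hqαM : q ∉ alpha M := not_mem_alpha_of_tau1 hqM
  have hqαH : q ∉ alpha H := not_mem_alpha_of_tau1 hqH
  obtain ⟨t, St, ht, hSt, hStc, hWSt, hQSt, hmove⟩ :=
    Cfsg.Agent.Helper22.BGAsym.exists_moved_sylow hG hM hH hne hqαM hwα hQ hQI hW hWI hQW hN hfacM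
  obtain ⟨t', St', ht', hSt', hSt'c, hW'St', hQSt', hmove'⟩ :=
    Cfsg.Agent.Helper22.BGAsym.exists_moved_sylow hG hH hM hne.symm hqαH hw'α hQ hQI' hW' hW'I'
      hQW' hN' hfacH
  haveI : Fact t.Prime := ⟨ht.1⟩
  haveI : Fact t'.Prime := ⟨ht'.1⟩
  obtain ⟨htβ, hA1, hAcyc, hAc⟩ := side_beta hG hM hqM hwq hwα hQ (hQI.trans inf_le_left) hW hWD
    hQW hfpf ht hSt hStc hWSt hQSt hmove
  obtain ⟨ht'β, hB1, hBcyc, hBc⟩ := side_beta hG hH hqH hw'q hw'α hQ (hQI.trans inf_le_right) hW'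
    hW'D hQW' hfpf' ht' hSt' hSt'c hW'St' hQSt' hmove'
  have htH : t ∉ alpha H := fun h =>
    Cfsg.Agent.Helper98.BG139.alpha_disj hG M H hM hH hnc t ht
      (Cfsg.Agent.Helper34.BG.alpha_subset_sigma hG hU hH h)
  have ht'M : t' ∉ alpha M := fun h =>
    Cfsg.Agent.Helper98.BG139.alpha_disj hG H M hH hM hnc' t' ht'
      (Cfsg.Agent.Helper34.BG.alpha_subset_sigma hG hU hM h)
  have htt' : t ≠ t' := fun h => htH (h ▸ ht')
  -- `C(Q)` is solvable
  have hQ1 : Q ≠ ⊥ := by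
    intro h
    rw [h, Subgroup.card_bot] at hQ
    exact hqp.one_lt.ne hQ
  have hQtop : Q ≠ ⊤ := fun h => hM.1 (top_le_iff.mp (h ▸ hQI.trans inf_le_left))
  have hCne : centralizer (Q : Set G) ≠ ⊤ := by
    intro h
    apply Cfsg.Agent.Helper34.BG.normalizer_ne_top hG hQ1 hQtop
    exact top_le_iff.mp (h ▸ Subgroup.centralizer_le_normalizer _)
  have hCsolv : Group.IsSolvable ↥(centralizer (Q : Set G)) :=
    Cfsg.Agent.Helper34.BG.solvable_of_ne_top hG hCne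
  rcases Cfsg.Agent.Helper41.BGAsym.z_asym (centralizer (Q : Set G)) hCsolv htt'
      (St ⊓ centralizer (Q : Set G)) (St' ⊓ centralizer (Q : Set G)) inf_le_right inf_le_right
      hAc hBc hA1 hB1 hAcyc hBcyc with
    ⟨X, hXA, hXc, c, hc, hle⟩ | ⟨X, hXB, hXc, c, hc, hle⟩
  · have hXM : X ≤ M := hXA.trans (inf_le_left.trans (hSt.trans (alphaCore_le' M)))
    have hX1 : X ≠ ⊥ := by
      intro h
      rw [h, Subgroup.card_bot] at hXc
      exact ht.1.one_lt.ne hXc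
    have hNX : normalizer (X : Set G) ≤ M :=
      Cfsg.Agent.Helper98.BG139Req.normalizer_le_of_mem_beta hG M hM t htβ X hXM
        (elemAb_of_card_prime ht.1 hXc) hX1
    have hBcM : (St' ⊓ centralizer (Q : Set G)).map (MulAut.conj c).toMonoidHom ≤
        M ⊓ centralizer (Q : Set G) :=
      le_inf (hle.trans hNX) (map_conj_le_centralizer inf_le_right hc)
    exact Cfsg.Agent.Helper16.BGAsym.one_sided hG hM hH hne hqM hqH hQ hQI hfacM hW' hW'1 hW'I
      hw'q hw'α hQW' hfpf' hN' ht' ht'M hBcM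
      (by rw [Cfsg.Agent.Helper52.card_map_conj]; exact hBc)
  · have hXH : X ≤ H := hXB.trans (inf_le_left.trans (hSt'.trans (alphaCore_le' H)))
    have hX1 : X ≠ ⊥ := by
      intro h
      rw [h, Subgroup.card_bot] at hXc
      exact ht'.1.one_lt.ne hXc
    have hNX : normalizer (X : Set G) ≤ H :=
      Cfsg.Agent.Helper98.BG139Req.normalizer_le_of_mem_beta hG H hH t' ht'β X hXH
        (elemAb_of_card_prime ht'.1 hXc) hX1
    have hAcH : (St ⊓ centralizer (Q : Set G)).map (MulAut.conj c).toMonoidHom ≤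
        H ⊓ centralizer (Q : Set G) :=
      le_inf (hle.trans hNX) (map_conj_le_centralizer inf_le_right hc)
    exact Cfsg.Agent.Helper16.BGAsym.one_sided hG hH hM hne.symm hqH hqM hQ hQI' hfacH hW hW1 hWI'
      hwq hwα hQW hfpf hN ht htH hAcH
      (by rw [Cfsg.Agent.Helper52.card_map_conj]; exact hAc)

end Cfsg.Agent.Helper60.BGAsym
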