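import Mathlib
import Cfsg.Agent.Lib.Helper67.BGCrux
import Cfsg.Agent.Lib.Helper23.BGCruxC1
import Cfsg.Agent.Lib.Helper23.BGCruxC4
import Cfsg.Agent.Lib.Helper26.BGCruxC9
import Cfsg.Agent.Lib.Helper57.BGCruxC6
import Cfsg.Agent.Lib.Helper66.BGCruxC2
import Cfsg.Agent.Lib.Helper68.BGCruxC7
import Cfsg.Agent.Lib.Helper77.BGCruxC3
import Cfsg.Agent.Lib.Helper47.BG142L
import Cfsg.Agent.Lib.Helper79.BG142Q5
import Cfsg.Agent.Lib.Helper79.BG142Q7
import Cfsg.Agent.Lib.Helper97.BG142Q3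
import Cfsg.Agent.Lib.Helper60.BGAsymAS5
import Cfsg.Agent.S1350
import Cfsg.Agent.S1378
import Cfsg.Agent.S1404
import Cfsg.Agent.S1415
import Cfsg.Agent.S1417
import Cfsg.Agent.S1418
import Cfsg.Agent.S1420
import Cfsg.Agent.S1423
import Cfsg.Agent.S1426
import Cfsg.Agent.S1427
import Cfsg.Agent.S1428

/-!
# (Q9) = (L8) = CRUX of S1430/S1431 (B-G 13.11(c)): the verbatim wrapper (helper60, backup)

`semiprime_of_tau3_fixed` : statement VERBATIM from `tools/bg142_sigs_helper54.lean.txt` (Q9).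
Body: `Cfsg.Agent.Helper67.BGCrux.semiprime_of_tau3_fixed hG pkgs` with
`Rows G` from the frozen rows S1350 S1404 S1415 S1417 S1418 S1420 S1423 S1426 S1427,
`Inputs G` from S1378 (sigma-partition), helper79 (Q5), (Q7), S1428, helper97 (Q3), B-G 13.8 (`BGAsymAS5`),
`Pkgs G` from the packages C1 C4 (helper23), C2 (helper66), C3 (helper77), C6 (helper57), C7 (helper68), C9 (helper26)
and (L2) of helper47.
-/

set_option autoImplicit false
set_option linter.unusedVariables false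

namespace Cfsg.Agent.Helper60.BG142Req

open Subgroup Cfsg

variable {G : Type*} [Group G] [Finite G]

/-- the frozen rows used by the crux. -/
theorem crux_rows (hG : Cfsg.IsMinSimpleOddOrder G) : Cfsg.Agent.Helper67.BGCrux.Rows G where
  r1350 := fun M hM => Cfsg.Agent.S1350.result hG M hM
  r1404 := fun M hM p _ hp X hXp hX1 hXM => Cfsg.Agent.S1404.result hG M hM p hp X hXp hX1 hXM
  r1415 := fun M hM E hE => Cfsg.Agent.S1415.result hG M hM E hE
  r1417 := fun M hM p _ hp A hA => Cfsg.Agent.S1417.result hG M hM p hp A hA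
  r1418 := fun M hM E hE p _ hp A hA => Cfsg.Agent.S1418.result hG M hM E hE p hp A hA
  r1420 := fun M hM E hE => Cfsg.Agent.S1420.result hG M hM E hE
  r1423 := fun M hM p _ hp X hXM hX P h => Cfsg.Agent.S1423.result hG M hM p hp X hXM hX P h
  r1426 := fun M hM E hE => Cfsg.Agent.S1426.result hG M hM E hE
  r1427 := fun M hM E hE p _ S hS1 hSc => Cfsg.Agent.S1427.result hG M hM E hE p S hS1 hSc

/-- the non-row inputs of the crux. -/
theorem crux_inputs (hG : Cfsg.IsMinSimpleOddOrder G) : Cfsg.Agent.Helper67.BGCrux.Inputs G where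
  sp := (Cfsg.Agent.S1378.result hG).2
  l6 := fun M hM p hp hpσ hr X hXM hX hC H hH hNH =>
    Cfsg.Agent.Helper79.BG142Req.le_sigmaCore_of_normalizer_le hG M hM p hp hpσ hr X hXM hX hC H hH hNH
  s1428 := fun M hM E hE p hp P hPE hP R hRE hR =>
    Cfsg.Agent.S1428.result hG M hM E hE p hp P hPE hP R hRE hR
  asym := fun hM hH hnc hqM hqH hQ hQI hwq hw'q hW hWI hWs hQW hfpf hN hW' hW'I hW's hQW' hfpf' hN' =>
    Cfsg.Agent.Helper60.BGAsym.asymmetry hG hM hH hnc hqM hqH hQ hQI hwq hw'q hW hWI hWs hQW hfpf hN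
      hW' hW'I hW's hQW' hfpf' hN'
  q3 := fun M p hp hpσ hr X hXM hX hC =>
    Cfsg.Agent.Helper97.BG142Req.mem_kappa_of_cent_ne_bot hG M p hp hpσ hr X hXM hX hC
  q5 := fun M hM E hE s hs Y hYE hY hC =>
    Cfsg.Agent.Helper79.BG142Req.tau2_eq_empty_of_tau3_fixed hG M hM E hE s hs Y hYE hY hC

/-- the packages C1-C9 + (L2). -/
theorem crux_pkgs (hG : Cfsg.IsMinSimpleOddOrder G) : Cfsg.Agent.Helper67.BGCrux.Pkgs G where
  c1 := fun hM hE h2 => Cfsg.Agent.Helper23.BGCrux.exists_EStruct hG (crux_rows hG) hM hE h2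
  c2 := fun cfg hEY hH hNH => Cfsg.Agent.Helper66.BGCrux.hside hG (crux_rows hG) (crux_inputs hG) cfg hEY hH hNH
  c3 := by
    intro M E Y H s cfg hs q hq hd
    exact Cfsg.Agent.Helper77.BGCrux.kappa_cyclic hG (crux_rows hG) (crux_inputs hG) cfg hs hq hd
  c4 := by
    intro M E Y H s cfg hs t _ T hT hTE ht
    exact Cfsg.Agent.Helper23.BGCrux.le_centralizer_of_not_tau1 hG (crux_rows hG) (crux_inputs hG) cfg hs
      hT hTE ht
  c6 := fun cfg es hs hEY hYE3 f2 f3 f4 =>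
    Cfsg.Agent.Helper57.BGCrux.stepA hG (crux_rows hG) (crux_inputs hG) cfg es hs hEY hYE3 f2 f3 f4
  c7 := fun cfg es hs hEY hYE3 f3 hA hC1 hF =>
    Cfsg.Agent.Helper68.BGCrux.stepB hG (crux_rows hG) (crux_inputs hG) cfg es hs hEY hYE3 f3 hA hC1 hF
  c9 := fun hp hq hr hp2 hq2 hpq hpr hqr S K x hS hK hKc hKS hxS hxK hxr hfpf hfix =>
    Cfsg.Agent.Helper26.BGCrux.frob_le_centralizer hp hq hr hp2 hq2 hpq hpr hqr S K x hS hK hKc hKS hxS hxK
      hxr hfpf hfix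
  l2 := fun M hM E hE E1 hE1 x hx hx1 =>
    (Cfsg.Agent.Helper47.BG142.L2 (Cfsg.Agent.S1415.result hG) (Cfsg.Agent.S1427.result hG)
      (Cfsg.Agent.S1428.result hG) hM hE hE1 x hx hx1).le

/-- (Q9) = (L8) = CRUX (*) = B-G 13.11(c), VERBATIM from tools/bg142_sigs_helper54.lean.txt. -/
theorem semiprime_of_tau3_fixed (hG : Cfsg.IsMinSimpleOddOrder G) (M : Subgroup G)
    (hM : IsCoatom M) (E : Subgroup G) (hE : Cfsg.IsComplIn E (Cfsg.sigmaCore M) M)
    (h2 : Cfsg.tau2 M = ∅) (s : ℕ) (hs : s ∈ Cfsg.tau3 M) (Y : Subgroup G) (hYE : Y ≤ E)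
    (hY : Nat.card Y = s) (hC : Cfsg.sigmaCore M ⊓ centralizer (Y : Set G) ≠ ⊥) :
    ∀ e ∈ E, e ≠ 1 → Cfsg.sigmaCore M ⊓ centralizer ({e} : Set G) =
      Cfsg.sigmaCore M ⊓ centralizer (E : Set G) :=
  Cfsg.Agent.Helper67.BGCrux.semiprime_of_tau3_fixed hG (crux_pkgs hG) M hM E hE h2 s hs Y hYE hY hC

end Cfsg.Agent.Helper60.BG142Req
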