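import Mathlib
import Cfsg.Agent.Lib.Helper60.BG144b
import Cfsg.Agent.S1350
import Cfsg.Agent.S1378
import Cfsg.Agent.S1404
import Cfsg.Agent.S1409
import Cfsg.Agent.S1417
import Cfsg.Agent.S1420
import Cfsg.Agent.S1424
import Cfsg.Agent.S1432

/-!
# B-G Theorem 14.4 (the signalizer `R(x)`), from the earlier rows of the chain
-/

set_option autoImplicit false
set_option linter.style.haveILetI false

namespace Cfsg.Agent.Helper60.BG144

open Subgroup Cfsg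
open Cfsg.Agent.Helper79.BG10 (cj mem_cj conj_mem_cj cj_mul cj_one cj_mono cj_le_iff card_cj
  isPGroup_cj cj_eq_self_of_mem cj_eq_self_of_mem_normalizer mem_normalizer_of_cj_eq cj_inv_cj
  cj_cj_inv)
open Cfsg.Agent.Helper55.BGB (sigmaCore_le isPi_sigmaCore le_normalizer_sigmaCore)

variable {G : Type*} [Group G] [Finite G]

/-- the configuration `M`, `N ∈ 𝓜(N_G(X))`, `N ≠ M`, `X ≤ M_σ` of order `p`. -/
structure Sig (M N : Subgroup G) (p : ℕ) : Prop where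
  nconj : ∀ g : G, N ≠ M.map (MulAut.conj g).toMonoidHom
  disj : ∀ q : ℕ, q ∈ sigma M → q ∉ sigma N
  tau2 : p ∈ tau2 N
  inter : sigmaCore N ⊓ M = ⊥
  compl : IsComplIn (M ⊓ N) (sigmaCore N) N
  nil : Group.IsNilpotent (sigmaCore N)
  hallN : IsPiHallOf (sigma N) (sigmaCore N) N

theorem sig_of_normalizer_le (hG : IsMinSimpleOddOrder G) {M N : Subgroup G} (hM : IsCoatom M)
    (hN : IsCoatom N) (hne : N ≠ M) {p : ℕ} [hp : Fact p.Prime] (hpσ : p ∈ sigma M)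
    {X : Subgroup G} (hXc : Nat.card X = p) (hXM : X ≤ M) (hNX : normalizer (X : Set G) ≤ N) :
    Sig M N p := by
  have hXp : IsPGroup p X := IsPGroup.of_card (n := 1) (by rw [hXc, pow_one])
  have hX1 : X ≠ ⊥ := by
    rintro rfl
    rw [Subgroup.card_bot] at hXc
    exact hp.out.one_lt.ne hXc
  have hXN : X ≤ N := le_normalizer.trans hNX
  have hXMN : X ≤ M ⊓ N := le_inf hXM hXN
  obtain ⟨S, hS⟩ := (hXp.comap_subtype : IsPGroup p (X.subgroupOf (M ⊓ N))).exists_le_sylow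
  have hXS : X ≤ (S : Subgroup ↥(M ⊓ N)).map (M ⊓ N).subtype := by
    intro a ha
    refine ⟨⟨a, hXMN ha⟩, hS ?_, rfl⟩
    exact ha
  obtain ⟨h1, -, h3⟩ := Cfsg.Agent.S1424.result hG M hM p hpσ X hXp hX1 hXM N hN hne hNX S hXS
  have hS₀le : (S : Subgroup ↥(M ⊓ N)).map (M ⊓ N).subtype ≤ M ⊓ N := by
    rintro _ ⟨y, -, rfl⟩; exact y.2
  have hS₀p : IsPGroup p ((S : Subgroup ↥(M ⊓ N)).map (M ⊓ N).subtype) := S.isPGroup'.map _
  have hdisj : ∀ q : ℕ, q ∈ sigma M → q ∉ sigma N := by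
    intro q hqM hqN
    obtain ⟨g, hg⟩ := (Cfsg.Agent.S1378.result hG).2 M N hM hN ⟨q, hqM, hqN⟩
    exact h1 g hg
  have hpN : p ∉ sigma N := hdisj p hpσ
  obtain ⟨⟨hr2, hr1⟩, -, -⟩ := Cfsg.Agent.S1409.result hG N hN p hpN X hXc hNX
  have htau : p ∈ tau2 N := ⟨hp.out, hpN, hr2, hr1⟩
  -- an elementary abelian subgroup of order p^2 inside S₀
  obtain ⟨A₁, hA₁N, hA₁e, hA₁c⟩ := Cfsg.Agent.Helper34.BG.exists_elemAb_of_not_pRankLE hr1
  obtain ⟨B, hBA₁, hBe, hBc⟩ := Cfsg.Agent.Helper34.BG.exists_elemAb_card_eq hA₁e hA₁c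
  have hSyl : Cfsg.Agent.Helper84.IsSylIn p ((S : Subgroup ↥(M ⊓ N)).map (M ⊓ N).subtype) N :=
    ⟨hS₀le.trans inf_le_right, hS₀p, h3⟩
  obtain ⟨k, -, hBk⟩ := hSyl.exists_conj_ge (hBA₁.trans hA₁N)
    (Cfsg.Agent.Helper34.BG.isElementaryAbelian_isPGroup hBe)
  have hAS : cj k⁻¹ B ≤ (S : Subgroup ↥(M ⊓ N)).map (M ⊓ N).subtype := by
    rw [cj_le_iff, inv_inv]; exact hBk
  have hAe : IsElementaryAbelian p (cj k⁻¹ B) := elemAb_cj hBe _
  have hAc : Nat.card (cj k⁻¹ B) = p ^ 2 := by rw [card_cj, hBc]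
  have hAp : IsPGroup p (cj k⁻¹ B) := Cfsg.Agent.Helper34.BG.isElementaryAbelian_isPGroup hAe
  have hAM : cj k⁻¹ B ≤ M := hAS.trans (hS₀le.trans inf_le_left)
  have hAN : cj k⁻¹ B ≤ N := hAS.trans (hS₀le.trans inf_le_right)
  obtain ⟨hnil, -, hnormNA, -, hE, -⟩ :=
    Cfsg.Agent.S1417.result hG N hN p htau (cj k⁻¹ B) ⟨hAN, hAe, hAc⟩
  have hinter : sigmaCore N ⊓ M = ⊥ := hE M hM (Ne.symm hne) hAM
  -- N_G(A) ≤ M
  obtain ⟨hHallM, -, -⟩ := Cfsg.Agent.S1350.result hG M hM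
  obtain ⟨E, hE'⟩ := Cfsg.Agent.Helper55.BGB.exists_compl_sigmaCore hHallM
  have hncyc : ¬ IsCyclic (cj k⁻¹ B) := not_isCyclic_of_elemAb hp.out hAe hAc
  have hNA : normalizer ((cj k⁻¹ B : Subgroup G) : Set G) ≤ M :=
    (Cfsg.Agent.S1420.result hG M hM E hE').2.2.1 p (cj k⁻¹ B) hpσ hAp hAM hncyc
  -- Frattini
  obtain ⟨hHallN, -, -⟩ := Cfsg.Agent.S1350.result hG N hN
  have hcop : (Nat.card (sigmaCore N)).Coprime p := by
    rw [Nat.coprime_comm, Nat.Prime.coprime_iff_not_dvd hp.out]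
    intro hd; exact hpN (hHallN.2.1 p hp.out hd)
  have hfr := frattini_rel (sigmaCore_le N) (le_normalizer_sigmaCore N) hAN hAp hcop hnormNA
  have hcompl : IsComplIn (M ⊓ N) (sigmaCore N) N := by
    refine ⟨inf_le_right, sigmaCore_le N, ?_, ?_⟩
    · rw [eq_bot_iff]
      intro z hz
      have : z ∈ sigmaCore N ⊓ M := ⟨hz.2, hz.1.1⟩
      rwa [hinter] at this
    · intro n hn
      obtain ⟨e, he, s, hs, rfl⟩ := hfr n hn
      exact ⟨e, ⟨hNA he.2, he.1⟩, s, hs, rfl⟩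
  exact ⟨h1, hdisj, htau, hinter, hcompl, hnil, hHallN⟩

/-- what the configuration says about an element `x ∈ M_σ` with `X ≤ ⟨x⟩`. -/
structure XData (M N : Subgroup G) (x : G) : Prop where
  cent_le : centralizer ({x} : Set G) ≤ N
  x_mem : x ∈ M ⊓ N
  norm : centralizer ({x} : Set G) ≤
    normalizer ((sigmaCore N ⊓ centralizer ({x} : Set G) : Subgroup G) : Set G)
  compl : IsComplIn (M ⊓ centralizer ({x} : Set G)) (sigmaCore N ⊓ centralizer ({x} : Set G))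
    (centralizer ({x} : Set G))
  cop : (Nat.card ↥(M ⊓ centralizer ({x} : Set G))).Coprime
    ((M ⊓ centralizer ({x} : Set G)).relIndex (centralizer ({x} : Set G)))
  trans : ∀ g : G, x ∈ M.map (MulAut.conj g).toMonoidHom →
    ∃! r : G, r ∈ sigmaCore N ⊓ centralizer ({x} : Set G) ∧
      M.map (MulAut.conj r).toMonoidHom = M.map (MulAut.conj g).toMonoidHom

theorem xdata (hG : IsMinSimpleOddOrder G) {M N : Subgroup G} (hM : IsCoatom M)
    {p : ℕ} [hp : Fact p.Prime] (hpσ : p ∈ sigma M) (hS : Sig M N p)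
    {X : Subgroup G} (hXp : IsPGroup p X) (hX1 : X ≠ ⊥) (hXM : X ≤ M)
    (hNX : normalizer (X : Set G) ≤ N)
    {x : G} (hxM : x ∈ M) (hXx : X ≤ zpowers x) : XData M N x := by
  have hcent : centralizer ({x} : Set G) ≤ N :=
    (centralizer_le_normalizer_of_le_zpowers hXx).trans hNX
  have hxC : x ∈ centralizer ({x} : Set G) := by
    rw [mem_centralizer_singleton_iff]
  have hxN : x ∈ N := hcent hxC
  have hxMN : x ∈ M ⊓ N := ⟨hxM, hxN⟩
  have hnormN := le_normalizer_sigmaCore N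
  have hdisj' : sigmaCore N ⊓ (M ⊓ N) = ⊥ := by
    rw [eq_bot_iff]
    intro z hz
    have : z ∈ sigmaCore N ⊓ M := ⟨hz.1, hz.2.1⟩
    rwa [hS.inter] at this
  -- the splitting of C(x)
  have hsplit : ∀ c ∈ centralizer ({x} : Set G), ∃ a ∈ M ⊓ centralizer ({x} : Set G),
      ∃ b ∈ sigmaCore N ⊓ centralizer ({x} : Set G), c = a * b := by
    intro c hc
    obtain ⟨a, ha, b, hb, rfl⟩ := hS.compl.2.2.2 c (hcent hc)
    rw [mem_centralizer_singleton_iff] at hc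
    obtain ⟨h1, h2⟩ := centralizer_split hnormN inf_le_right hdisj' hxMN ha hb hc
    exact ⟨a, ⟨ha.1, mem_centralizer_singleton_iff.mpr h1⟩, b,
      ⟨hb, mem_centralizer_singleton_iff.mpr h2⟩, rfl⟩
  have hRM : (M ⊓ centralizer ({x} : Set G)) ⊓ (sigmaCore N ⊓ centralizer ({x} : Set G)) = ⊥ := by
    rw [eq_bot_iff]
    intro z hz
    have : z ∈ sigmaCore N ⊓ M := ⟨hz.2.1, hz.1.1⟩
    rwa [hS.inter] at this
  have hcompl : IsComplIn (M ⊓ centralizer ({x} : Set G))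
      (sigmaCore N ⊓ centralizer ({x} : Set G)) (centralizer ({x} : Set G)) :=
    ⟨inf_le_right, inf_le_right, hRM, hsplit⟩
  have hnorm : centralizer ({x} : Set G) ≤
      normalizer ((sigmaCore N ⊓ centralizer ({x} : Set G) : Subgroup G) : Set G) := by
    intro c hc
    have h1 : c ∈ normalizer ((sigmaCore N : Subgroup G) : Set G) := hnormN (hcent hc)
    have h2 : c ∈ normalizer ((centralizer ({x} : Set G) : Subgroup G) : Set G) := le_normalizer hc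
    rw [mem_normalizer_iff] at h1 h2 ⊢
    intro h
    constructor
    · rintro ⟨ha, hb⟩
      exact ⟨(h1 h).1 ha, (h2 h).1 hb⟩
    · rintro ⟨ha, hb⟩
      exact ⟨(h1 h).2 ha, (h2 h).2 hb⟩
  -- coprimality
  have hcop : (Nat.card ↥(M ⊓ centralizer ({x} : Set G))).Coprime
      ((M ⊓ centralizer ({x} : Set G)).relIndex (centralizer ({x} : Set G))) := by
    have hc1 := Cfsg.Agent.Helper23.card_of_isComplIn hcompl
    have hc2 := Cfsg.Agent.Helper55.BGB.card_mul_relIndex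
      (inf_le_right : M ⊓ centralizer ({x} : Set G) ≤ centralizer ({x} : Set G))
    have hrel : (M ⊓ centralizer ({x} : Set G)).relIndex (centralizer ({x} : Set G))
        = Nat.card ↥(sigmaCore N ⊓ centralizer ({x} : Set G)) := by
      have hpos : 0 < Nat.card ↥(M ⊓ centralizer ({x} : Set G)) := Nat.card_pos
      apply Nat.eq_of_mul_eq_mul_left hpos
      rw [hc2, hc1]
    rw [hrel]
    by_contra hnc
    obtain ⟨q, hq, h1, h2⟩ := Nat.Prime.not_coprime_iff_dvd.mp hnc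
    have hqσ : q ∈ sigma N :=
      hS.hallN.2.1 q hq (h2.trans (Subgroup.card_dvd_of_le inf_le_left))
    have h3 : q ∣ Nat.card ↥(M ⊓ N) :=
      h1.trans (Subgroup.card_dvd_of_le (inf_le_inf_left M hcent))
    have hc3 := Cfsg.Agent.Helper23.card_of_isComplIn hS.compl
    have hc4 := Cfsg.Agent.Helper55.BGB.card_mul_relIndex hS.hallN.1
    have hrel2 : (sigmaCore N).relIndex N = Nat.card ↥(M ⊓ N) := by
      have hpos : 0 < Nat.card ↥(sigmaCore N) := Nat.card_pos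
      apply Nat.eq_of_mul_eq_mul_left hpos
      rw [hc4, hc3, mul_comm]
    exact hS.hallN.2.2 q hq hqσ (hrel2 ▸ h3)
  -- transitivity
  have htrans : ∀ g : G, x ∈ M.map (MulAut.conj g).toMonoidHom →
      ∃! r : G, r ∈ sigmaCore N ⊓ centralizer ({x} : Set G) ∧
        M.map (MulAut.conj r).toMonoidHom = M.map (MulAut.conj g).toMonoidHom := by
    intro g hg
    have hXg : cj g⁻¹ X ≤ M := by
      rw [cj_le_iff, inv_inv]
      exact hXx.trans ((zpowers_le (H := cj g M)).mpr hg)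
    obtain ⟨m, hm, c, hc, hgmc⟩ := (Cfsg.Agent.S1404.result hG M hM p hpσ X hXp hX1 hXM).1 g⁻¹ hXg
    have hcN : c ∈ N := hNX (centralizer_le_normalizer _ hc)
    obtain ⟨a, ha, b, hb, hcab⟩ := hS.compl.2.2.2 c hcN
    -- g = b⁻¹ * a⁻¹ * m⁻¹
    have hg' : g = b⁻¹ * (a⁻¹ * m⁻¹) := by
      have : g = (g⁻¹)⁻¹ := (inv_inv g).symm
      rw [this, hgmc, hcab]; group
    have hcj : cj g M = cj b⁻¹ M := by
      rw [hg', cj_mul, cj_eq_self_of_mem (M.mul_mem (M.inv_mem ha.1) (M.inv_mem hm))]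
    have hbx : b⁻¹ * x = x * b⁻¹ := by
      apply commute_of_conj_mem hdisj' (hnormN hxN) hxMN ((sigmaCore N).inv_mem hb)
      have h1 : x ∈ cj b⁻¹ M := hcj ▸ hg
      rw [mem_cj] at h1
      exact ⟨h1, N.mul_mem (N.mul_mem (N.inv_mem (N.inv_mem (sigmaCore_le N hb))) hxN)
        (N.inv_mem (sigmaCore_le N hb))⟩
    refine ⟨b⁻¹, ⟨⟨(sigmaCore N).inv_mem hb, mem_centralizer_singleton_iff.mpr hbx⟩, hcj.symm⟩, ?_⟩
    rintro r ⟨hr, hreq⟩
    -- r⁻¹ * b⁻¹ normalizes M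
    have h1 : cj (b * r) M = M := by
      have h2 : cj r M = cj b⁻¹ M := hreq.trans hcj
      rw [cj_mul, h2, ← cj_mul, mul_inv_cancel, cj_one]
    have h3 : b * r ∈ M := by
      have := mem_normalizer_of_cj_eq h1
      rwa [Cfsg.Agent.Helper34.BG.normalizer_coatom hG hM] at this
    have h4 : b * r ∈ sigmaCore N ⊓ M := ⟨(sigmaCore N).mul_mem hb hr.1, h3⟩
    rw [hS.inter, mem_bot] at h4
    exact eq_inv_of_mul_eq_one_right h4
  exact ⟨hcent, hxMN, hnorm, hcompl, hcop, htrans⟩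

/-- uniqueness of the maximal subgroup over `C_G(x)` and the `τ₂(N)`-property, from B-G 14.3. -/
theorem tau2_uniq (hG : IsMinSimpleOddOrder G) {M N : Subgroup G} (hN : IsCoatom N)
    {p : ℕ} (hS : Sig M N p) {x : G} (hx : x ∈ sigmaCore M) (hx1 : x ≠ 1)
    (hpx : p ∣ orderOf x) (hxN : x ∈ N) {x₀ : G} (hx₀ : x₀ ∈ sigmaCore N) (hx₀1 : x₀ ≠ 1)
    (hcomm : x * x₀ = x₀ * x) :
    (∀ q : ℕ, q.Prime → q ∣ orderOf x → q ∈ tau2 N) ∧
      ∀ L : Subgroup G, IsCoatom L → centralizer ({x} : Set G) ≤ L → L = N := by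
  have hσ' : ∀ q : ℕ, q.Prime → q ∣ orderOf x → q ∉ sigma N := by
    intro q hq hd
    exact hS.disj q (isPi_sigmaCore M q hq (hd.trans (Subgroup.orderOf_dvd_natCard _ hx)))
  have hxc : x ∈ N ⊓ centralizer ({x₀} : Set G) :=
    ⟨hxN, mem_centralizer_singleton_iff.mpr hcomm⟩
  rcases Cfsg.Agent.S1432.result hG N hN x₀ hx₀ hx₀1 x hxc hx1 hσ' with ⟨hκ, -⟩ | ⟨hτ, -, -, hu⟩
  · exact absurd (hκ p hS.tau2.1 hpx) (not_mem_kappa_of_mem_tau2 hS.tau2)
  · exact ⟨hτ, hu⟩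

/-- the choice of a subgroup of prime order in `⟨x⟩`. -/
theorem exists_prime_sub {M : Subgroup G} {x : G} (hx : x ∈ sigmaCore M) (hx1 : x ≠ 1) :
    ∃ (p : ℕ) (X : Subgroup G), p.Prime ∧ p ∈ sigma M ∧ p ∣ orderOf x ∧ Nat.card X = p ∧
      X ≤ zpowers x ∧ X ≤ M ∧ IsPGroup p X ∧ X ≠ ⊥ := by
  have hxM : x ∈ M := sigmaCore_le M hx
  have hord : orderOf x ≠ 1 := by rwa [Ne, orderOf_eq_one_iff]
  obtain ⟨p, hp, hpx⟩ := Nat.exists_prime_and_dvd hord
  have hpσ : p ∈ sigma M :=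
    isPi_sigmaCore M p hp (hpx.trans (Subgroup.orderOf_dvd_natCard _ hx))
  have hyo : orderOf (x ^ (orderOf x / p)) = p :=
    orderOf_pow_orderOf_div (orderOf_pos x).ne' hpx
  have hXc : Nat.card (zpowers (x ^ (orderOf x / p))) = p := by rw [Nat.card_zpowers, hyo]
  have hXx : zpowers (x ^ (orderOf x / p)) ≤ zpowers x :=
    (zpowers_le).mpr (pow_mem (mem_zpowers x) _)
  have hXp : IsPGroup p (zpowers (x ^ (orderOf x / p))) :=
    IsPGroup.of_card (n := 1) (by rw [hXc, pow_one])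
  refine ⟨p, zpowers (x ^ (orderOf x / p)), hp, hpσ, hpx, hXc, hXx,
    hXx.trans ((zpowers_le).mpr hxM), hXp, ?_⟩
  intro h
  rw [h, Subgroup.card_bot] at hXc
  exact hp.one_lt.ne hXc

end Cfsg.Agent.Helper60.BG144
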