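import Mathlib
import Cfsg.Agent.Lib.Helper60.BG144c

/-!
# B-G Theorem 14.4: the two frozen forms (S1374, S1375)
-/

set_option autoImplicit false
set_option linter.style.haveILetI false

namespace Cfsg.Agent.Helper60.BG144

open Subgroup Cfsg
open Cfsg.Agent.Helper79.BG10 (cj mem_cj conj_mem_cj cj_mul cj_one cj_mono cj_le_iff card_cj
  isPGroup_cj cj_eq_self_of_mem cj_eq_self_of_mem_normalizer mem_normalizer_of_cj_eq cj_inv_cj
  cj_cj_inv)

theorem s1374 {G : Type*} [Group G] [Finite G] (hG : Cfsg.IsMinSimpleOddOrder G)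
    (M : Subgroup G) (hM : IsCoatom M) (x : G) (hx : x ∈ Cfsg.sigmaCore M) (hx1 : x ≠ 1) :
    (Nat.card ↥(M ⊓ Subgroup.centralizer ({x} : Set G))).Coprime ((M ⊓ Subgroup.centralizer ({x} : Set G)).relIndex (Subgroup.centralizer ({x} : Set G))) ∧
      ∃ R : Subgroup G, Subgroup.centralizer ({x} : Set G) ≤ Subgroup.normalizer (R : Set G) ∧ Cfsg.IsComplIn (M ⊓ Subgroup.centralizer ({x} : Set G)) R (Subgroup.centralizer ({x} : Set G)) ∧
        ∀ g : G, x ∈ M.map (MulAut.conj g).toMonoidHom → ∃! r : G, r ∈ R ∧ M.map (MulAut.conj r).toMonoidHom = M.map (MulAut.conj g).toMonoidHom := by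
  classical
  obtain ⟨p, X, hp, hpσ, hpx, hXc, hXx, hXM, hXp, hX1⟩ := exists_prime_sub hx hx1
  haveI : Fact p.Prime := ⟨hp⟩
  have hxM : x ∈ M := Cfsg.Agent.Helper55.BGB.sigmaCore_le M hx
  by_cases hNXM : Subgroup.normalizer (X : Set G) ≤ M
  · -- `C_G(x) ≤ M`: take `R = 1`
    have hCM : Subgroup.centralizer ({x} : Set G) ≤ M :=
      (centralizer_le_normalizer_of_le_zpowers hXx).trans hNXM
    have hinf : M ⊓ Subgroup.centralizer ({x} : Set G) = Subgroup.centralizer ({x} : Set G) :=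
      inf_eq_right.mpr hCM
    refine ⟨?_, ⊥, ?_, ?_, ?_⟩
    · rw [hinf, Subgroup.relIndex_self]
      exact Nat.coprime_one_right _
    · intro c _
      rw [Subgroup.mem_normalizer_iff]
      intro h
      simp [Subgroup.mem_bot]
    · refine ⟨inf_le_right, bot_le, inf_bot_eq _, ?_⟩
      intro c hc
      exact ⟨c, ⟨hCM hc, hc⟩, 1, one_mem _, (mul_one c).symm⟩
    · intro g hg
      have hXg : cj g⁻¹ X ≤ M := by
        rw [cj_le_iff, inv_inv]
        exact hXx.trans ((Subgroup.zpowers_le (H := cj g M)).mpr hg)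
      obtain ⟨m, hm, c, hc, hgmc⟩ :=
        (Cfsg.Agent.S1404.result hG M hM p hpσ X hXp hX1 hXM).1 g⁻¹ hXg
      have hcM : c ∈ M := hNXM (Subgroup.centralizer_le_normalizer _ hc)
      have hgM : g ∈ M := by
        have : g = (g⁻¹)⁻¹ := (inv_inv g).symm
        rw [this, hgmc]
        exact M.inv_mem (M.mul_mem hm hcM)
      have hgc : cj g M = M := cj_eq_self_of_mem hgM
      refine ⟨1, ⟨Subgroup.one_mem _, ?_⟩, ?_⟩
      · show cj 1 M = cj g M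
        rw [cj_one, hgc]
      · rintro r ⟨hr, -⟩
        exact Subgroup.mem_bot.mp hr
  · -- `N ∈ 𝓜(N_G(X))`, `N ≠ M`
    have hXt : X ≠ ⊤ := fun h => hM.1 (top_le_iff.mp (h ▸ hXM))
    obtain ⟨N, hN, hNX⟩ := Cfsg.Agent.Helper34.BG.exists_coatom_ge
      (Cfsg.Agent.Helper34.BG.normalizer_ne_top hG hX1 hXt)
    have hne : N ≠ M := fun h => hNXM (h ▸ hNX)
    have hS := sig_of_normalizer_le hG hM hN hne hpσ hXc hXM hNX
    have hD := xdata hG hM hpσ hS hXp hX1 hXM hNX hxM hXx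
    exact ⟨hD.cop, _, hD.norm, hD.compl, hD.trans⟩


theorem s1375 {G : Type*} [Group G] [Finite G] (hG : Cfsg.IsMinSimpleOddOrder G)
    (M : Subgroup G) (hM : IsCoatom M) (x : G) (hx : x ∈ Cfsg.sigmaCore M) (hx1 : x ≠ 1) (hxM : ¬ Subgroup.centralizer ({x} : Set G) ≤ M) :
    ∃ N : Subgroup G, (IsCoatom N ∧ Subgroup.centralizer ({x} : Set G) ≤ N) ∧ (∀ L : Subgroup G, IsCoatom L → Subgroup.centralizer ({x} : Set G) ≤ L → L = N) ∧
        Cfsg.sigmaCore N = Cfsg.fittingHallOf N ∧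
        Subgroup.centralizer ({x} : Set G) ≤ Subgroup.normalizer ((Cfsg.sigmaCore N ⊓ Subgroup.centralizer ({x} : Set G) : Subgroup G) : Set G) ∧
        Cfsg.IsComplIn (M ⊓ Subgroup.centralizer ({x} : Set G)) (Cfsg.sigmaCore N ⊓ Subgroup.centralizer ({x} : Set G)) (Subgroup.centralizer ({x} : Set G)) ∧
        Cfsg.IsComplIn (M ⊓ N) (Cfsg.sigmaCore N) N ∧
        ∀ K' U' : Subgroup G, Cfsg.IsSigmaDecomposition N K' U' → U' ≠ ⊥ ∧ x ∈ Cfsg.sigmaA N U' ∧ x ∉ Cfsg.sigmaCore N := by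
  classical
  obtain ⟨p, X, hp, hpσ, hpx, hXc, hXx, hXM, hXp, hX1⟩ := exists_prime_sub hx hx1
  haveI : Fact p.Prime := ⟨hp⟩
  have hxMm : x ∈ M := Cfsg.Agent.Helper55.BGB.sigmaCore_le M hx
  have hNXM : ¬ Subgroup.normalizer (X : Set G) ≤ M := fun h =>
    hxM ((centralizer_le_normalizer_of_le_zpowers hXx).trans h)
  have hXt : X ≠ ⊤ := fun h => hM.1 (top_le_iff.mp (h ▸ hXM))
  obtain ⟨N, hN, hNX⟩ := Cfsg.Agent.Helper34.BG.exists_coatom_ge
    (Cfsg.Agent.Helper34.BG.normalizer_ne_top hG hX1 hXt)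
  have hne : N ≠ M := fun h => hNXM (h ▸ hNX)
  have hS := sig_of_normalizer_le hG hM hN hne hpσ hXc hXM hNX
  have hD := xdata hG hM hpσ hS hXp hX1 hXM hNX hxMm hXx
  -- `R ≠ 1`
  have hR : Cfsg.sigmaCore N ⊓ Subgroup.centralizer ({x} : Set G) ≠ ⊥ := by
    intro hbot
    apply hxM
    intro c hc
    obtain ⟨a, ha, b, hb, rfl⟩ := hD.compl.2.2.2 c hc
    rw [hbot, Subgroup.mem_bot] at hb
    rw [hb, mul_one]
    exact ha.1
  obtain ⟨⟨x₀, hx₀⟩, hx₀1⟩ := (Subgroup.ne_bot_iff_exists_ne_one).mp hR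
  have hx₀1' : x₀ ≠ 1 := fun h => hx₀1 (Subtype.ext h)
  have hcomm : x * x₀ = x₀ * x := ((Subgroup.mem_centralizer_singleton_iff).mp hx₀.2).symm
  obtain ⟨hτ, hu⟩ := tau2_uniq hG hN hS hx hx1 hpx hD.x_mem.2 hx₀.1 hx₀1' hcomm
  have hHallN := hS.hallN
  refine ⟨N, ⟨hN, hD.cent_le⟩, hu, ?_, hD.norm, hD.compl, hS.compl, ?_⟩
  · exact le_antisymm (sigmaCore_le_fittingHallOf_of_nil hHallN hS.nil)
      (fittingHallOf_le_sigmaCore hG hN)
  · intro K' U' hKU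
    have hmem : x ∈ U' ⊔ Cfsg.sigmaCore N :=
      mem_U_sup_sigmaCore hKU hD.x_mem.2 (fun q hq hd => not_mem_kappa_of_mem_tau2 (hτ q hq hd))
    have hnot : x ∉ Cfsg.sigmaCore N := by
      intro h
      have : x ∈ Cfsg.sigmaCore N ⊓ M := ⟨h, hxMm⟩
      rw [hS.inter, Subgroup.mem_bot] at this
      exact hx1 this
    refine ⟨?_, ⟨⟨hD.x_mem.2, x₀, hx₀.1, hx₀1', hcomm⟩, hmem⟩, hnot⟩
    intro hU
    rw [hU, bot_sup_eq] at hmem
    exact hnot hmem


end Cfsg.Agent.Helper60.BG144
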