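import Mathlib
import Cfsg.Agent.Lib.Helper7.M11UDefs

/-!
M11U piece (G6s) for helper7's lemma server (row S0420): there is no strongly regular graph
with parameters (55, 18, 1, 8).

Proof: with `A` the adjacency matrix and `J` the all-ones matrix (over `ℝ`), and `s = √89`,
the matrix `E = (110 s)⁻¹ • ((55 s + 385) • 1 + 110 • A + (-s - 43) • J)` is idempotent with trace
`27 + 171 / s`; the trace of an idempotent is a natural number, so `89 ∣ 171 ^ 2`, absurd.
-/

set_option autoImplicit false

namespace Cfsg.Agent.Helper60.M11U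

open Subgroup Cfsg.Agent.Helper7.M11U
open scoped Pointwise

/-- The trace of an idempotent real matrix is a natural number. -/
theorem srg_trace_idem_nat {n : Type*} [Fintype n] [DecidableEq n] (E : Matrix n n ℝ)
    (h : E * E = E) : ∃ k : ℕ, E.trace = k := by
  have he : IsIdempotentElem (Matrix.toLin' E) := by
    unfold IsIdempotentElem
    rw [Module.End.mul_eq_comp, ← Matrix.toLin'_mul, h]
  have h2 := (LinearMap.IsIdempotentElem.isProj_range _ he).trace
  rw [Matrix.trace_toLin'_eq] at h2
  exact ⟨_, h2⟩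

/-- (G6s) there is no strongly regular graph with parameters (55, 18, 1, 8). -/
theorem no_srg_counts {V : Type*} [Finite V] (adj : V → V → Prop)
    (hsymm : ∀ x y, adj x y → adj y x) (hirr : ∀ x, ¬ adj x x) (hV : Nat.card V = 55)
    (hk : ∀ x, Nat.card {y // adj x y} = 18)
    (hl : ∀ x y, adj x y → Nat.card {z // adj x z ∧ adj y z} = 1)
    (hm : ∀ x y, x ≠ y → ¬ adj x y → Nat.card {z // adj x z ∧ adj y z} = 8) : False := by
  classical
  have : Fintype V := Fintype.ofFinite V
  have hcard : Fintype.card V = 55 := by rw [← Nat.card_eq_fintype_card]; exact hV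
  have hs' : ∀ a b, adj a b ↔ adj b a := fun a b => ⟨hsymm a b, hsymm b a⟩
  set A : Matrix V V ℝ := Matrix.of fun x y => if adj x y then (1 : ℝ) else 0 with hA
  set J : Matrix V V ℝ := Matrix.of fun _ _ => (1 : ℝ) with hJ
  -- counting lemmas
  have hcnt1 : ∀ x, (∑ z, (if adj x z then (1 : ℝ) else 0)) = 18 := by
    intro x
    have := hk x
    rw [Nat.card_eq_fintype_card, Fintype.card_subtype] at this
    rw [Finset.sum_boole, this]
    norm_num
  have hcnt2 : ∀ x y, (∑ z, (if adj x z then (1 : ℝ) else 0) * (if adj z y then (1 : ℝ) else 0))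
      = (Nat.card {z // adj x z ∧ adj y z} : ℝ) := by
    intro x y
    rw [Nat.card_eq_fintype_card, Fintype.card_subtype, ← Finset.sum_boole]
    refine Finset.sum_congr rfl fun z _ => ?_
    rw [hs' z y]
    by_cases h1 : adj x z <;> by_cases h2 : adj y z <;> simp [h1, h2]
  have hAA : A * A = (10 : ℝ) • (1 : Matrix V V ℝ) + (-7 : ℝ) • A + (8 : ℝ) • J := by
    ext x y
    simp only [Matrix.mul_apply, Matrix.add_apply, Matrix.smul_apply, Matrix.one_apply, hA, hJ,
      Matrix.of_apply, smul_eq_mul]
    rw [hcnt2]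
    by_cases hxy : x = y
    · subst hxy
      have : Nat.card {z // adj x z ∧ adj x z} = 18 := by
        rw [← hk x]
        exact Nat.card_congr (Equiv.subtypeEquivRight (by simp))
      rw [this]
      simp [hirr x]
      norm_num
    · by_cases hadj : adj x y
      · rw [hl x y hadj]
        simp [hxy, hadj]
        norm_num
      · rw [hm x y hxy hadj]
        simp [hxy, hadj]
  have hAJ : A * J = (18 : ℝ) • J := by
    ext x y
    simp only [Matrix.mul_apply, Matrix.smul_apply, hA, hJ, Matrix.of_apply, smul_eq_mul,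
      mul_one]
    exact hcnt1 x
  have hJA : J * A = (18 : ℝ) • J := by
    ext x y
    simp only [Matrix.mul_apply, Matrix.smul_apply, hA, hJ, Matrix.of_apply, smul_eq_mul,
      mul_one, one_mul]
    rw [← hcnt1 y]
    refine Finset.sum_congr rfl fun z _ => ?_
    simp only [hs' z y]
  have hJJ : J * J = (55 : ℝ) • J := by
    ext x y
    simp only [Matrix.mul_apply, Matrix.smul_apply, hJ, Matrix.of_apply, smul_eq_mul,
      mul_one, Finset.sum_const, Finset.card_univ, hcard]
    norm_num
  have htrA : A.trace = 0 := by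
    simp only [Matrix.trace, Matrix.diag_apply, hA, Matrix.of_apply, hirr, if_false,
      Finset.sum_const_zero]
  have htrJ : J.trace = 55 := by
    simp only [Matrix.trace, Matrix.diag_apply, hJ, Matrix.of_apply, Finset.sum_const,
      Finset.card_univ, hcard]
    norm_num
  have htr1 : (1 : Matrix V V ℝ).trace = 55 := by
    rw [Matrix.trace_one, hcard]
    norm_num
  -- the square root of 89
  set s : ℝ := Real.sqrt 89 with hs
  have hss : s * s = 89 := Real.mul_self_sqrt (by norm_num)
  have hspos : 0 < s := Real.sqrt_pos.mpr (by norm_num)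
  have hsne : s ≠ 0 := hspos.ne'
  set F : Matrix V V ℝ := (55 * s + 385) • (1 : Matrix V V ℝ) + (110 : ℝ) • A + (-s - 43) • J
    with hF
  have hFF : F * F = (110 * s) • F := by
    rw [hF]
    simp only [add_mul, mul_add, smul_mul_assoc, mul_smul_comm, Matrix.one_mul, Matrix.mul_one,
      hAA, hAJ, hJA, hJJ]
    match_scalars
    · linear_combination (-3025 : ℝ) * hss
    · ring
    · linear_combination (55 : ℝ) * hss
  set E : Matrix V V ℝ := (110 * s)⁻¹ • F with hE
  have hEE : E * E = E := by
    rw [hE, smul_mul_assoc, mul_smul_comm, hFF, smul_smul, smul_smul]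
    congr 1
    field_simp
  obtain ⟨k, hk'⟩ := srg_trace_idem_nat E hEE
  have htrE : E.trace = 27 + 171 / s := by
    rw [hE, hF, Matrix.trace_smul, Matrix.trace_add, Matrix.trace_add, Matrix.trace_smul,
      Matrix.trace_smul, Matrix.trace_smul, htrA, htrJ, htr1]
    simp only [smul_eq_mul]
    field_simp
    ring
  rw [htrE] at hk'
  -- 171 = (k - 27) * s
  have h1 : (171 : ℝ) = ((k : ℝ) - 27) * s := by
    field_simp at hk'
    linarith
  have h2 : ((171 : ℤ) ^ 2 : ℤ) = 89 * ((k : ℤ) - 27) ^ 2 := by
    have : ((171 : ℝ)) ^ 2 = 89 * ((k : ℝ) - 27) ^ 2 := by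
      rw [h1]
      ring_nf
      nlinarith [hss]
    exact_mod_cast this
  have h3 : (89 : ℤ) ∣ 171 ^ 2 := ⟨_, h2⟩
  norm_num at h3

end Cfsg.Agent.Helper60.M11U
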