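import Mathlib
import Cfsg.Agent.Lib.Helper7.M11UDefs
import Cfsg.Agent.Lib.Helper67.M11UL2
import Cfsg.Agent.Lib.Helper77.M11LAK6

set_option autoImplicit false

namespace Cfsg.Agent.Helper60.M11U

open Subgroup Cfsg.Agent.Helper7.M11U

variable {G : Type*} [Group G] [Finite G]

/-- an additive group of exponent 3 with an involutive endomorphism splits as fixed × inverted -/
theorem l7_split_add {A : Type*} [AddCommGroup A] (h3 : ∀ x : A, 3 • x = 0)
    (φ : A →+ A) (hφ : ∀ x, φ (φ x) = x) :
    Nat.card {x : A // φ x = x} * Nat.card {x : A // φ x = -x} = Nat.card A := by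
  rw [← Nat.card_prod]
  apply Nat.card_congr
  have h4 : ∀ y : A, 4 • y = y := fun y => by
    rw [show 4 • y = 3 • y + y by abel, h3, zero_add]
  refine
    { toFun := fun p => (p.1 : A) + (p.2 : A)
      invFun := fun x => (⟨2 • (x + φ x), ?_⟩, ⟨2 • (x - φ x), ?_⟩)
      left_inv := ?_
      right_inv := ?_ }
  · rw [map_nsmul, map_add, hφ, add_comm]
  · rw [map_nsmul, map_sub, hφ]
    abel
  · rintro ⟨⟨c, hc⟩, ⟨i, hi⟩⟩
    have e1 : 2 • (c + i + φ (c + i)) = c := by
      rw [map_add, hc, hi]
      rw [show 2 • (c + i + (c + -i)) = 4 • c by abel, h4]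
    have e2 : 2 • (c + i - φ (c + i)) = i := by
      rw [map_add, hc, hi]
      rw [show 2 • (c + i - (c + -i)) = 4 • i by abel, h4]
    simp only [e1, e2]
  · intro x
    show 2 • (x + φ x) + 2 • (x - φ x) = x
    rw [show 2 • (x + φ x) + 2 • (x - φ x) = 4 • x by abel, h4]

/-- multiplicative version inside a group: `u` an involution normalising the abelian exponent-3 subgroup `R` -/
theorem l7_split {G : Type*} [Group G] (R : Subgroup G)
    (hcomm : ∀ x ∈ R, ∀ y ∈ R, x * y = y * x) (hexp : ∀ x ∈ R, x ^ 3 = 1)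
    (u : G) (hu : u * u = 1) (hN : ∀ x ∈ R, u * x * u⁻¹ ∈ R) :
    Nat.card {x : G // x ∈ R ∧ u * x * u⁻¹ = x} *
      Nat.card {x : G // x ∈ R ∧ u * x * u⁻¹ = x⁻¹} = Nat.card R := by
  letI : CommGroup R :=
    { (inferInstance : Group R) with
      mul_comm := fun a b => Subtype.ext (hcomm a a.2 b b.2) }
  let φm : R →* R :=
    { toFun := fun x => ⟨u * x * u⁻¹, hN x x.2⟩
      map_one' := by ext; simp
      map_mul' := by intro a b; ext; simp [mul_assoc] }
  have huinv : u⁻¹ = u := inv_eq_of_mul_eq_one_left hu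
  have key := l7_split_add (A := Additive R)
    (fun x => by
      induction x using Additive.rec with
      | ofMul r =>
        rw [← ofMul_pow]
        have : r ^ 3 = 1 := Subtype.ext (by simpa using hexp r r.2)
        rw [this]; rfl)
    (MonoidHom.toAdditive φm)
    (fun x => by
      induction x using Additive.rec with
      | ofMul r =>
        show Additive.ofMul (φm (φm r)) = Additive.ofMul r
        congr 1
        ext
        show u * (u * (r : G) * u⁻¹) * u⁻¹ = r
        rw [huinv]
        calc u * (u * (r : G) * u) * u = (u * u) * r * (u * u) := by group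
          _ = r := by rw [hu]; simp)
  rw [show Nat.card R = Nat.card (Additive R) from rfl, ← key]
  congr 1
  · apply Nat.card_congr
    refine
      { toFun := fun x => ⟨Additive.ofMul ⟨x.1, x.2.1⟩, ?_⟩
        invFun := fun y => ⟨((Additive.toMul y.1 : R) : G), (Additive.toMul y.1).2, ?_⟩
        left_inv := fun x => rfl
        right_inv := fun y => rfl }
    · show Additive.ofMul (φm ⟨x.1, x.2.1⟩) = Additive.ofMul ⟨x.1, x.2.1⟩
      congr 1
      exact Subtype.ext x.2.2
    · have := y.2
      have h2 : φm (Additive.toMul y.1) = Additive.toMul y.1 := this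
      exact congrArg (fun z : R => (z : G)) h2
  · apply Nat.card_congr
    refine
      { toFun := fun x => ⟨Additive.ofMul ⟨x.1, x.2.1⟩, ?_⟩
        invFun := fun y => ⟨((Additive.toMul y.1 : R) : G), (Additive.toMul y.1).2, ?_⟩
        left_inv := fun x => rfl
        right_inv := fun y => rfl }
    · show Additive.ofMul (φm ⟨x.1, x.2.1⟩) = Additive.ofMul (⟨x.1, x.2.1⟩ : R)⁻¹
      congr 1
      exact Subtype.ext x.2.2
    · have := y.2
      have h2 : φm (Additive.toMul y.1) = (Additive.toMul y.1)⁻¹ := this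
      exact congrArg (fun z : R => (z : G)) h2


theorem l7_sq_of_order2 {u : G} (hu : orderOf u = 2) : u * u = 1 := by
  have := pow_orderOf_eq_one u
  rwa [hu, sq] at this

theorem l7_not_mem_of_order2 (R : Subgroup G) (hc : Nat.card R = 9) {u : G} (hu : orderOf u = 2) :
    u ∉ R := by
  intro hmem
  have h1 : orderOf (⟨u, hmem⟩ : R) ∣ Nat.card R := orderOf_dvd_natCard _
  rw [Subgroup.orderOf_mk, hu, hc] at h1
  omega

/-- the involutions inverting `R` are the 9 elements of the coset `t0 R` -/
theorem l7_inverting (R : Subgroup G) (hc : Nat.card R = 9)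
    (hcomm : ∀ x ∈ R, ∀ y ∈ R, x * y = y * x)
    (hcent : ∀ g : G, g ∈ centralizer (R : Set G) → g ∈ R)
    (t0 : G) (ht0 : orderOf t0 = 2) (hinv : Inverts t0 R) :
    Nat.card {u : G // orderOf u = 2 ∧ Inverts u R} = 9 := by
  have ht00 : t0 * t0 = 1 := l7_sq_of_order2 ht0
  have ht0R : t0 ∉ R := l7_not_mem_of_order2 R hc ht0
  rw [← hc]
  symm
  have hmem : ∀ r : R, orderOf (t0 * (r : G)) = 2 ∧ Inverts (t0 * (r : G)) R := by
    intro r
    constructor
    · apply orderOf_eq_prime
      · rw [sq]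
        have h1 := hinv r r.2
        calc t0 * (r : G) * (t0 * (r : G)) = (t0 * (r : G) * t0⁻¹) * (t0 * t0) * r := by group
          _ = 1 := by rw [h1, ht00]; simp
      · intro h
        apply ht0R
        have : t0 = (r : G)⁻¹ := eq_inv_of_mul_eq_one_left h
        rw [this]
        exact R.inv_mem r.2
    · intro x hx
      have h1 := hinv x hx
      have h2 : (r : G) * x * (r : G)⁻¹ = x := by
        rw [hcomm r r.2 x hx]; group
      calc t0 * (r : G) * x * (t0 * (r : G))⁻¹ = t0 * ((r : G) * x * (r : G)⁻¹) * t0⁻¹ := by group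
        _ = x⁻¹ := by rw [h2, h1]
  apply Nat.card_congr
  refine Equiv.ofBijective (fun r : R => (⟨t0 * (r : G), hmem r⟩ : {u : G // orderOf u = 2 ∧ Inverts u R}))
    ⟨?_, ?_⟩
  · intro a b hab
    have : t0 * (a : G) = t0 * (b : G) := congrArg Subtype.val hab
    exact Subtype.ext (mul_left_cancel this)
  · rintro ⟨u, hu2, hui⟩
    have ht0inv : t0⁻¹ = t0 := inv_eq_of_mul_eq_one_left ht00
    have hmemR : t0 * u ∈ R := by
      apply hcent
      rw [mem_centralizer_iff]
      intro x hx
      have h1 := hinv x⁻¹ (R.inv_mem hx)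
      rw [inv_inv, ht0inv] at h1
      have h2 := hui x hx
      symm
      calc t0 * u * x = t0 * (u * x * u⁻¹) * u := by group
        _ = t0 * x⁻¹ * u := by rw [h2]
        _ = t0 * x⁻¹ * (t0 * t0) * u := by rw [ht00, mul_one]
        _ = (t0 * x⁻¹ * t0) * (t0 * u) := by group
        _ = x * (t0 * u) := by rw [h1]
    refine ⟨⟨t0 * u, hmemR⟩, ?_⟩
    apply Subtype.ext
    show t0 * (t0 * u) = u
    rw [← mul_assoc, ht00, one_mul]

theorem l7_card_lt {α β : Type*} [Finite β] (f : α → β) (hf : Function.Injective f) {b : β}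
    (hb : b ∉ Set.range f) : Nat.card α < Nat.card β := by
  classical
  haveI := Fintype.ofFinite β
  haveI : Finite α := Finite.of_injective f hf
  haveI := Fintype.ofFinite α
  rw [Nat.card_eq_fintype_card, Nat.card_eq_fintype_card]
  exact Fintype.card_lt_of_injective_of_notMem f hf hb

/-- a non-inverting involution normalising `R` centralises exactly 3 elements of `R` and inverts exactly 3 -/
theorem l7_noninv (R : Subgroup G) (hc : Nat.card R = 9)
    (hcomm : ∀ x ∈ R, ∀ y ∈ R, x * y = y * x) (hexp : ∀ x ∈ R, x ^ 3 = 1)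
    (hcent : ∀ g : G, g ∈ centralizer (R : Set G) → g ∈ R)
    (u : G) (hu : orderOf u = 2) (hN : ∀ x ∈ R, u * x * u⁻¹ ∈ R) (hni : ¬ Inverts u R) :
    Nat.card {x : G // x ∈ R ∧ u * x * u⁻¹ = x} = 3 ∧
      Nat.card {x : G // x ∈ R ∧ u * x * u⁻¹ = x⁻¹} = 3 := by
  have huu := l7_sq_of_order2 hu
  have key := l7_split R hcomm hexp u huu hN
  rw [hc] at key
  -- strict inequalities
  have hlt1 : Nat.card {x : G // x ∈ R ∧ u * x * u⁻¹ = x} < 9 := by
    have hex : ∃ x ∈ R, u * x * u⁻¹ ≠ x := by
      by_contra hcon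
      push_neg at hcon
      apply l7_not_mem_of_order2 R hc hu
      apply hcent
      rw [mem_centralizer_iff]
      intro x hx
      have := hcon x hx
      rw [mul_inv_eq_iff_eq_mul] at this
      exact this.symm
    obtain ⟨x1, hx1, hx1'⟩ := hex
    rw [← hc]
    apply l7_card_lt (fun x : {x : G // x ∈ R ∧ u * x * u⁻¹ = x} => (⟨x.1, x.2.1⟩ : R))
      (b := ⟨x1, hx1⟩)
    · intro a b hab
      exact Subtype.ext (congrArg (fun z : R => (z : G)) hab)
    · rintro ⟨⟨y, hy1, hy2⟩, hy⟩
      apply hx1'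
      have : y = x1 := congrArg (fun z : R => (z : G)) hy
      rw [← this]
      exact hy2
  have hlt2 : Nat.card {x : G // x ∈ R ∧ u * x * u⁻¹ = x⁻¹} < 9 := by
    have hex : ∃ x ∈ R, u * x * u⁻¹ ≠ x⁻¹ := by
      by_contra hcon
      push_neg at hcon
      exact hni hcon
    obtain ⟨x1, hx1, hx1'⟩ := hex
    rw [← hc]
    apply l7_card_lt (fun x : {x : G // x ∈ R ∧ u * x * u⁻¹ = x⁻¹} => (⟨x.1, x.2.1⟩ : R))
      (b := ⟨x1, hx1⟩)
    · intro a b hab
      exact Subtype.ext (congrArg (fun z : R => (z : G)) hab)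
    · rintro ⟨⟨y, hy1, hy2⟩, hy⟩
      apply hx1'
      have : y = x1 := congrArg (fun z : R => (z : G)) hy
      rw [← this]
      exact hy2
  generalize Nat.card {x : G // x ∈ R ∧ u * x * u⁻¹ = x} = c at *
  generalize Nat.card {x : G // x ∈ R ∧ u * x * u⁻¹ = x⁻¹} = i at *
  have hcd : c ∣ 9 := ⟨i, key.symm⟩
  have hcpos : 0 < c := Nat.pos_of_dvd_of_pos hcd (by norm_num)
  interval_cases c <;> omega

/-- the centraliser of `r ∈ R \ 1` has exactly three involutions; they normalise and do not invert `R` -/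
theorem l7_cent_invs (R : Subgroup G) (hc : Nat.card R = 9)
    (hcomm : ∀ x ∈ R, ∀ y ∈ R, x * y = y * x) (hexp : ∀ x ∈ R, x ^ 3 = 1)
    (hcent : ∀ g : G, g ∈ centralizer (R : Set G) → g ∈ R)
    (r : G) (hr : r ∈ R) (hr1 : r ≠ 1) (h18 : Nat.card (centralizer ({r} : Set G)) = 18) :
    Nat.card {u : G // orderOf u = 2 ∧ u * r = r * u} = 3 ∧
      ∀ u : G, orderOf u = 2 → u * r = r * u → (∀ x ∈ R, u * x * u⁻¹ ∈ R) ∧ ¬ Inverts u R := by
  set H : Subgroup G := centralizer ({r} : Set G) with hH
  have hmemH : ∀ g : G, g ∈ H ↔ g * r = r * g := by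
    intro g
    rw [hH, mem_centralizer_iff]
    constructor
    · intro h; exact (h r rfl).symm
    · intro h x hx
      rw [Set.mem_singleton_iff] at hx
      rw [hx]; exact h.symm
  have hRH : R ≤ H := fun x hx => (hmemH x).mpr (hcomm x hx r hr)
  set K : Subgroup H := R.subgroupOf H with hK
  have hKc : Nat.card K = 9 := by
    rw [← hc]
    exact Nat.card_congr (subgroupOfEquivOfLe hRH).toEquiv
  have hKi : K.index = 2 := by
    have := K.card_mul_index
    rw [hKc, h18] at this
    omega
  haveI hKn : K.Normal := normal_of_index_eq_two hKi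
  have hnorm : ∀ h ∈ H, ∀ x ∈ R, h * x * h⁻¹ ∈ R := by
    intro h hh x hx
    have := hKn.conj_mem ⟨x, hRH hx⟩ (mem_subgroupOf.mpr hx) ⟨h, hh⟩
    exact mem_subgroupOf.mp this
  have hnoninv : ∀ u : G, u * r = r * u → ¬ Inverts u R := by
    intro u hur hinv
    have h1 := hinv r hr
    have h2 : u * r * u⁻¹ = r := by rw [hur]; group
    rw [h2] at h1
    -- r = r⁻¹ so r * r = 1, with r^3 = 1 gives r = 1
    apply hr1
    have h3 := hexp r hr
    have h4 : r * r = 1 := by
      nth_rewrite 2 [h1]
      exact mul_inv_cancel r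
    calc r = r ^ 3 * (r * r)⁻¹ := by group
      _ = 1 := by rw [h3, h4]; simp
  have hsecond : ∀ u : G, orderOf u = 2 → u * r = r * u →
      (∀ x ∈ R, u * x * u⁻¹ ∈ R) ∧ ¬ Inverts u R := by
    intro u _ hur
    exact ⟨hnorm u ((hmemH u).mpr hur), hnoninv u hur⟩
  refine ⟨?_, hsecond⟩
  -- Cauchy
  haveI : Fact (Nat.Prime 2) := ⟨Nat.prime_two⟩
  obtain ⟨u0', hu0'⟩ := exists_prime_orderOf_dvd_card' (G := H) 2 (by rw [h18]; norm_num)
  set u0 : G := (u0' : G) with hu0def
  have hu0 : orderOf u0 = 2 := by rw [hu0def, Subgroup.orderOf_coe]; exact hu0'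
  have hu0H : u0 ∈ H := u0'.2
  have hu0r : u0 * r = r * u0 := (hmemH u0).mp hu0H
  have hu00 : u0 * u0 = 1 := l7_sq_of_order2 hu0
  have hu0inv : u0⁻¹ = u0 := inv_eq_of_mul_eq_one_left hu00
  have hu0R : u0 ∉ R := l7_not_mem_of_order2 R hc hu0
  have h3 := (l7_noninv R hc hcomm hexp hcent u0 hu0 (hnorm u0 hu0H) (hnoninv u0 hu0r)).2
  rw [← h3]
  symm
  have hmem : ∀ x : {x : G // x ∈ R ∧ u0 * x * u0⁻¹ = x⁻¹},
      orderOf (u0 * (x : G)) = 2 ∧ u0 * (x : G) * r = r * (u0 * (x : G)) := by
    rintro ⟨x, hxR, hx⟩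
    constructor
    · apply orderOf_eq_prime
      · rw [sq]
        calc u0 * x * (u0 * x) = (u0 * x * u0⁻¹) * (u0 * u0) * x := by group
          _ = 1 := by rw [hx, hu00]; simp
      · intro h
        apply hu0R
        have : u0 = x⁻¹ := eq_inv_of_mul_eq_one_left h
        rw [this]
        exact R.inv_mem hxR
    · have hxr : x * r = r * x := hcomm x hxR r hr
      calc u0 * x * r = u0 * (x * r) := by group
        _ = u0 * (r * x) := by rw [hxr]
        _ = (u0 * r) * x := by group
        _ = r * u0 * x := by rw [hu0r]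
        _ = r * (u0 * x) := by group
  apply Nat.card_congr
  refine Equiv.ofBijective
    (fun x : {x : G // x ∈ R ∧ u0 * x * u0⁻¹ = x⁻¹} =>
      (⟨u0 * (x : G), hmem x⟩ : {u : G // orderOf u = 2 ∧ u * r = r * u})) ⟨?_, ?_⟩
  · intro a b hab
    have : u0 * (a : G) = u0 * (b : G) := congrArg Subtype.val hab
    exact Subtype.ext (mul_left_cancel this)
  · rintro ⟨v, hv2, hvr⟩
    have hvH : v ∈ H := (hmemH v).mpr hvr
    have hvv : v * v = 1 := l7_sq_of_order2 hv2
    have hvinv : v⁻¹ = v := inv_eq_of_mul_eq_one_left hvv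
    have hvR : v ∉ R := l7_not_mem_of_order2 R hc hv2
    have hmul : (⟨u0, hu0H⟩ : H) * ⟨v, hvH⟩ ∈ K := by
      rw [mul_mem_iff_of_index_two hKi]
      constructor
      · intro h; exact absurd (mem_subgroupOf.mp h) hu0R
      · intro h; exact absurd (mem_subgroupOf.mp h) hvR
    have hxR : u0 * v ∈ R := mem_subgroupOf.mp hmul
    refine ⟨⟨u0 * v, hxR, ?_⟩, ?_⟩
    · rw [mul_inv_rev, hu0inv, hvinv]
      calc u0 * (u0 * v) * u0 = (u0 * u0) * v * u0 := by group
        _ = v * u0 := by rw [hu00, one_mul]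
    · apply Subtype.ext
      show u0 * (u0 * v) = v
      rw [← mul_assoc, hu00, one_mul]


theorem l7_card_filter {α : Type*} [Fintype α] (p : α → Prop) [DecidablePred p] :
    (Finset.univ.filter p).card = Nat.card {x // p x} := by
  rw [Nat.card_eq_fintype_card, Fintype.card_subtype]

theorem l7_norm_iff (R : Subgroup G) (u : G) (hu : orderOf u = 2) :
    u ∈ normalizer (R : Set G) ↔ ∀ x ∈ R, u * x * u⁻¹ ∈ R := by
  have huu := l7_sq_of_order2 hu
  have huinv : u⁻¹ = u := inv_eq_of_mul_eq_one_left huu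
  rw [mem_normalizer_iff]
  constructor
  · intro h x hx; exact (h x).mp hx
  · intro h x
    constructor
    · exact h x
    · intro hx
      have h1 := h _ hx
      have e : u * (u * x * u⁻¹) * u⁻¹ = x := by
        rw [huinv]
        calc u * (u * x * u) * u = (u * u) * x * (u * u) := by group
          _ = x := by rw [huu]; simp
      rwa [e] at h1

/-- `N(R)` contains exactly 21 involutions -/
theorem l7_count21 (R : Subgroup G) (hc : Nat.card R = 9)
    (hcomm : ∀ x ∈ R, ∀ y ∈ R, x * y = y * x) (hexp : ∀ x ∈ R, x ^ 3 = 1)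
    (hcent : ∀ g : G, g ∈ centralizer (R : Set G) → g ∈ R)
    (t0 : G) (ht0 : orderOf t0 = 2) (hinv : Inverts t0 R)
    (h18 : ∀ r ∈ R, r ≠ 1 → Nat.card (centralizer ({r} : Set G)) = 18) :
    Nat.card {u : G // orderOf u = 2 ∧ u ∈ normalizer (R : Set G)} = 21 := by
  classical
  haveI : Fintype G := Fintype.ofFinite G
  rw [← l7_card_filter]
  set Ninv : Finset G :=
    Finset.univ.filter (fun u => orderOf u = 2 ∧ u ∈ normalizer (R : Set G)) with hNinv
  have hsplit := Finset.card_filter_add_card_filter_not (s := Ninv)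
    (fun u => Inverts u R)
  have hI : (Ninv.filter (fun u => Inverts u R)).card = 9 := by
    rw [← l7_inverting R hc hcomm hcent t0 ht0 hinv, ← l7_card_filter]
    congr 1
    ext u
    simp only [Finset.mem_filter, Finset.mem_univ, true_and, hNinv]
    constructor
    · rintro ⟨⟨h2, _⟩, hi⟩; exact ⟨h2, hi⟩
    · rintro ⟨h2, hi⟩
      refine ⟨⟨h2, ?_⟩, hi⟩
      rw [l7_norm_iff R u h2]
      intro x hx
      rw [hi x hx]
      exact R.inv_mem hx
  have hC : (Ninv.filter (fun u => ¬ Inverts u R)).card = 12 := by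
    set Cinv := Ninv.filter (fun u => ¬ Inverts u R) with hCinv
    set T : Finset G := (Finset.univ.filter (fun x => x ∈ R)).erase 1 with hT
    have hTc : T.card = 8 := by
      rw [hT, Finset.card_erase_of_mem (by simp [R.one_mem]), l7_card_filter]
      show Nat.card R - 1 = 8
      rw [hc]
    have hdc := Finset.sum_card_bipartiteAbove_eq_sum_card_bipartiteBelow (s := Cinv) (t := T)
      (fun u x => u * x = x * u)
    have hL : ∀ u ∈ Cinv, (T.bipartiteAbove (fun u x => u * x = x * u) u).card = 2 := by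
      intro u hu
      simp only [hCinv, hNinv, Finset.mem_filter, Finset.mem_univ, true_and] at hu
      obtain ⟨⟨hu2, huN⟩, hni⟩ := hu
      have hN := (l7_norm_iff R u hu2).mp huN
      have h3 := (l7_noninv R hc hcomm hexp hcent u hu2 hN hni).1
      rw [← l7_card_filter] at h3
      have : T.bipartiteAbove (fun u x => u * x = x * u) u =
          (Finset.univ.filter (fun x => x ∈ R ∧ u * x * u⁻¹ = x)).erase 1 := by
        ext x
        simp only [Finset.bipartiteAbove, hT, Finset.mem_filter, Finset.mem_erase,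
          Finset.mem_univ, true_and, mul_inv_eq_iff_eq_mul]
        tauto
      rw [this, Finset.card_erase_of_mem (by simp [R.one_mem]), h3]
    have hRr : ∀ x ∈ T, (Cinv.bipartiteBelow (fun u x => u * x = x * u) x).card = 3 := by
      intro x hx
      simp only [hT, Finset.mem_erase, Finset.mem_filter, Finset.mem_univ, true_and] at hx
      obtain ⟨hx1, hxR⟩ := hx
      obtain ⟨h3, hsec⟩ := l7_cent_invs R hc hcomm hexp hcent x hxR hx1 (h18 x hxR hx1)
      rw [← l7_card_filter] at h3
      rw [← h3]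
      congr 1
      ext u
      simp only [Finset.bipartiteBelow, hCinv, hNinv, Finset.mem_filter, Finset.mem_univ,
        true_and]
      constructor
      · rintro ⟨⟨⟨h2, _⟩, _⟩, hux⟩; exact ⟨h2, hux⟩
      · rintro ⟨h2, hux⟩
        obtain ⟨hn, hni⟩ := hsec u h2 hux
        exact ⟨⟨⟨h2, (l7_norm_iff R u h2).mpr hn⟩, hni⟩, hux⟩
    rw [Finset.sum_congr rfl hL, Finset.sum_congr rfl hRr, Finset.sum_const, Finset.sum_const,
      hTc] at hdc
    simp only [smul_eq_mul] at hdc
    omega
  omega

/-- (L7) every involution normalises exactly 7 Sylow 3-subgroups. -/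
theorem loc_seven (B : Base G)
    (hcard3 : ∀ R : Sylow 3 G, Nat.card (R : Subgroup G) = 9)
    (hcomm : ∀ R : Sylow 3 G, ∀ x ∈ (R : Subgroup G), ∀ y ∈ (R : Subgroup G), x * y = y * x)
    (hcent : ∀ R : Sylow 3 G, ∀ g : G, g ∈ centralizer ((R : Subgroup G) : Set G) → g ∈ (R : Subgroup G))
    (hn55 : Nat.card (Sylow 3 G) = 55)
    (h3 : ∀ R : Sylow 3 G, ∃ t : G, orderOf t = 2 ∧ Inverts t (R : Subgroup G))
    (hti : ∀ R R' : Sylow 3 G, R ≠ R' → ∀ x : G, x ∈ (R : Subgroup G) → x ∈ (R' : Subgroup G) → x = 1)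
    (hc18 : ∀ z : G, orderOf z = 3 → Nat.card (centralizer ({z} : Set G)) = 18) :
    ∀ t : G, orderOf t = 2 →
      Nat.card {R : Sylow 3 G // t ∈ normalizer ((R : Subgroup G) : Set G)} = 7 := by
  classical
  intro t ht
  have hexp := Cfsg.Agent.Helper67.M11U.loc_exp3 B hcard3 hcent
  haveI : Fintype G := Fintype.ofFinite G
  haveI : Fintype (Sylow 3 G) := Fintype.ofFinite _
  have h21 : ∀ R : Sylow 3 G, (Finset.univ.filter
      (fun u : G => orderOf u = 2 ∧ u ∈ normalizer ((R : Subgroup G) : Set G))).card = 21 := by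
    intro R
    obtain ⟨t0, ht0, hinv⟩ := h3 R
    rw [l7_card_filter]
    exact l7_count21 (R : Subgroup G) (hcard3 R) (hcomm R) (hexp R) (hcent R) t0 ht0 hinv
      (fun r hr hr1 => hc18 r (orderOf_eq_prime (hexp R r hr) hr1))
  have h165 : (Finset.univ.filter (fun u : G => orderOf u = 2)).card = 165 := by
    have hcls := Cfsg.Agent.Helper77.M11LA.cls_mul_card_centralizer t
    rw [B.h48 t ht, B.card] at hcls
    have he : Nat.card {s : G // IsConj t s} = Nat.card {s : G // orderOf s = 2} := by
      apply Nat.card_congr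
      apply Equiv.subtypeEquivRight
      intro s
      constructor
      · intro h
        obtain ⟨c, hc⟩ := isConj_iff.mp h
        rw [← hc, ← MulAut.conj_apply, MulEquiv.orderOf_eq]
        exact ht
      · intro hs
        exact isConj_iff.mpr (B.hconj t s ht hs)
    rw [l7_card_filter, ← he]
    have : Cfsg.Agent.Helper7.M11LA.cls t = Nat.card {s : G // IsConj t s} := rfl
    rw [← this]
    omega
  rw [← l7_card_filter]
  set m := (Finset.univ.filter
    (fun R : Sylow 3 G => t ∈ normalizer ((R : Subgroup G) : Set G))).card with hm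
  have hdc := Finset.sum_card_bipartiteAbove_eq_sum_card_bipartiteBelow
    (s := Finset.univ.filter (fun u : G => orderOf u = 2))
    (t := (Finset.univ : Finset (Sylow 3 G)))
    (fun (u : G) (R : Sylow 3 G) => u ∈ normalizer ((R : Subgroup G) : Set G))
  have hL : ∀ u ∈ Finset.univ.filter (fun u : G => orderOf u = 2),
      ((Finset.univ : Finset (Sylow 3 G)).bipartiteAbove
        (fun (u : G) (R : Sylow 3 G) => u ∈ normalizer ((R : Subgroup G) : Set G)) u).card = m := by
    intro u hu
    simp only [Finset.mem_filter, Finset.mem_univ, true_and] at hu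
    obtain ⟨g, hg⟩ := B.hconj t u ht hu
    rw [hm]
    symm
    apply Finset.card_bijective (fun P : Sylow 3 G => g • P) (MulAction.bijective g)
    intro P
    simp only [Finset.bipartiteAbove, Finset.mem_filter, Finset.mem_univ, true_and]
    have e : u • (g • P) = g • (t • P) := by
      rw [smul_smul, smul_smul, ← hg]
      congr 1
      group
    constructor
    · intro h
      apply Sylow.smul_eq_iff_mem_normalizer.mp
      rw [e, Sylow.smul_eq_iff_mem_normalizer.mpr h]
    · intro h
      apply Sylow.smul_eq_iff_mem_normalizer.mp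
      have h1 := Sylow.smul_eq_iff_mem_normalizer.mpr h
      rw [e] at h1
      exact (smul_left_cancel_iff g).mp h1
  have hR : ∀ R ∈ (Finset.univ : Finset (Sylow 3 G)),
      ((Finset.univ.filter (fun u : G => orderOf u = 2)).bipartiteBelow
        (fun (u : G) (R : Sylow 3 G) => u ∈ normalizer ((R : Subgroup G) : Set G)) R).card = 21 := by
    intro R _
    rw [← h21 R]
    congr 1
    ext u
    simp only [Finset.bipartiteBelow, Finset.mem_filter, Finset.mem_univ, true_and]
  rw [Finset.sum_congr rfl hL, Finset.sum_congr rfl hR, Finset.sum_const, Finset.sum_const,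
    h165, Finset.card_univ, ← Nat.card_eq_fintype_card, hn55] at hdc
  simp only [smul_eq_mul] at hdc
  omega

end Cfsg.Agent.Helper60.M11U
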