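import Mathlib
import Cfsg.Prelude.Def_Transfer
import Cfsg.Agent.Lib.Helper24.CYCDefs

/-!
CYC piece (E7) `card_noncomm` for helper24's lemma server (row S4016): pure counting.
-/

set_option autoImplicit false

namespace Cfsg.Agent.Helper60.CYC

open Subgroup Cfsg.Agent.Helper24.CYC

universe u

variable {G : Type u} [Group G] [Finite G] {p : ℕ} [Fact p.Prime]

theorem e7_card_filter {α : Type*} [Fintype α] (q : α → Prop) [DecidablePred q] :
    (Finset.univ.filter q).card = Nat.card {x // q x} := by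
  rw [Nat.card_eq_fintype_card, Fintype.card_subtype]

/-- (E7) pure counting. -/
theorem card_noncomm (π j : ℕ)
    (h5 : ∀ s t : G, s * s = 1 → t * t = 1 → s * t ≠ t * s → ∃! P : Sylow p G, s ∈ Ivs P ∧ t ∈ Ivs P)
    (h6 : ∀ P : Sylow p G, Nat.card (Ivs P) = π * j ∧ ∀ s ∈ Ivs P, Nat.card {t : G // t ∈ Ivs P ∧ s * t = t * s} = j)
    (s : G) (hs : s * s = 1) :
    Nat.card {t : G // t * t = 1 ∧ s * t ≠ t * s} = Nat.card {P : Sylow p G // s ∈ Ivs P} * (π * j - j) := by
  classical
  haveI : Fintype G := Fintype.ofFinite G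
  haveI : Fintype (Sylow p G) := Fintype.ofFinite _
  rw [← e7_card_filter, ← e7_card_filter]
  set SP : Finset (Sylow p G) := Finset.univ.filter (fun P : Sylow p G => s ∈ Ivs P) with hSP
  set F : Sylow p G → Finset G :=
    fun P => Finset.univ.filter (fun t => t ∈ Ivs P ∧ s * t ≠ t * s) with hF
  have hU : Finset.univ.filter (fun t : G => t * t = 1 ∧ s * t ≠ t * s) = SP.biUnion F := by
    ext t
    simp only [Finset.mem_filter, Finset.mem_univ, true_and, Finset.mem_biUnion, hSP, hF]
    constructor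
    · rintro ⟨ht, hst⟩
      obtain ⟨P, ⟨hsP, htP⟩, _⟩ := h5 s t hs ht hst
      exact ⟨P, hsP, htP, hst⟩
    · rintro ⟨P, _, htP, hst⟩
      exact ⟨htP.1, hst⟩
  rw [hU, Finset.card_biUnion]
  · apply Finset.sum_const_nat
    intro P hP
    simp only [hSP, Finset.mem_filter, Finset.mem_univ, true_and] at hP
    obtain ⟨h6a, h6b⟩ := h6 P
    have h1 : (Finset.univ.filter (fun t : G => t ∈ Ivs P)).card = π * j := by
      rw [e7_card_filter]; exact h6a
    have h2 : (Finset.univ.filter (fun t : G => t ∈ Ivs P ∧ s * t = t * s)).card = j := by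
      rw [e7_card_filter]; exact h6b s hP
    have h3 := Finset.card_filter_add_card_filter_not
      (s := Finset.univ.filter (fun t : G => t ∈ Ivs P)) (fun t => s * t = t * s)
    rw [Finset.filter_filter, Finset.filter_filter, h1, h2] at h3
    have h4 : (Finset.univ.filter (fun t => t ∈ Ivs P ∧ s * t ≠ t * s)).card =
        (Finset.univ.filter (fun a => a ∈ Ivs P ∧ ¬ s * a = a * s)).card := rfl
    show (Finset.univ.filter (fun t => t ∈ Ivs P ∧ s * t ≠ t * s)).card = π * j - j
    rw [h4]
    omega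
  · intro P hP P' hP' hne
    simp only [hSP, Finset.coe_filter, Finset.mem_univ, true_and, Set.mem_ofPred_eq] at hP hP'
    rw [Function.onFun, Finset.disjoint_left]
    intro t ht ht'
    simp only [hF, Finset.mem_filter, Finset.mem_univ, true_and] at ht ht'
    obtain ⟨Q, _, hQ⟩ := h5 s t hs ht.1.1 ht.2
    exact hne ((hQ P ⟨hP, ht.1⟩).trans (hQ P' ⟨hP', ht'.1⟩).symm)

end Cfsg.Agent.Helper60.CYC
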