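import Mathlib
import Cfsg.Prelude.Def_Transfer
import Cfsg.Agent.Lib.Helper24.CYCDefs

/-!
CYC piece (I5) `caseI_sum` for helper24's lemma server (row S4016): double counting.
-/

set_option autoImplicit false

namespace Cfsg.Agent.Helper60.CYC

open Subgroup Cfsg.Agent.Helper24.CYC

universe u

variable {G : Type u} [Group G] [Finite G] {p : ℕ} [Fact p.Prime]

theorem i5_card_filter {α : Type*} [Fintype α] (q : α → Prop) [DecidablePred q] :
    (Finset.univ.filter q).card = Nat.card {x // q x} := by
  rw [Nat.card_eq_fintype_card, Fintype.card_subtype]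

/-- (I5) double counting. -/
theorem caseI_sum (π j ω : ℕ)
    (h6 : ∀ P : Sylow p G, Nat.card (Ivs P) = π * j)
    (h7 : ∀ s : G, s * s = 1 → s ≠ 1 →
      Nat.card {t : G // t * t = 1 ∧ s * t ≠ t * s} = Nat.card {P : Sylow p G // s ∈ Ivs P} * (π * j - j))
    (hcomm : ∀ s : G, s * s = 1 → s ≠ 1 → Nat.card {t : G // t * t = 1 ∧ t ≠ 1 ∧ s * t = t * s} = ω) :
    Nat.card (Sylow p G) * (π * j) * (π * j - j) =
      Nat.card {t : G // t * t = 1 ∧ t ≠ 1} * (Nat.card {t : G // t * t = 1 ∧ t ≠ 1} - ω) := by
  classical
  haveI : Fintype G := Fintype.ofFinite G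
  haveI : Fintype (Sylow p G) := Fintype.ofFinite _
  rw [← i5_card_filter (fun t : G => t * t = 1 ∧ t ≠ 1)]
  set I : Finset G := Finset.univ.filter (fun t : G => t * t = 1 ∧ t ≠ 1) with hI
  set i := I.card with hi
  -- all square-one elements
  have hA : (Finset.univ.filter (fun t : G => t * t = 1)).card = i + 1 := by
    have : Finset.univ.filter (fun t : G => t * t = 1) = insert 1 I := by
      ext t
      simp only [hI, Finset.mem_filter, Finset.mem_univ, true_and, Finset.mem_insert]
      constructor
      · intro h
        by_cases h1 : t = 1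
        · exact Or.inl h1
        · exact Or.inr ⟨h, h1⟩
      · rintro (h | h)
        · rw [h]; simp
        · exact h.1
    rw [this, Finset.card_insert_of_notMem]
    simp [hI]
  -- for each involution
  have hs : ∀ s ∈ I, (Finset.univ.filter (fun P : Sylow p G => s ∈ Ivs P)).card * (π * j - j)
      = i - ω := by
    intro s hsI
    simp only [hI, Finset.mem_filter, Finset.mem_univ, true_and] at hsI
    obtain ⟨hss, hs1⟩ := hsI
    have h7' := h7 s hss hs1
    rw [← i5_card_filter, ← i5_card_filter] at h7'
    have hc' := hcomm s hss hs1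
    rw [← i5_card_filter] at hc'
    have hC : (Finset.univ.filter (fun t : G => t * t = 1 ∧ s * t = t * s)).card = ω + 1 := by
      have : Finset.univ.filter (fun t : G => t * t = 1 ∧ s * t = t * s) =
          insert 1 (Finset.univ.filter (fun t : G => t * t = 1 ∧ t ≠ 1 ∧ s * t = t * s)) := by
        ext t
        simp only [Finset.mem_filter, Finset.mem_univ, true_and, Finset.mem_insert]
        constructor
        · rintro ⟨h, h'⟩
          by_cases h1 : t = 1
          · exact Or.inl h1
          · exact Or.inr ⟨h, h1, h'⟩
        · rintro (h | h)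
          · rw [h]; simp
          · exact ⟨h.1, h.2.2⟩
      rw [this, Finset.card_insert_of_notMem, hc']
      simp
    have hsplit := Finset.card_filter_add_card_filter_not
      (s := Finset.univ.filter (fun t : G => t * t = 1)) (fun t => s * t = t * s)
    rw [Finset.filter_filter, Finset.filter_filter, hA, hC] at hsplit
    have h4 : (Finset.univ.filter (fun t : G => t * t = 1 ∧ s * t ≠ t * s)).card =
        (Finset.univ.filter (fun a : G => a * a = 1 ∧ ¬ s * a = a * s)).card := rfl
    rw [h4] at h7'
    omega
  -- double counting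
  have hdc := Finset.sum_card_bipartiteAbove_eq_sum_card_bipartiteBelow (s := I)
    (t := (Finset.univ : Finset (Sylow p G))) (fun (s : G) (P : Sylow p G) => s ∈ Ivs P)
  have hR : ∀ P ∈ (Finset.univ : Finset (Sylow p G)),
      (I.bipartiteBelow (fun (s : G) (P : Sylow p G) => s ∈ Ivs P) P).card = π * j := by
    intro P _
    have h6' := h6 P
    rw [← h6']
    have : I.bipartiteBelow (fun (s : G) (P : Sylow p G) => s ∈ Ivs P) P =
        Finset.univ.filter (fun t : G => t ∈ Ivs P) := by
      ext t
      simp only [Finset.bipartiteBelow, hI, Finset.mem_filter, Finset.mem_univ, true_and]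
      constructor
      · intro h; exact h.2
      · intro h
        refine ⟨⟨h.1, ?_⟩, h⟩
        intro h1
        apply h.2.2
        rw [h1]
        exact Subgroup.one_mem _
    rw [this, i5_card_filter]
  rw [Finset.sum_congr rfl hR, Finset.sum_const, Finset.card_univ, ← Nat.card_eq_fintype_card,
    smul_eq_mul] at hdc
  -- combine
  have hsum : ∑ s ∈ I, ((Finset.univ : Finset (Sylow p G)).bipartiteAbove
      (fun (s : G) (P : Sylow p G) => s ∈ Ivs P) s).card * (π * j - j) = i * (i - ω) := by
    rw [Finset.sum_const_nat (m := i - ω)]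
    intro s hsI
    have := hs s hsI
    simpa [Finset.bipartiteAbove] using this
  rw [← Finset.sum_mul, hdc] at hsum
  exact hsum

end Cfsg.Agent.Helper60.CYC
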