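import Mathlib
import Cfsg.Agent.Lib.Helper60.BG161C2a
import Cfsg.Agent.Lib.Helper73.BG161Ctx
import Cfsg.Agent.S1405

/-!
# B-G Lemma 16.1, piece (C2) `compl_of_fixed` (helper73's plan `tools/bg161_plan_helper73.md`)

`compl_of_fixed_of` takes the pieces (B8) `reg`, (G1) `frob_fix`, (C2β) `beta_kill` as explicit
hypotheses.
-/

set_option autoImplicit false
set_option linter.style.haveILetI false
set_option linter.unusedSectionVars false
set_option linter.unusedVariables false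

namespace Cfsg.Agent.Helper60.BG161

open Subgroup Cfsg
open Cfsg.Agent.Helper79.BG10 (cj mem_cj conj_mem_cj cj_mul cj_one cj_mono cj_le_iff card_cj
  isPGroup_cj cj_eq_self_of_mem cj_eq_self_of_mem_normalizer mem_normalizer_of_cj_eq cj_inv_cj
  cj_cj_inv normalizer_cj)
open Cfsg.Agent.Helper55.BGB (sigmaCore_le isPi_sigmaCore le_normalizer_sigmaCore)
open Cfsg.Agent.Helper84 (IsSylIn)
open Cfsg.Agent.Helper73.BG161

variable {G : Type*} [Group G] [Finite G]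

/-- the statement of (B8) `reg` for fixed `M K U Mstar`, as a hypothesis -/
def RegHyp (K Mstar : Subgroup G) : Prop :=
  ∀ (L : Subgroup G), IsCoatom L →
    (∀ g : G, L ≠ Mstar.map (MulAut.conj g).toMonoidHom) → Cfsg.kappa L = ∅ →
    ∀ (Y : Subgroup G), Y ≤ K → Y ≤ L → (Nat.card Y).Prime →
      Cfsg.sigmaCore L ⊓ centralizer (Y : Set G) = ⊥

/-- the statement of (G1) `frob_fix`, as a hypothesis -/
def FrobHyp (G : Type*) [Group G] : Prop :=
  ∀ (F Y W : Subgroup G), Y ≠ ⊥ →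
    Y ≤ normalizer (F : Set G) → F ≤ normalizer (W : Set G) →
    Y ≤ normalizer (W : Set G) → (∀ a ∈ W, ∀ b ∈ W, a * b = b * a) →
    (Nat.card F).Coprime (Nat.card W) →
    (∀ y ∈ Y, y ≠ 1 → F ⊓ centralizer ({y} : Set G) = ⊥) →
    (∀ y ∈ Y, y ≠ 1 → W ⊓ centralizer ({y} : Set G) = ⊥) →
    F ≤ centralizer (W : Set G)

/-- the statement of (C2β) `beta_kill` for fixed `M`, as a hypothesis -/
def BetaHyp (M : Subgroup G) : Prop :=
  ∀ (K₁ : Subgroup G), Cfsg.IsPiHallOf (Cfsg.kappa M) K₁ M → K₁ ≠ ⊥ →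
    ∀ (p : ℕ) [Fact p.Prime],
    p ∣ Nat.card ↥(Cfsg.sigmaCore M ⊓ centralizer (K₁ : Set G)) →
    ∀ (A₁ : Subgroup G), A₁ ≤ Cfsg.sigmaCore M → Cfsg.IsElementaryAbelian p A₁ →
    Nat.card A₁ = p ^ 2 →
    (∀ B : Subgroup G, Cfsg.IsElementaryAbelian p B → A₁ ≤ B → B = A₁) →
    ∀ (y : G), y ∈ A₁ → ∀ (H₁ : Subgroup G), IsCoatom H₁ →
    centralizer ({y} : Set G) ≤ H₁ → H₁ ≠ M → False

/-- Steps 3-5: an element `y` of order `p ∈ τ₂(H)` with a fixed point on `H_σ`, inside a maximal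
subgroup `L` with `p ∈ σ(L)`: then `L ∩ H` is a complement of `H_σ` in `H`. -/
theorem compl_step (f : Facts G) (hG : IsMinSimpleOddOrder G) {H L : Subgroup G}
    (hH : IsCoatom H) (hL : IsCoatom L) {p : ℕ} (hp : p.Prime) (hτ : p ∈ tau2 H)
    (hpL : p ∈ sigma L) {y : G} (hyH : y ∈ H) (hyL : y ∈ L) (hy : orderOf y = p)
    (hhat : y ∈ sigmaHat H) :
    centralizer ({y} : Set G) ≤ H ∧ L ≠ H ∧ y ∈ sigmaCore L ∧
      IsComplIn (L ⊓ H) (sigmaCore H) H := by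
  have hy1 : y ≠ 1 := orderOf_prime_ne_one hp hy
  obtain ⟨hHallH, -, -⟩ := f.t1350 H hH
  obtain ⟨hHallL, -, -⟩ := f.t1350 L hL
  obtain ⟨E₀, hE₀⟩ := Cfsg.Agent.Helper55.BGB.exists_compl_sigmaCore hHallH
  have hτ' : ∀ p' : ℕ, p'.Prime → p' ∣ orderOf y → p' ∈ tau2 H := by
    intro p' hp' hd
    rw [hy] at hd
    rw [(Nat.prime_dvd_prime_iff_eq hp' hp).mp hd]
    exact hτ
  obtain ⟨hCy, hCyu⟩ := (f.t1420 H hH E₀ hE₀).2.2.2 y hyH hy1 hτ' hhat
  have hLH : L ≠ H := by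
    rintro rfl
    exact hτ.2.1 hpL
  have hyLσ : y ∈ sigmaCore L :=
    Cfsg.Agent.Helper55.BGB.le_sigmaCore_of_isPGroup hp hHallL hpL (zpowers_le.mpr hyL)
      (isPGroup_zpowers_of_orderOf hy) (mem_zpowers y)
  have hnot : ¬ centralizer ({y} : Set G) ≤ L := fun hle => hLH (hCyu L hL hle)
  obtain ⟨N, ⟨hN, hCN⟩, -, -, -, -, hcompl, -⟩ := f.t1375 L hL y hyLσ hy1 hnot
  have hNH : N = H := hCyu N hN hCN
  rw [hNH] at hcompl
  exact ⟨hCy, hLH, hyLσ, hcompl⟩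

/-- an elementary abelian `p²`-subgroup `A` (`p ∈ τ₂(H)`) normalized by `Y ≤ K` of prime order
cannot have `C_A(y) = 1` for all `y ∈ Y#`. -/
theorem no_fpf (f : Facts G) {M K U Mstar H : Subgroup G} (b : Base M K U Mstar H)
    (hreg : RegHyp K Mstar) (hfrob : FrobHyp G) {p : ℕ} [hp : Fact p.Prime]
    (hτ : p ∈ tau2 H) {A : Subgroup G} (hAH : A ≤ H) (hAe : IsElementaryAbelian p A)
    (hAc : Nat.card A = p ^ 2) {Y : Subgroup G} (hYK : Y ≤ K) (hYp : (Nat.card Y).Prime)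
    (hYA : Y ≤ normalizer (A : Set G))
    (hfp : ∀ y ∈ Y, y ≠ 1 → A ⊓ centralizer ({y} : Set G) = ⊥) : False := by
  have hYH : Y ≤ H := hYK.trans b.hKH
  have hY1 : Y ≠ ⊥ := by
    rintro rfl
    rw [Subgroup.card_bot] at hYp
    exact Nat.not_prime_one hYp
  set W : Subgroup G := zc (sigmaCore H) with hW
  have hHW : H ≤ normalizer (W : Set G) :=
    (le_normalizer_sigmaCore H).trans (normalizer_le_normalizer_zc _)
  have hcop : (Nat.card A).Coprime (Nat.card W) := by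
    rw [hAc]
    apply Nat.Coprime.pow_left
    rw [Nat.Prime.coprime_iff_not_dvd hp.out]
    intro hd
    exact hτ.2.1 (isPi_sigmaCore H p hp.out (hd.trans (Subgroup.card_dvd_of_le (zc_le _))))
  have hregH := hreg H b.hH b.hHMs b.hkH Y hYK hYH hYp
  have hWfp : ∀ y ∈ Y, y ≠ 1 → W ⊓ centralizer ({y} : Set G) = ⊥ := by
    intro y hy hy1
    rw [eq_bot_iff]
    intro x hx
    have : x ∈ sigmaCore H ⊓ centralizer (Y : Set G) :=
      ⟨zc_le _ hx.1, mem_centralizer_of_prime_card hYp hy hy1 hx.2⟩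
    rwa [hregH] at this
  have hAW : A ≤ centralizer (W : Set G) :=
    hfrob A Y W hY1 hYA (hAH.trans hHW) (hYH.trans hHW) (zc_comm _) hcop hfp hWfp
  have hWA : W ≤ sigmaCore H ⊓ centralizer (A : Set G) :=
    le_inf (zc_le _) (Subgroup.le_centralizer_iff.mp hAW)
  have h17 := (f.t1417 H b.hH p hτ A ⟨hAH, hAe, hAc⟩).2.2.2.1
  rw [h17] at hWA
  exact zc_ne_bot_of_nilpotent b.hHnil b.hHσ1 (le_bot_iff.mp hWA)

/-- (C2) with the pieces (B8), (G1), (C2β) as hypotheses. -/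
theorem compl_of_fixed_of (f : Facts G) {M K U Mstar H : Subgroup G} (b : Base M K U Mstar H)
    (hreg : RegHyp K Mstar) (hfrob : FrobHyp G) (hbeta : BetaHyp M)
    (e : G) (heH : e ∈ H) (he1 : e ≠ 1)
    (heσ : ∀ p : ℕ, p.Prime → p ∣ orderOf e → p ∉ Cfsg.sigma H)
    (hfix : Cfsg.sigmaCore H ⊓ centralizer ({e} : Set G) ≠ ⊥) :
    Cfsg.IsComplIn (H ⊓ Mstar) (Cfsg.sigmaCore H) H := by
  have hG := b.hG
  have hH := b.hH
  obtain ⟨hHallH, -, -⟩ := f.t1350 H hH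
  have hsolH : Group.IsSolvable H := hG.2.2.2 H hH.1
  -- Step 1: an element of prime order with a fixed point
  obtain ⟨w₀, hw₀1⟩ := (Subgroup.ne_bot_iff_exists_ne_one).mp hfix
  have hwσ : (w₀ : G) ∈ sigmaCore H := w₀.2.1
  have hwe : (w₀ : G) * e = e * (w₀ : G) := mem_centralizer_singleton_iff.mp w₀.2.2
  have hw1 : (w₀ : G) ≠ 1 := fun h => hw₀1 (Subtype.ext h)
  set w : G := (w₀ : G) with hwdef
  have hoe : orderOf e ≠ 1 := fun h => he1 (orderOf_eq_one_iff.mp h)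
  set p : ℕ := (orderOf e).minFac with hpdef
  have hp : p.Prime := Nat.minFac_prime hoe
  haveI : Fact p.Prime := ⟨hp⟩
  have hpe : p ∣ orderOf e := Nat.minFac_dvd _
  have hpσ : p ∉ sigma H := heσ p hp hpe
  set y : G := e ^ (orderOf e / p) with hydef
  have hy : orderOf y = p := orderOf_pow_orderOf_div (orderOf_pos e).ne' hpe
  have hyH : y ∈ H := H.pow_mem heH _
  have hy1 : y ≠ 1 := orderOf_prime_ne_one hp hy
  have hyw : y * w = w * y := by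
    have hc : Commute w e := hwe
    exact ((hc.pow_right _).eq).symm
  have hhat : y ∈ sigmaHat H := ⟨hyH, w, hwσ, hw1, hyw⟩
  -- Step 2: `p ∈ τ₂(H)`
  obtain ⟨hαHall, -, hαle, -, -⟩ := Cfsg.Agent.S1405.result hG H hH
  have hr2 : PRankLE p 2 ↥H :=
    Cfsg.Agent.Helper55.BGB.prankLE_two_of_not_mem_sigma hp hαHall hαle hpσ
  have hr1 : ¬ PRankLE p 1 ↥H := by
    intro hr1
    have := mem_kappa_of_prankLE_one hG hp hpσ hr1 hyH hy hwσ hw1 hyw
    rw [b.hkH] at this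
    exact this
  have hτ : p ∈ tau2 H := ⟨hp, hpσ, hr2, hr1⟩
  -- Step 4: a maximal subgroup `L'` with `p ∈ σ(L')` containing `y`
  have hpG : p ∣ Nat.card G := by rw [← hy]; exact orderOf_dvd_natCard y
  obtain ⟨L0, hL0, hpL0⟩ := f.t1378.1 p hp hpG
  obtain ⟨T₀, hT₀L, hT₀p, hT₀i, -, -⟩ := exists_sylow_of_mem_sigma hpL0
  obtain ⟨g, -, hg⟩ := (isSylIn_of_index hT₀p hT₀i le_top).exists_conj_ge
    (H := zpowers y) le_top (isPGroup_zpowers_of_orderOf hy)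
  have hyL' : y ∈ cj g L0 := cj_mono g hT₀L (hg (mem_zpowers y))
  have hpL' : p ∈ sigma (cj g L0) := by
    rw [Cfsg.Agent.Helper25.BGNat.sigma_cj]; exact hpL0
  obtain ⟨-, -, -, hc'⟩ := compl_step f hG hH (isCoatom_cj' hL0 g) hp hτ hpL' hyH hyL' hy hhat
  -- Step 6: move `K` into the complement
  obtain ⟨h, hhH, hKh⟩ := exists_conj_le_compl hsolH hHallH hc' b.hKH b.hKσH
  set L : Subgroup G := cj h⁻¹ (cj g L0) with hLdef
  have hL : IsCoatom L := isCoatom_cj' (isCoatom_cj' hL0 g) h⁻¹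
  have hpL : p ∈ sigma L := by
    rw [hLdef, Cfsg.Agent.Helper25.BGNat.sigma_cj]; exact hpL'
  set y₁ : G := h⁻¹ * y * h with hy₁def
  have hy₁ : orderOf y₁ = p := by rw [hy₁def, orderOf_conj_elt']; exact hy
  have hy₁H : y₁ ∈ H := H.mul_mem (H.mul_mem (H.inv_mem hhH) hyH) hhH
  have hy₁L : y₁ ∈ L := by
    rw [hLdef, mem_cj]
    have e1 : h⁻¹⁻¹ * y₁ * h⁻¹ = y := by rw [hy₁def]; group
    rw [e1]; exact hyL'
  have hhat₁ : y₁ ∈ sigmaHat H := by
    refine ⟨hy₁H, h⁻¹ * w * h, ?_, ?_, ?_⟩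
    · exact Cfsg.Agent.Helper60.BG144.conj_inv_mem_of_mem_normalizer
        (le_normalizer_sigmaCore H hhH) hwσ
    · intro h1
      apply hw1
      have e1 : w = h * (h⁻¹ * w * h) * h⁻¹ := by group
      rw [e1, h1]; group
    · have e1 : y₁ * (h⁻¹ * w * h) = h⁻¹ * (y * w) * h := by rw [hy₁def]; group
      have e2 : h⁻¹ * w * h * y₁ = h⁻¹ * (w * y) * h := by rw [hy₁def]; group
      rw [e1, e2, hyw]
  obtain ⟨hCy₁, hLH, hy₁Lσ, hc⟩ := compl_step f hG hH hL hp hτ hpL hy₁H hy₁L hy₁ hhat₁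
  have hKL : K ≤ L := by
    rw [hLdef, ← cj_le_iff]
    exact hKh.trans inf_le_left
  have hKE : K ≤ L ⊓ H := le_inf hKL b.hKH
  obtain ⟨hHallL, -, -⟩ := f.t1350 L hL
  -- Step 7: the elementary abelian subgroup `A ≤ E`
  obtain ⟨A₀, hA₀H, hA₀e, hA₀c⟩ := Cfsg.Agent.Helper34.BG.exists_elemAb_of_not_pRankLE hr1
  obtain ⟨B, hBA₀, hBe, hBc⟩ := Cfsg.Agent.Helper34.BG.exists_elemAb_card_eq hA₀e hA₀c
  have hBp : IsPGroup p B := Cfsg.Agent.Helper34.BG.isElementaryAbelian_isPGroup hBe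
  have hBσ : ∀ r : ℕ, r.Prime → r ∣ Nat.card B → r ∉ sigma H := by
    intro r hr hd
    rw [hBc] at hd
    rw [(Nat.prime_dvd_prime_iff_eq hr hp).mp (hr.dvd_of_dvd_pow hd)]
    exact hpσ
  obtain ⟨k, hkH, hBk⟩ := exists_conj_le_compl hsolH hHallH hc (hBA₀.trans hA₀H) hBσ
  set A : Subgroup G := cj k B with hAdef
  have hAE : A ≤ L ⊓ H := hBk
  have hAH : A ≤ H := hAE.trans inf_le_right
  have hAL : A ≤ L := hAE.trans inf_le_left
  have hAe : IsElementaryAbelian p A := Cfsg.Agent.Helper60.BG144.elemAb_cj hBe k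
  have hAc : Nat.card A = p ^ 2 := by rw [hAdef, card_cj, hBc]
  have hAp : IsPGroup p A := Cfsg.Agent.Helper34.BG.isElementaryAbelian_isPGroup hAe
  obtain ⟨hEA, hXA⟩ := (f.t1418 H hH (L ⊓ H) hc p hτ A ⟨hAE, hAe, hAc⟩).1
  have hy₁A : y₁ ∈ A :=
    hXA (zpowers y₁) (zpowers_le.mpr ⟨hy₁L, hy₁H⟩) (by rw [Nat.card_zpowers, hy₁])
      (mem_zpowers y₁)
  have hALσ : A ≤ sigmaCore L :=
    Cfsg.Agent.Helper55.BGB.le_sigmaCore_of_isPGroup hp hHallL hpL hAL hAp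
  -- Step 8: `Y ≤ K` of prime order
  have hKc : Nat.card K ≠ 1 := fun h1 => b.hK1 (Subgroup.card_eq_one.mp h1)
  obtain ⟨q, hq, hqK⟩ := Nat.exists_prime_and_dvd hKc
  haveI : Fact q.Prime := ⟨hq⟩
  obtain ⟨k₀', hk₀'⟩ := exists_prime_orderOf_dvd_card' q hqK
  set k₀ : G := (k₀' : G) with hk₀def
  have hk₀ : orderOf k₀ = q := by rw [← hk₀']; exact Subgroup.orderOf_coe k₀'
  have hk₀K : k₀ ∈ K := k₀'.2
  have hk₀1 : k₀ ≠ 1 := orderOf_prime_ne_one hq hk₀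
  set Y : Subgroup G := zpowers k₀ with hYdef
  have hYK : Y ≤ K := zpowers_le.mpr hk₀K
  have hYp : (Nat.card Y).Prime := by rw [hYdef, Nat.card_zpowers, hk₀]; exact hq
  have hYA : Y ≤ normalizer (A : Set G) := (hYK.trans hKE).trans hEA
  have hnofp := no_fpf f b hreg hfrob hτ hAH hAe hAc hYK hYp hYA
  -- Step 9: the three cases for `L`
  by_cases hα : ∃ g' : G, L = cj g' Mstar
  · -- (α) `L = M*`
    obtain ⟨g', hg'⟩ := hα
    have hKst1 : Cfsg.sigmaCore M ⊓ centralizer (K : Set G) ≠ ⊥ :=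
      (f.t1364 M b.hM K U b.hKU b.hK1).2.1
    have hg'M : g' ∈ Mstar := by
      by_contra hg'M
      have h31 := (f.t1431 Mstar b.hMstar _ b.hKstH hKst1).1 g' hg'M
      have hKeq : K = sigmaCore Mstar ⊓ centralizer
          (((sigmaCore M ⊓ centralizer (K : Set G) : Subgroup G)) : Set G) := b.hKst
      rw [← hKeq] at h31
      have : K ≤ K ⊓ Mstar.map (MulAut.conj g').toMonoidHom := by
        refine le_inf le_rfl ?_
        have := hKL
        rw [hg'] at this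
        exact this
      rw [h31] at this
      exact b.hK1 (le_bot_iff.mp this)
    have hLM : L = Mstar := by rw [hg', cj_eq_self_of_mem hg'M]
    rw [hLM] at hc
    rwa [inf_comm]
  by_cases hβ : ∃ g' : G, L = cj g' M
  · -- (β) `L` conjugate to `M`: contradiction via `beta_kill`
    exfalso
    obtain ⟨g', hg'⟩ := hβ
    -- `C_A(Y) ≠ 1`
    have hex : ∃ y₀ ∈ Y, y₀ ≠ 1 ∧ A ⊓ centralizer ({y₀} : Set G) ≠ ⊥ := by
      by_contra hcon
      apply hnofp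
      intro y₀ hy₀ hy₀1
      by_contra hne
      exact hcon ⟨y₀, hy₀, hy₀1, hne⟩
    obtain ⟨y₀, hy₀Y, hy₀1, hne⟩ := hex
    obtain ⟨b₀', hb₀'1⟩ := (Subgroup.ne_bot_iff_exists_ne_one).mp hne
    have hb₀A : (b₀' : G) ∈ A := b₀'.2.1
    have hb₀y : (b₀' : G) * y₀ = y₀ * (b₀' : G) := mem_centralizer_singleton_iff.mp b₀'.2.2
    have hb₀1 : (b₀' : G) ≠ 1 := fun h => hb₀'1 (Subtype.ext h)
    set b₀ : G := (b₀' : G) with hb₀def
    have hb₀o : orderOf b₀ = p := orderOf_eq_prime (hAe.2 b₀ hb₀A) hb₀1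
    -- transport by `g'⁻¹`
    have hLσ : sigmaCore L = cj g' (sigmaCore M) := by
      rw [hg', Cfsg.Agent.Helper25.BGNat.sigmaCore_cj]
    set K₁ : Subgroup G := cj g'⁻¹ K with hK₁def
    have hK₁M : K₁ ≤ M := by
      rw [hK₁def, cj_le_iff, inv_inv, ← hg']; exact hKL
    have hK₁ : IsPiHallOf (kappa M) K₁ M := by
      rw [Cfsg.Agent.Helper52.isPiHallOf_iff_card]
      refine ⟨hK₁M, ?_⟩
      rw [hK₁def, card_cj]
      exact ((Cfsg.Agent.Helper52.isPiHallOf_iff_card _ _ _).mp b.hKU.hall).2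
    have hK₁1 : K₁ ≠ ⊥ := by
      intro h1
      apply hKc
      rw [← card_cj g'⁻¹ K, ← hK₁def, h1, Subgroup.card_bot]
    set k₁ : G := g'⁻¹ * y₀ * g' with hk₁def
    have hk₁K : k₁ ∈ K₁ := by
      rw [hK₁def, mem_cj]
      have e1 : g'⁻¹⁻¹ * k₁ * g'⁻¹ = y₀ := by rw [hk₁def]; group
      rw [e1]; exact hYK hy₀Y
    have hk₁1 : k₁ ≠ 1 := by
      intro h1
      apply hy₀1
      have e1 : y₀ = g' * (g'⁻¹ * y₀ * g') * g'⁻¹ := by group
      rw [e1, ← hk₁def, h1]; group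
    set b₁ : G := g'⁻¹ * b₀ * g' with hb₁def
    have hb₁M : b₁ ∈ sigmaCore M := by
      have : b₀ ∈ cj g' (sigmaCore M) := by rw [← hLσ]; exact hALσ hb₀A
      exact mem_cj.mp this
    have hb₁o : orderOf b₁ = p := by rw [hb₁def, orderOf_conj_elt']; exact hb₀o
    have hb₁k : b₁ * k₁ = k₁ * b₁ := by
      have e1 : b₁ * k₁ = g'⁻¹ * (b₀ * y₀) * g' := by rw [hb₁def, hk₁def]; group
      have e2 : k₁ * b₁ = g'⁻¹ * (y₀ * b₀) * g' := by rw [hb₁def, hk₁def]; group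
      rw [e1, e2, hb₀y]
    have h30 := (f.t1430 M b.hM K₁ hK₁ hK₁1).1 k₁ hk₁K hk₁1
    have hb₁K : b₁ ∈ sigmaCore M ⊓ centralizer (K₁ : Set G) := by
      rw [← h30]
      exact ⟨hb₁M, mem_centralizer_singleton_iff.mpr hb₁k⟩
    have hpd : p ∣ Nat.card ↥(sigmaCore M ⊓ centralizer (K₁ : Set G)) := by
      rw [← hb₁o]; exact Subgroup.orderOf_dvd_natCard _ hb₁K
    set A₁ : Subgroup G := cj g'⁻¹ A with hA₁def
    have hA₁M : A₁ ≤ sigmaCore M := by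
      rw [hA₁def, cj_le_iff, inv_inv, ← hLσ]; exact hALσ
    have hA₁e : IsElementaryAbelian p A₁ := Cfsg.Agent.Helper60.BG144.elemAb_cj hAe g'⁻¹
    have hA₁c : Nat.card A₁ = p ^ 2 := by rw [hA₁def, card_cj, hAc]
    have hmax : ∀ B' : Subgroup G, IsElementaryAbelian p B' → A₁ ≤ B' → B' = A₁ := by
      intro B' hB'e hle
      have h1 : A ≤ cj g' B' := by
        have := cj_mono g' hle
        rwa [hA₁def, cj_cj_inv] at this
      have h2 := (f.t1408 H hH p hpσ hr2 hr1).2 A hAH hAe hAc (cj g' B')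
        (Cfsg.Agent.Helper60.BG144.elemAb_cj hB'e g') h1
      rw [hA₁def, ← h2, cj_inv_cj]
    set y₂ : G := g'⁻¹ * y₁ * g' with hy₂def
    have hy₂A : y₂ ∈ A₁ := by
      rw [hA₁def, mem_cj]
      have e1 : g'⁻¹⁻¹ * y₂ * g'⁻¹ = y₁ := by rw [hy₂def]; group
      rw [e1]; exact hy₁A
    have hH₁ : IsCoatom (cj g'⁻¹ H) := isCoatom_cj' hH g'⁻¹
    have hCy₂ : centralizer ({y₂} : Set G) ≤ cj g'⁻¹ H := by
      intro c hc'
      rw [mem_centralizer_singleton_iff] at hc'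
      rw [mem_cj]
      apply hCy₁
      rw [mem_centralizer_singleton_iff]
      have e1 : g'⁻¹⁻¹ * c * g'⁻¹ * y₁ = g' * (c * y₂) * g'⁻¹ := by rw [hy₂def]; group
      have e2 : y₁ * (g'⁻¹⁻¹ * c * g'⁻¹) = g' * (y₂ * c) * g'⁻¹ := by rw [hy₂def]; group
      rw [e1, e2, hc']
    have hH₁M : cj g'⁻¹ H ≠ M := by
      intro h1
      apply b.hHM g'
      show H = cj g' M
      rw [← h1, cj_cj_inv]
    exact hbeta K₁ hK₁ hK₁1 p hpd A₁ hA₁M hA₁e hA₁c hmax y₂ hy₂A (cj g'⁻¹ H) hH₁ hCy₂ hH₁M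
  · -- (γ) `L` of type `F`
    exfalso
    have hκL : kappa L = ∅ := by
      by_contra hne
      have hne' : (kappa L).Nonempty := Set.nonempty_iff_ne_empty.mpr hne
      obtain ⟨g', hg'⟩ := (f.t1369 M b.hM K U b.hKU b.hK1 Mstar b.hMstar b.hKst b.hKstH).2
        L hL hne'
      rcases hg' with h1 | h1
      · exact hβ ⟨g', h1⟩
      · exact hα ⟨g', h1⟩
    have hregL := hreg L hL (fun g' hg' => hα ⟨g', hg'⟩) hκL Y hYK (hYK.trans hKL) hYp
    apply hnofp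
    intro y₀ hy₀ hy₀1
    rw [eq_bot_iff]
    intro x hx
    have : x ∈ sigmaCore L ⊓ centralizer (Y : Set G) :=
      ⟨hALσ hx.1, mem_centralizer_of_prime_card hYp hy₀ hy₀1 hx.2⟩
    rwa [hregL] at this

end Cfsg.Agent.Helper60.BG161
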