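import Mathlib
import Cfsg.Agent.Lib.Helper60.BG161C2
import Cfsg.Agent.Lib.Helper22.BG161B8
import Cfsg.Agent.Lib.Helper16.BG161G1
import Cfsg.Agent.Lib.Helper77.BG161C2b

/-!
# B-G Lemma 16.1, piece (C2) `compl_of_fixed`: the exact signature of
`tools/bg161_sigs_helper73.lean.txt`, from (B8) helper22, (G1) helper16, (C2β) helper77.
-/

set_option autoImplicit false
set_option linter.unusedVariables false

namespace Cfsg.Agent.Helper60.BG161

open Subgroup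
open Cfsg.Agent.Helper73.BG161

variable {G : Type*} [Group G] [Finite G]

/-- (C2) if some `e ≠ 1` of a complement `E ≥ K` of `H_σ` in `H` has a fixed point on `H_σ`, then
`H ∩ M*` is a complement of `H_σ` in `H`. -/
theorem compl_of_fixed (f : Facts G) {M K U Mstar H : Subgroup G} (b : Base M K U Mstar H)
    (hU : U ≤ Cfsg.sigmaCore H)
    (e : G) (heH : e ∈ H) (he1 : e ≠ 1)
    (heσ : ∀ p : ℕ, p.Prime → p ∣ orderOf e → p ∉ Cfsg.sigma H)
    (hfix : Cfsg.sigmaCore H ⊓ centralizer ({e} : Set G) ≠ ⊥) :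
    Cfsg.IsComplIn (H ⊓ Mstar) (Cfsg.sigmaCore H) H :=
  compl_of_fixed_of f b
    (fun L hL hLMs hkL Y hYK hYL hY =>
      Cfsg.Agent.Helper22.BG161.reg f b.toPP L hL hLMs hkL Y hYK hYL hY)
    (fun F Y W h1 h2 h3 h4 h5 h6 h7 h8 =>
      Cfsg.Agent.Helper16.BG161.frob_fix F Y W h1 h2 h3 h4 h5 h6 h7 h8)
    (fun K₁ hK₁ hK₁1 p _ hp A₁ hA₁M hA₁ hA₁c hmax y hy H₁ hH₁ hyH₁ hne =>
      Cfsg.Agent.Helper77.BG161.beta_kill f b.toPP b.hCU b.hMnil K₁ hK₁ hK₁1 p hp A₁ hA₁M hA₁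
        hA₁c hmax y hy H₁ hH₁ hyH₁ hne)
    e heH he1 heσ hfix

end Cfsg.Agent.Helper60.BG161
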