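import Mathlib
import Cfsg.Agent.Lib.Helper62.SLN0

/-!
# SLN (S1), (S1d): the Levi factor permutes the weight spaces of `U` (helper62's server, S2332)
-/

set_option autoImplicit false

namespace Cfsg.Agent.Helper60.SLN

open Matrix Module Cfsg.Agent.Helper93.U2 Cfsg.Agent.Helper62.SLN

section GRP

variable {F : Type*} [Field F] {κ : Type} [Fintype κ] [DecidableEq κ]

theorem h60_uEl_mul_lEl (A : SpecialLinearGroup κ F) (u : κ → F) :
    uEl u * lEl A = lEl A * uEl (vecMul u A.1) := by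
  apply Subtype.ext
  show (uEl u : Matrix (Unit ⊕ κ) (Unit ⊕ κ) F) * (lEl A : Matrix (Unit ⊕ κ) (Unit ⊕ κ) F) =
    (lEl A : Matrix (Unit ⊕ κ) (Unit ⊕ κ) F) * (uEl (vecMul u A.1) : Matrix (Unit ⊕ κ) (Unit ⊕ κ) F)
  rw [uEl_val, lEl_val, uEl_val, fromBlocks_multiply, fromBlocks_multiply]
  simp [replicateRow_vecMul]

theorem h60_uEl_mul_dEl (a : F) (A : Matrix κ κ F) (h : a * A.det = 1) (u : κ → F) :
    uEl u * dEl a A = dEl a A * uEl (a⁻¹ • vecMul u A) := by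
  have ha : a ≠ 0 := by
    rintro rfl
    simp at h
  apply Subtype.ext
  show (uEl u : Matrix (Unit ⊕ κ) (Unit ⊕ κ) F) * (dEl a A : Matrix (Unit ⊕ κ) (Unit ⊕ κ) F) =
    (dEl a A : Matrix (Unit ⊕ κ) (Unit ⊕ κ) F) *
      (uEl (a⁻¹ • vecMul u A) : Matrix (Unit ⊕ κ) (Unit ⊕ κ) F)
  rw [uEl_val, dEl_val a A h, uEl_val, fromBlocks_multiply, fromBlocks_multiply]
  congr 1
  · simp
  · ext i j
    simp [replicateRow_vecMul, Matrix.mul_apply, ha]
  · simp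
  · simp

omit [DecidableEq κ] in
theorem h60_dot (M : Matrix κ κ F) (w u : κ → F) : w ⬝ᵥ (vecMul u M) = (M *ᵥ w) ⬝ᵥ u := by
  rw [dotProduct_comm, ← dotProduct_mulVec, dotProduct_comm]

end GRP

section SLN

variable {F : Type*} [Field F] [Fintype F] [DecidableEq F] {κ : Type} [Fintype κ] [DecidableEq κ]
  {V : Type*} [AddCommGroup V] [Module ℂ V] [FiniteDimensional ℂ V]
  (ψ : AddChar F ℂ) (pr : Pairing (κ → F)) (hpr : ∀ w u, pr.β w u = ψ (w ⬝ᵥ u))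
  (ρ : Representation ℂ (SpecialLinearGroup (Unit ⊕ κ) F) V)

include hpr

omit [Fintype F] [DecidableEq F] [FiniteDimensional ℂ V] in
/-- piece S1 (R1 + G3 + G4) : `ρ (lEl A)` maps the `w`-weight space into the `A w`-weight space -/
theorem map_wt_lEl (A : SpecialLinearGroup κ F) (w : κ → F) (v : V) (hv : v ∈ wt pr ρ w) :
    ρ (lEl A) v ∈ wt pr ρ (A.1 *ᵥ w) := by
  rw [mem_wsp] at hv ⊢
  intro u
  have h1 : ρ (uEl u) (ρ (lEl A) v) = ρ (lEl A) (ρ (uEl (vecMul u A.1)) v) := by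
    rw [← Module.End.mul_apply, ← map_mul, h60_uEl_mul_lEl, map_mul, Module.End.mul_apply]
  rw [h1, hv, map_smul, hpr, hpr, h60_dot]

omit [Fintype F] [DecidableEq F] [FiniteDimensional ℂ V] in
/-- piece S1d (R1 + G3d + G4) -/
theorem map_wt_dEl (a : F) (A : Matrix κ κ F) (h : a * A.det = 1) (w : κ → F) (v : V)
    (hv : v ∈ wt pr ρ w) : ρ (dEl a A) v ∈ wt pr ρ (a⁻¹ • (A *ᵥ w)) := by
  rw [mem_wsp] at hv ⊢
  intro u
  have h1 : ρ (uEl u) (ρ (dEl a A) v) = ρ (dEl a A) (ρ (uEl (a⁻¹ • vecMul u A)) v) := by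
    rw [← Module.End.mul_apply, ← map_mul, h60_uEl_mul_dEl a A h, map_mul, Module.End.mul_apply]
  rw [h1, hv, map_smul, hpr, hpr]
  congr 2
  rw [dotProduct_smul, h60_dot, smul_dotProduct]

end SLN

end Cfsg.Agent.Helper60.SLN
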