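import Mathlib
import Cfsg.Agent.Lib.Helper62.SLN0
import Cfsg.Agent.Lib.Helper60.SLN_S1
import Cfsg.Agent.Lib.Helper81.SLPermChar

/-!
# SLN (S2): all non-zero weight spaces of `U` have the same dimension (helper62's server, S2332)
-/

set_option autoImplicit false

namespace Cfsg.Agent.Helper60.SLN

open Matrix Module Cfsg.Agent.Helper93.U2 Cfsg.Agent.Helper62.SLN

section GRP

variable {F : Type*} [Field F] {κ : Type} [Fintype κ] [DecidableEq κ]

/-- `SL κ` is transitive on non-zero vectors (`|κ| ≥ 2`) -/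
theorem h60_exists_sl_mulVec (hκ : 2 ≤ Fintype.card κ) (w w' : κ → F) (hw : w ≠ 0) (hw' : w' ≠ 0) :
    ∃ A : SpecialLinearGroup κ F, A.1 *ᵥ w = w' := by
  obtain ⟨i0, i1, h01⟩ := Fintype.one_lt_card_iff.1 (by omega : 1 < Fintype.card κ)
  obtain ⟨A1, hA1⟩ := Cfsg.Agent.Helper81.exists_sl_smul_single i0 i1 h01 w hw
  obtain ⟨A2, hA2⟩ := Cfsg.Agent.Helper81.exists_sl_smul_single i0 i1 h01 w' hw'
  refine ⟨A2 * A1⁻¹, ?_⟩
  have h : (A2 * A1⁻¹) • w = w' := by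
    rw [mul_smul, ← hA1, inv_smul_smul, hA2]
  exact h

end GRP

section SLN

variable {F : Type*} [Field F] [Fintype F] [DecidableEq F] {κ : Type} [Fintype κ] [DecidableEq κ]
  {V : Type*} [AddCommGroup V] [Module ℂ V] [FiniteDimensional ℂ V]
  (ψ : AddChar F ℂ) (pr : Pairing (κ → F)) (hpr : ∀ w u, pr.β w u = ψ (w ⬝ᵥ u))
  (ρ : Representation ℂ (SpecialLinearGroup (Unit ⊕ κ) F) V)

include hpr

omit [Fintype F] [DecidableEq F] in
theorem h60_finrank_wt_le (A : SpecialLinearGroup κ F) (w w' : κ → F) (hA : A.1 *ᵥ w = w') :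
    finrank ℂ (wt pr ρ w) ≤ finrank ℂ (wt pr ρ w') := by
  let f : wt pr ρ w →ₗ[ℂ] wt pr ρ w' :=
    (ρ (lEl A)).restrict (fun v hv => by rw [← hA]; exact map_wt_lEl ψ pr hpr ρ A w v hv)
  apply LinearMap.finrank_le_finrank_of_injective (f := f)
  intro x y hxy
  have h1 : ρ (lEl A) x.1 = ρ (lEl A) y.1 := congrArg Subtype.val hxy
  have h2 : ρ (lEl A)⁻¹ (ρ (lEl A) x.1) = ρ (lEl A)⁻¹ (ρ (lEl A) y.1) := by rw [h1]
  rw [← Module.End.mul_apply, ← Module.End.mul_apply, ← map_mul, inv_mul_cancel, map_one] at h2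
  exact Subtype.ext h2

omit [DecidableEq F] in
/-- piece S2 (S1 + G5) -/
theorem finrank_wt_const (hκ : 2 ≤ Fintype.card κ) (w w' : κ → F) (hw : w ≠ 0) (hw' : w' ≠ 0) :
    finrank ℂ (wt pr ρ w) = finrank ℂ (wt pr ρ w') := by
  obtain ⟨A, hA⟩ := h60_exists_sl_mulVec hκ w w' hw hw'
  obtain ⟨B, hB⟩ := h60_exists_sl_mulVec hκ w' w hw' hw
  exact le_antisymm (h60_finrank_wt_le ψ pr hpr ρ A w w' hA) (h60_finrank_wt_le ψ pr hpr ρ B w' w hB)

end SLN

end Cfsg.Agent.Helper60.SLN
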