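import Mathlib
import Cfsg.Agent.Lib.Helper62.SLN0
import Cfsg.Agent.Lib.Helper44.SLN_G6
import Cfsg.Agent.Lib.Helper66.SLN_G1
import Cfsg.Agent.Lib.Helper78.U2R1
import Cfsg.Agent.Lib.Helper78.U2K1

/-!
# SLN (S3): a non-trivial irreducible representation has a non-zero weight of `U`
(helper62's server, S2332)
-/

set_option autoImplicit false

namespace Cfsg.Agent.Helper60.SLN

open Matrix Module Cfsg.Agent.Helper93.U2 Cfsg.Agent.Helper62.SLN

section SLN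

variable {F : Type*} [Field F] [Fintype F] [DecidableEq F] {κ : Type} [Fintype κ] [DecidableEq κ]
  {V : Type*} [AddCommGroup V] [Module ℂ V] [FiniteDimensional ℂ V]
  (ψ : AddChar F ℂ) (pr : Pairing (κ → F)) (hpr : ∀ w u, pr.β w u = ψ (w ⬝ᵥ u))
  (ρ : Representation ℂ (SpecialLinearGroup (Unit ⊕ κ) F) V)

include hpr

omit [DecidableEq F] [FiniteDimensional ℂ V] in
/-- piece S3 (U2-R1 `trivial_of_wsp_bot` + G1 + G6 + U2-K1 `exists_ne_one_of_irreducible`) -/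
theorem exists_wt_ne_bot {k : ℕ} (ρ : Representation ℂ (SpecialLinearGroup (Unit ⊕ κ) F) (Fin k → ℂ))
    (hρ : ρ.IsIrreducible) (hk : 2 ≤ k) (hκ : 1 ≤ Fintype.card κ) :
    ∃ w : κ → F, w ≠ 0 ∧ wt pr ρ w ≠ ⊥ := by
  by_contra hcon
  push Not at hcon
  have htriv : ∀ b : κ → F, ρ (uEl b) = 1 :=
    Cfsg.Agent.Helper78.U2.trivial_of_wsp_bot pr uEl ρ Cfsg.Agent.Helper66.SLN.uEl_add hcon
  have hle : Subgroup.normalClosure
      (Set.range (uEl : (κ → F) → SpecialLinearGroup (Unit ⊕ κ) F)) ≤ ρ.ker := by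
    apply Subgroup.normalClosure_le_normal
    rintro _ ⟨b, rfl⟩
    exact (MonoidHom.mem_ker).2 (htriv b)
  rw [Cfsg.Agent.Helper44.SLN.normalClosure_uEl hκ] at hle
  obtain ⟨g, hg⟩ := Cfsg.Agent.Helper78.U2.exists_ne_one_of_irreducible ρ hρ hk
  exact hg ((MonoidHom.mem_ker).1 (hle (Subgroup.mem_top g)))

end SLN

end Cfsg.Agent.Helper60.SLN
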