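import Mathlib
import Cfsg.Prelude.Def_Solvable

set_option autoImplicit false
set_option linter.style.haveILetI false
set_option linter.unusedVariables false

namespace Cfsg.Agent.Helper60

open Pointwise

/-- All prime divisors of `n` lie in `A`. -/
def PiNum (A : Set ℕ) (n : ℕ) : Prop := ∀ r : ℕ, r.Prime → r ∣ n → r ∈ A

theorem PiNum.one (A : Set ℕ) : PiNum A 1 := by
  intro r hr hd
  exact absurd (Nat.dvd_one.mp hd) hr.ne_one

theorem PiNum.of_dvd {A : Set ℕ} {m n : ℕ} (h : PiNum A n) (hd : m ∣ n) : PiNum A m :=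
  fun r hr hrm => h r hr (hrm.trans hd)

theorem PiNum.mul {A : Set ℕ} {m n : ℕ} (hm : PiNum A m) (hn : PiNum A n) : PiNum A (m * n) := by
  intro r hr hd
  rcases (Nat.Prime.dvd_mul hr).mp hd with h | h
  · exact hm r hr h
  · exact hn r hr h

theorem PiNum.coprime {A : Set ℕ} {m n : ℕ} (hm : PiNum A m) (hn : PiNum Aᶜ n) :
    m.Coprime n :=
  Nat.coprime_of_dvd (fun k hk hkm hkn => hn k hk hkn (hm k hk hkm))

theorem PiNum.prime_pow {A : Set ℕ} {s a : ℕ} (hs : s.Prime) (hsA : s ∈ A) : PiNum A (s ^ a) := by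
  intro r hr hd
  have := (Nat.prime_dvd_prime_iff_eq hr hs).mp (hr.dvd_of_dvd_pow hd)
  rw [this]; exact hsA

/-- No element has order `a * b` with `a ∈ A`, `b ∉ A` primes. -/
def NoEdge (A : Set ℕ) (X : Type*) [Group X] : Prop :=
  ∀ a ∈ A, ∀ b ∉ A, a.Prime → b.Prime → ¬ ∃ g : X, orderOf g = a * b

theorem NoEdge.compl {A : Set ℕ} {X : Type*} [Group X] (h : NoEdge A X) : NoEdge Aᶜ X := by
  intro a ha b hb hap hbp ⟨g, hg⟩
  have hbA : b ∈ A := by
    by_contra hcon; exact hb hcon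
  exact h b hbA a ha hbp hap ⟨g, by rw [hg, mul_comm]⟩

theorem NoEdge.subgroup {A : Set ℕ} {X : Type*} [Group X] (h : NoEdge A X) (K : Subgroup X) :
    NoEdge A ↥K := by
  intro a ha b hb hap hbp ⟨g, hg⟩
  exact h a ha b hb hap hbp ⟨(g : X), by rw [Subgroup.orderOf_coe, hg]⟩

theorem NoEdge.quotient {A : Set ℕ} {X : Type*} [Group X] [Finite X] (h : NoEdge A X)
    (N : Subgroup X) [N.Normal] : NoEdge A (X ⧸ N) := by
  intro a ha b hb hap hbp ⟨g, hg⟩
  obtain ⟨x, rfl⟩ := QuotientGroup.mk'_surjective N g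
  have hd : a * b ∣ orderOf x := hg ▸ orderOf_map_dvd (QuotientGroup.mk' N) x
  exact h a ha b hb hap hbp ⟨x ^ (orderOf x / (a * b)),
    orderOf_pow_orderOf_div (orderOf_pos x).ne' hd⟩

theorem NoEdge.not_commute {A : Set ℕ} {X : Type*} [Group X] [Finite X] (h : NoEdge A X)
    {x y : X} (hx : x ≠ 1) (hy : y ≠ 1) (hxA : PiNum A (orderOf x)) (hyA : PiNum Aᶜ (orderOf y))
    (hc : Commute x y) : False := by
  have hox : orderOf x ≠ 1 := fun h1 => hx (orderOf_eq_one_iff.mp h1)
  have hoy : orderOf y ≠ 1 := fun h1 => hy (orderOf_eq_one_iff.mp h1)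
  set r := (orderOf x).minFac with hr
  set s := (orderOf y).minFac with hs
  have hrp : r.Prime := Nat.minFac_prime hox
  have hsp : s.Prime := Nat.minFac_prime hoy
  have hrd : r ∣ orderOf x := Nat.minFac_dvd _
  have hsd : s ∣ orderOf y := Nat.minFac_dvd _
  have hrA : r ∈ A := hxA r hrp hrd
  have hsA : s ∉ A := hyA s hsp hsd
  have h1 : orderOf (x ^ (orderOf x / r)) = r :=
    orderOf_pow_orderOf_div (orderOf_pos x).ne' hrd
  have h2 : orderOf (y ^ (orderOf y / s)) = s :=
    orderOf_pow_orderOf_div (orderOf_pos y).ne' hsd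
  have hc' : Commute (x ^ (orderOf x / r)) (y ^ (orderOf y / s)) := hc.pow_pow _ _
  have hne : r ≠ s := fun e => hsA (e ▸ hrA)
  have hcop : (orderOf (x ^ (orderOf x / r))).Coprime (orderOf (y ^ (orderOf y / s))) := by
    rw [h1, h2]; exact (Nat.coprime_primes hrp hsp).mpr hne
  have h3 := hc'.orderOf_mul_eq_mul_orderOf_of_coprime hcop
  rw [h1, h2] at h3
  exact h r hrA s hsA hrp hsp ⟨_, h3⟩

/-- Internal characterization of Frobenius groups: a normal subgroup `K` with a complement `C`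
acting on it without nontrivial fixed points. -/
theorem frobenius_of_fpf {X : Type*} [Group X] [Finite X] (K C : Subgroup X) [hKn : K.Normal]
    (hcompl : Subgroup.IsComplement' K C) (hK : K ≠ ⊥) (hC : C ≠ ⊥)
    (hfpf : ∀ c ∈ C, c ≠ 1 → ∀ k ∈ K, c * k = k * c → k = 1) :
    Cfsg.IsFrobeniusComplement C ∧ Cfsg.frobeniusKernel C = (K : Set X) := by
  have hdisj : ∀ x, x ∈ K → x ∈ C → x = 1 := by
    intro x hxK hxC
    have := hcompl.disjoint.eq_bot
    have hx : x ∈ K ⊓ C := ⟨hxK, hxC⟩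
    rw [this] at hx
    exact Subgroup.mem_bot.mp hx
  have hprod : ∀ x : X, ∃ k ∈ K, ∃ c ∈ C, x = k * c := by
    intro x
    obtain ⟨⟨k, c⟩, hkc⟩ := hcompl.2 x
    exact ⟨k, k.2, c, c.2, hkc.symm⟩
  -- conjugates by elements of K
  have hconjK : ∀ k ∈ K, k ≠ 1 → ∀ c ∈ C, k * c * k⁻¹ ∈ C → c = 1 := by
    intro k hk hk1 c hc hmem
    -- k c k⁻¹ c⁻¹ ∈ K ∩ C
    have h1 : k * c * k⁻¹ * c⁻¹ ∈ K := by
      have : k * c * k⁻¹ * c⁻¹ = k * (c * k⁻¹ * c⁻¹) := by group
      rw [this]
      exact K.mul_mem hk (hKn.conj_mem _ (K.inv_mem hk) c)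
    have h2 : k * c * k⁻¹ * c⁻¹ ∈ C := C.mul_mem hmem (C.inv_mem hc)
    have h3 := hdisj _ h1 h2
    have h4 : c * k = k * c := by
      have : k * c * k⁻¹ = c := by
        have := congrArg (fun t => t * c) h3
        simpa using this
      calc c * k = (k * c * k⁻¹) * k := by rw [this]
        _ = k * c := by group
    by_contra hc1
    exact hk1 (hfpf c hc hc1 k hk h4)
  refine ⟨⟨hC, ?_, ?_⟩, ?_⟩
  · intro htop
    obtain ⟨k, hk1⟩ := (Subgroup.ne_bot_iff_exists_ne_one).mp hK
    apply hk1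
    exact Subtype.ext (hdisj k k.2 (htop ▸ Subgroup.mem_top _))
  · intro g hg
    rw [eq_bot_iff]
    intro x hx
    rw [Subgroup.mem_bot]
    obtain ⟨hxC, hxg⟩ := Subgroup.mem_inf.mp hx
    obtain ⟨k, hk, c0, hc0, rfl⟩ := hprod g
    have hk1 : k ≠ 1 := by
      rintro rfl
      rw [one_mul] at hg
      exact hg hc0
    rw [Subgroup.mem_pointwise_smul_iff_inv_smul_mem] at hxg
    -- (k c0)⁻¹ x (k c0) ∈ C, so k⁻¹ x k ∈ C
    have h1 : (k * c0)⁻¹ * x * (k * c0) ∈ C := by
      have : (MulAut.conj (k * c0))⁻¹ • x = (k * c0)⁻¹ * x * (k * c0) := by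
        rw [← map_inv, MulAut.smul_def, MulAut.conj_apply, inv_inv]
      rw [← this]; exact hxg
    have h2 : k⁻¹ * x * k ∈ C := by
      have : k⁻¹ * x * k = c0 * ((k * c0)⁻¹ * x * (k * c0)) * c0⁻¹ := by group
      rw [this]
      exact C.mul_mem (C.mul_mem hc0 h1) (C.inv_mem hc0)
    have h3 := hconjK k hk hk1 (k⁻¹ * x * k) h2 (by
      have : k * (k⁻¹ * x * k) * k⁻¹ = x := by group
      rw [this]; exact hxC)
    have : x = k * (k⁻¹ * x * k) * k⁻¹ := by group
    rw [this, h3]; group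
  · ext x
    simp only [Cfsg.frobeniusKernel, Set.mem_ofPred_eq, SetLike.mem_coe]
    constructor
    · intro hx
      by_contra hxK
      rcases hx with rfl | hx
      · exact hxK K.one_mem
      · obtain ⟨k, hk, c, hc, rfl⟩ := hprod x
        have hc1 : c ≠ 1 := by
          rintro rfl
          rw [mul_one] at hxK
          exact hxK hk
        -- the map k' ↦ k' c k'⁻¹ c⁻¹ on K is injective, hence surjective
        let φ : K → K := fun k' => ⟨(k' : X) * c * (k' : X)⁻¹ * c⁻¹, by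
          have : (k' : X) * c * (k' : X)⁻¹ * c⁻¹ = (k' : X) * (c * (k' : X)⁻¹ * c⁻¹) := by group
          rw [this]
          exact K.mul_mem k'.2 (hKn.conj_mem _ (K.inv_mem k'.2) c)⟩
        have hinj : Function.Injective φ := by
          intro k1 k2 h12
          have h12' : (k1 : X) * c * (k1 : X)⁻¹ * c⁻¹ = (k2 : X) * c * (k2 : X)⁻¹ * c⁻¹ :=
            congrArg Subtype.val h12
          have h5 : (k1 : X) * c * (k1 : X)⁻¹ = (k2 : X) * c * (k2 : X)⁻¹ :=
            mul_right_cancel h12'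
          have h6 : c * ((k2 : X)⁻¹ * k1) = ((k2 : X)⁻¹ * k1) * c := by
            have : c = (k2 : X)⁻¹ * ((k1 : X) * c * (k1 : X)⁻¹) * k2 := by rw [h5]; group
            calc c * ((k2 : X)⁻¹ * k1)
                = ((k2 : X)⁻¹ * ((k1 : X) * c * (k1 : X)⁻¹) * k2) * ((k2 : X)⁻¹ * k1) := by
                  rw [← this]
              _ = ((k2 : X)⁻¹ * k1) * c := by group
          have h7 := hfpf c hc hc1 ((k2 : X)⁻¹ * k1) (K.mul_mem (K.inv_mem k2.2) k1.2) h6
          have : (k1 : X) = k2 := by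
            have := congrArg (fun t => (k2 : X) * t) h7
            simpa using this
          exact Subtype.ext this
        have hsurj : Function.Surjective φ := Finite.surjective_of_injective hinj
        obtain ⟨k', hk'⟩ := hsurj ⟨k, hk⟩
        have hk'' : (k' : X) * c * (k' : X)⁻¹ * c⁻¹ = k := congrArg Subtype.val hk'
        apply hx (k' : X)
        rw [Subgroup.mem_pointwise_smul_iff_inv_smul_mem]
        have : (MulAut.conj (k' : X))⁻¹ • (k * c) = (k' : X)⁻¹ * (k * c) * k' := by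
          rw [← map_inv, MulAut.smul_def, MulAut.conj_apply, inv_inv]
        rw [this, ← hk'']
        have : (k' : X)⁻¹ * ((k' : X) * c * (k' : X)⁻¹ * c⁻¹ * c) * k' = c := by group
        rw [this]; exact hc
    · intro hxK
      by_cases hx1 : x = 1
      · exact Or.inl hx1
      · right
        intro g hxg
        rw [Subgroup.mem_pointwise_smul_iff_inv_smul_mem] at hxg
        have h1 : (MulAut.conj g)⁻¹ • x = g⁻¹ * x * g := by
          rw [← map_inv, MulAut.smul_def, MulAut.conj_apply, inv_inv]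
        rw [h1] at hxg
        have h2 : g⁻¹ * x * g ∈ K := by
          have := hKn.conj_mem x hxK g⁻¹
          rwa [inv_inv] at this
        have h3 := hdisj _ h2 hxg
        apply hx1
        have : x = g * (g⁻¹ * x * g) * g⁻¹ := by group
        rw [this, h3]; group

end Cfsg.Agent.Helper60
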