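import Mathlib
import Cfsg.Agent.Lib.Helper32.C3Defs
import Cfsg.Agent.Lib.Helper48.SympRep

/-!
# C3 server piece S2b (`card_le_of_pairing`), for helper32 (S4415)
-/

set_option autoImplicit false
set_option linter.unusedVariables false
set_option linter.style.haveILetI false

namespace Cfsg.Agent.Helper60.C3

universe u v

/-- **S2b.** A pairing count. -/
theorem card_le_of_pairing {G : Type u} [Group G] (T N : Subgroup G) [Finite T] (z : G)
    (hNT : N ≤ T) (hzN : z ∈ N) (hz1 : z ≠ 1) (hz2 : z * z = 1) (hzc : ∀ t ∈ T, t * z = z * t)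
    (hsq : ∀ n ∈ N, n * n = 1 ∨ n * n = z)
    (hcomm : ∀ t ∈ T, ∀ n ∈ N, t * n = n * t ∨ t * n = z * (n * t))
    (hcen : ∀ t ∈ T, (∀ n ∈ N, t * n = n * t) → t = 1 ∨ t = z) :
    Nat.card ↥T ≤ Nat.card ↥N := by
  classical
  haveI : Finite N := Finite.of_injective _ (Subgroup.inclusion_injective hNT)
  set s : G → G → ℚ := fun t n => if t * n = n * t then 1 else -1 with hs
  have hs1 : ∀ t m : G, t * m = m * t → s t m = 1 := fun t m h => if_pos h
  have hs2 : ∀ t m : G, t * m = z * (m * t) → s t m = -1 := by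
    intro t m h
    apply if_neg
    intro h'
    apply hz1
    have : z * (m * t) = 1 * (m * t) := by rw [one_mul, ← h, h']
    exact mul_right_cancel this
  -- multiplicativity in the second variable
  have hmul2 : ∀ t ∈ T, ∀ n ∈ N, ∀ n' ∈ N, s t (n * n') = s t n * s t n' := by
    intro t ht n hn n' hn'
    have hnz : n * z = z * n := hzc n (hNT hn)
    rcases hcomm t ht n hn with h1 | h1 <;> rcases hcomm t ht n' hn' with h2 | h2
    · have h3 : t * (n * n') = n * n' * t := by
        rw [← mul_assoc, h1, mul_assoc, h2, mul_assoc]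
      rw [hs1 _ _ h1, hs1 _ _ h2, hs1 _ _ h3]; norm_num
    · have h3 : t * (n * n') = z * (n * n' * t) := by
        rw [← mul_assoc, h1, mul_assoc, h2, ← mul_assoc n z, hnz]; simp only [mul_assoc]
      rw [hs1 _ _ h1, hs2 _ _ h2, hs2 _ _ h3]; norm_num
    · have h3 : t * (n * n') = z * (n * n' * t) := by
        rw [← mul_assoc, h1]; simp only [mul_assoc]; rw [h2]
      rw [hs2 _ _ h1, hs1 _ _ h2, hs2 _ _ h3]; norm_num
    · have h3 : t * (n * n') = n * n' * t := by
        rw [← mul_assoc, h1]; simp only [mul_assoc]; rw [h2]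
        rw [← mul_assoc n z, hnz]; simp only [mul_assoc]; rw [← mul_assoc z z, hz2, one_mul]
      rw [hs2 _ _ h1, hs2 _ _ h2, hs1 _ _ h3]; norm_num
  -- multiplicativity in the first variable
  have hmul1 : ∀ t ∈ T, ∀ t' ∈ T, ∀ n ∈ N, s (t * t') n = s t n * s t' n := by
    intro t ht t' ht' n hn
    have htz : t * z = z * t := hzc t ht
    rcases hcomm t ht n hn with h1 | h1 <;> rcases hcomm t' ht' n hn with h2 | h2
    · have h3 : t * t' * n = n * (t * t') := by
        rw [mul_assoc, h2, ← mul_assoc, h1, mul_assoc]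
      rw [hs1 _ _ h1, hs1 _ _ h2, hs1 _ _ h3]; norm_num
    · have h3 : t * t' * n = z * (n * (t * t')) := by
        rw [mul_assoc, h2, ← mul_assoc, htz, mul_assoc, ← mul_assoc t n, h1]; simp only [mul_assoc]
      rw [hs1 _ _ h1, hs2 _ _ h2, hs2 _ _ h3]; norm_num
    · have h3 : t * t' * n = z * (n * (t * t')) := by
        rw [mul_assoc, h2, ← mul_assoc, h1]; simp only [mul_assoc]
      rw [hs2 _ _ h1, hs1 _ _ h2, hs2 _ _ h3]; norm_num
    · have h3 : t * t' * n = n * (t * t') := by
        rw [mul_assoc, h2, ← mul_assoc, htz, mul_assoc, ← mul_assoc t n, h1]; simp only [mul_assoc]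
        rw [← mul_assoc z z, hz2, one_mul]
      rw [hs2 _ _ h1, hs2 _ _ h2, hs1 _ _ h3]; norm_num
  -- the central subgroup `Z = {1, z}` of `N`
  let zN : N := ⟨z, hzN⟩
  have hzNc : ∀ g : N, g * zN = zN * g := fun g => Subtype.ext (hzc g (hNT g.2))
  let Z : Subgroup N := Subgroup.zpowers zN
  haveI hZn : Z.Normal := ⟨by
    intro x hx g
    obtain ⟨k, rfl⟩ := Subgroup.mem_zpowers_iff.mp hx
    have hc : Commute g (zN ^ k) := (show Commute g zN from hzNc g).zpow_right k
    have : g * zN ^ k * g⁻¹ = zN ^ k := by rw [hc.eq, mul_inv_cancel_right]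
    rw [this]; exact hx⟩
  -- the homomorphisms
  let Φ : T → (N →* ℚ) := fun t =>
    { toFun := fun n => s t n
      map_one' := hs1 _ _ (by simp)
      map_mul' := fun a b => hmul2 t t.2 a a.2 b b.2 }
  have hΦz : ∀ t : T, Z ≤ (Φ t).ker := by
    intro t
    show Subgroup.zpowers zN ≤ _
    rw [Subgroup.zpowers_le, MonoidHom.mem_ker]
    exact hs1 _ _ (hzc t t.2)
  let Ψ : T → ((N ⧸ Z) →* ℚ) := fun t => QuotientGroup.lift Z (Φ t) (hΦz t)
  have hΨ : ∀ t t' : T, Ψ t = Ψ t' → t' = t ∨ t' = t * ⟨z, hNT hzN⟩ := by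
    intro t t' h
    have h1 : ∀ n : N, s t n = s t' n := by
      intro n
      have := DFunLike.congr_fun h (QuotientGroup.mk n)
      simpa [Ψ, Φ] using this
    have h2 : ∀ n ∈ N, ((t : G)⁻¹ * t') * n = n * ((t : G)⁻¹ * t') := by
      intro n hn
      have e : s ((t : G)⁻¹ * t') n = 1 := by
        rw [hmul1 _ (T.inv_mem t.2) _ t'.2 n hn, ← h1 ⟨n, hn⟩,
          ← hmul1 _ (T.inv_mem t.2) _ t.2 n hn, inv_mul_cancel]
        exact hs1 _ _ (by simp)
      by_contra hne
      have : s ((t : G)⁻¹ * t') n = -1 := if_neg hne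
      rw [this] at e; norm_num at e
    rcases hcen _ (T.mul_mem (T.inv_mem t.2) t'.2) h2 with h3 | h3
    · left; apply Subtype.ext; exact (inv_mul_eq_one.mp h3).symm
    · right; apply Subtype.ext
      show (t' : G) = t * z
      rw [← h3, mul_inv_cancel_left]
  -- counting
  haveI : Finite ((N ⧸ Z) →* ℚ) := (linearIndependent_monoidHom (N ⧸ Z) ℚ).finite
  have hcard1 : Nat.card ((N ⧸ Z) →* ℚ) ≤ Nat.card (N ⧸ Z) := by
    haveI := Fintype.ofFinite ((N ⧸ Z) →* ℚ)
    haveI := Fintype.ofFinite (N ⧸ Z)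
    have := (linearIndependent_monoidHom (N ⧸ Z) ℚ).fintype_card_le_finrank
    rw [Module.finrank_fintype_fun_eq_card] at this
    simpa [Nat.card_eq_fintype_card] using this
  have hcard2 : Nat.card T ≤ 2 * Nat.card ((N ⧸ Z) →* ℚ) := by
    haveI := Fintype.ofFinite T
    haveI := Fintype.ofFinite ((N ⧸ Z) →* ℚ)
    rw [Nat.card_eq_fintype_card, Nat.card_eq_fintype_card]
    calc Fintype.card T = (Finset.univ : Finset T).card := Finset.card_univ.symm
      _ ≤ 2 * ((Finset.univ : Finset T).image Ψ).card := by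
          apply Finset.card_le_mul_card_image
          intro a ha
          obtain ⟨t₀, -, rfl⟩ := Finset.mem_image.mp ha
          calc _ ≤ ({t₀, t₀ * ⟨z, hNT hzN⟩} : Finset T).card := by
                apply Finset.card_le_card
                intro x hx
                rw [Finset.mem_filter] at hx
                rcases hΨ t₀ x hx.2.symm with h | h
                · simp [h]
                · simp [h]
            _ ≤ 2 := Finset.card_le_two
      _ ≤ 2 * Fintype.card _ := by
          apply Nat.mul_le_mul_left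
          exact Finset.card_le_univ _
  have hcard3 : Nat.card N = Nat.card (N ⧸ Z) * 2 := by
    rw [Subgroup.card_eq_card_quotient_mul_card_subgroup Z]
    congr 1
    show Nat.card (Subgroup.zpowers zN) = 2
    rw [Nat.card_zpowers]
    apply orderOf_eq_prime
    · apply Subtype.ext; simp [zN, pow_two, hz2]
    · intro h; apply hz1; exact congrArg Subtype.val h
  omega

end Cfsg.Agent.Helper60.C3
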