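import Mathlib
import Cfsg.Agent.Lib.Helper32.C3Defs
import Cfsg.Agent.Lib.Helper48.SympRep

/-!
# C3 server piece S3c (`three_mul_card_orbits`), for helper32 (S4415)
-/

set_option autoImplicit false
set_option linter.unusedVariables false
set_option linter.style.haveILetI false

namespace Cfsg.Agent.Helper60.C3

universe u v

/-- **S3c.** Orbit count for a permutation of order dividing 3. -/
theorem three_mul_card_orbits {α : Type u} [Finite α] (σ : Equiv.Perm α) (hσ : σ ^ 3 = 1) :
    3 * Nat.card (MulAction.orbitRel.Quotient (Subgroup.zpowers σ) α) =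
      Nat.card α + 2 * Nat.card {x : α // σ x = x} := by
  classical
  haveI := Fintype.ofFinite α
  haveI : Fintype (Subgroup.zpowers σ) := Fintype.ofFinite _
  haveI : Fintype (Quotient (MulAction.orbitRel (Subgroup.zpowers σ) α)) := Fintype.ofFinite _
  have hB := MulAction.sum_card_fixedBy_eq_card_orbits_mul_card_group (Subgroup.zpowers σ) α
  simp only [Fintype.card_eq_nat_card] at hB
  have hH : Nat.card (Subgroup.zpowers σ) = orderOf σ := Nat.card_zpowers σ
  have hsum : ∑ a : Subgroup.zpowers σ, Nat.card (MulAction.fixedBy α a) =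
      ∑ i ∈ Finset.range (orderOf σ), Nat.card {x : α // (σ ^ i) x = x} := by
    rw [← Fin.sum_univ_eq_sum_range (fun i => Nat.card {x : α // (σ ^ i) x = x}),
      ← Equiv.sum_comp (finEquivZPowers (isOfFinOrder_of_finite σ))]
    apply Finset.sum_congr rfl
    intro i _
    apply Nat.card_congr
    exact Equiv.subtypeEquivRight (fun x => by
      rw [MulAction.mem_fixedBy, finEquivZPowers_apply]; rfl)
  rw [hsum, hH] at hB
  have hg0 : Nat.card {x : α // (σ ^ 0) x = x} = Nat.card α :=
    Nat.card_congr (Equiv.subtypeUnivEquiv (fun x => by simp))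
  have hdvd : orderOf σ ∣ 3 := orderOf_dvd_of_pow_eq_one hσ
  rcases (Nat.dvd_prime Nat.prime_three).mp hdvd with h1 | h3
  · rw [h1] at hB
    have hσ1 : σ = 1 := orderOf_eq_one_iff.mp h1
    have hf : Nat.card {x : α // σ x = x} = Nat.card α :=
      Nat.card_congr (Equiv.subtypeUnivEquiv (fun x => by simp [hσ1]))
    rw [Finset.sum_range_one, hg0] at hB
    show 3 * Nat.card (Quotient (MulAction.orbitRel (Subgroup.zpowers σ) α)) = _
    omega
  · rw [h3] at hB
    have hg1 : Nat.card {x : α // (σ ^ 1) x = x} = Nat.card {x : α // σ x = x} := by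
      rw [pow_one]
    have hg2 : Nat.card {x : α // (σ ^ 2) x = x} = Nat.card {x : α // σ x = x} := by
      apply Nat.card_congr
      refine Equiv.subtypeEquivRight (fun x => ?_)
      rw [pow_two, Equiv.Perm.mul_apply]
      constructor
      · intro h
        have h3' : (σ ^ 3) x = x := by rw [hσ]; rfl
        rw [pow_succ, pow_two, Equiv.Perm.mul_apply, Equiv.Perm.mul_apply] at h3'
        -- h3' : σ (σ (σ x)) = x
        have : σ (σ (σ x)) = σ x := by rw [h]
        rw [← this, h3']
      · intro h
        rw [h, h]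
    rw [Finset.sum_range_succ, Finset.sum_range_succ, Finset.sum_range_one, hg0, hg1, hg2] at hB
    show 3 * Nat.card (Quotient (MulAction.orbitRel (Subgroup.zpowers σ) α)) = _
    omega

end Cfsg.Agent.Helper60.C3
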