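import Mathlib
import Cfsg.Agent.Lib.Helper32.C3Defs
import Cfsg.Agent.Lib.Helper48.SympRep

/-!
# C3 server piece S3d (`count_arith`), for helper32 (S4415)
-/

set_option autoImplicit false

namespace Cfsg.Agent.Helper60.C3

universe u v

theorem count_arith (n m c e o : ℕ) (hn : 3 ≤ n) (hm : 1 ≤ m) (hc : c < m) (he : 1 ≤ e)
    (h1 : 4 ^ m * e ≤ n * n) (h2 : (n - 2) ^ 2 + 2 ≤ o * e) (h3 : 3 * o = 4 ^ m + 2 * 4 ^ c) :
    m = 1 ∨ (m = 2 ∧ n = 4) := by
  have hM : 4 * 4 ^ c ≤ 4 ^ m := by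
    calc 4 * 4 ^ c = 4 ^ (c + 1) := by ring
      _ ≤ 4 ^ m := Nat.pow_le_pow_right (by norm_num) hc
  have h2o : 2 * o ≤ 4 ^ m := by omega
  have h4 : 2 * (o * e) ≤ n * n := by
    calc 2 * (o * e) = (2 * o) * e := by ring
      _ ≤ 4 ^ m * e := Nat.mul_le_mul_right _ h2o
      _ ≤ n * n := h1
  have hn6 : n ≤ 6 := by
    by_contra hcon
    push Not at hcon
    obtain ⟨k, rfl⟩ : ∃ k, n = k + 2 := ⟨n - 2, by omega⟩
    simp only [Nat.add_sub_cancel] at h2
    nlinarith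
  have hMle : 4 ^ m ≤ 36 := by
    calc 4 ^ m ≤ 4 ^ m * e := Nat.le_mul_of_pos_right _ he
      _ ≤ n * n := h1
      _ ≤ 6 * 6 := Nat.mul_le_mul hn6 hn6
  have hm2 : m ≤ 2 := by
    by_contra hcon
    push Not at hcon
    have : 4 ^ 3 ≤ 4 ^ m := Nat.pow_le_pow_right (by norm_num) hcon
    omega
  interval_cases m
  · left; rfl
  · right
    refine ⟨rfl, ?_⟩
    have he2 : e ≤ 2 := by
      have : 16 * e ≤ 36 := by
        calc 16 * e = 4 ^ 2 * e := by norm_num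
          _ ≤ n * n := h1
          _ ≤ 6 * 6 := Nat.mul_le_mul hn6 hn6
      omega
    have ho8 : o ≤ 8 := by
      have : 4 ^ c ≤ 4 := by
        calc 4 ^ c ≤ 4 ^ 1 := Nat.pow_le_pow_right (by norm_num) (by omega)
          _ = 4 := by norm_num
      omega
    interval_cases n <;> interval_cases e <;> simp at h1 h2 <;> omega

end Cfsg.Agent.Helper60.C3
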