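import Mathlib

/-!
# ONS server piece (FIX) `centralizes_of_normalizes`, for helper37 (S1699)
-/

set_option autoImplicit false
set_option linter.unusedVariables false
set_option linter.style.haveILetI false

namespace Cfsg.Agent.Helper60.ONS
universe u

/-- (FIX) -/
theorem centralizes_of_normalizes
    (hnum : ∀ m c : ℕ, (m ∣ 8 ∨ m ∣ 9 ∨ m ∣ 5 ∨ m ∣ 11 ∨ m ∣ 31) → c ∣ m → 0 < c → m % 19 = c % 19 → c = m)
    {G : Type u} [Group G] (R : Subgroup G) [Finite R] (s : G) (hs : s ^ 19 = 1)
    (hR : ∀ x ∈ R, s * x * s⁻¹ ∈ R)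
    (hcard : Nat.card R ∣ 8 ∨ Nat.card R ∣ 9 ∨ Nat.card R ∣ 5 ∨ Nat.card R ∣ 11 ∨ Nat.card R ∣ 31) :
    ∀ x ∈ R, s * x * s⁻¹ = x := by
  classical
  haveI := Fintype.ofFinite R
  let f : Function.End ↥R := fun x => ⟨s * x * s⁻¹, hR x x.2⟩
  have hpow : ∀ n : ℕ, ∀ x : R, ((f ^ n) x : G) = s ^ n * x * (s ^ n)⁻¹ := by
    intro n
    induction n with
    | zero => intro x; simp only [pow_zero, one_mul, inv_one, mul_one]; rfl
    | succ n ih =>
      intro x
      rw [pow_succ]
      show ((f ^ n) (f x) : G) = _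
      rw [ih]
      show s ^ n * (s * x * s⁻¹) * (s ^ n)⁻¹ = s ^ (n + 1) * x * (s ^ (n + 1))⁻¹
      rw [pow_succ]; group
  have hf19 : f ^ 19 ^ 1 = 1 := by
    rw [pow_one]
    funext x
    apply Subtype.ext
    rw [hpow, hs]; simp only [one_mul, inv_one, mul_one]; rfl
  haveI : Fact (Nat.Prime 19) := ⟨by norm_num⟩
  have hmod := Equiv.Perm.card_fixedPoints_modEq (p := 19) (n := 1) hf19
  let C : Subgroup ↥R :=
    { carrier := {x | s * (x : G) * s⁻¹ = x}
      mul_mem' := by
        intro a b ha hb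
        show s * ((a * b : R) : G) * s⁻¹ = ((a * b : R) : G)
        have ha' : s * (a : G) * s⁻¹ = a := ha
        have hb' : s * (b : G) * s⁻¹ = b := hb
        rw [Subgroup.coe_mul]
        calc s * ((a : G) * b) * s⁻¹ = (s * a * s⁻¹) * (s * b * s⁻¹) := by group
          _ = a * b := by rw [ha', hb']
      one_mem' := by
        show s * ((1 : R) : G) * s⁻¹ = ((1 : R) : G)
        simp
      inv_mem' := by
        intro a ha
        show s * ((a⁻¹ : R) : G) * s⁻¹ = ((a⁻¹ : R) : G)
        have ha' : s * (a : G) * s⁻¹ = a := ha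
        rw [Subgroup.coe_inv]
        calc s * (a : G)⁻¹ * s⁻¹ = (s * a * s⁻¹)⁻¹ := by group
          _ = (a : G)⁻¹ := by rw [ha'] }
  have hCfix : Fintype.card (Function.fixedPoints f) = Nat.card C := by
    rw [← Nat.card_eq_fintype_card]
    apply Nat.card_congr
    exact Equiv.subtypeEquivRight (fun x => by
      show f x = x ↔ s * (x : G) * s⁻¹ = x
      constructor
      · intro h; exact congrArg Subtype.val h
      · intro h; exact Subtype.ext h)
  have hCdvd : Nat.card C ∣ Nat.card R := Subgroup.card_subgroup_dvd_card C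
  have hCpos : 0 < Nat.card C := Nat.card_pos
  have hEq : Nat.card C = Nat.card R := by
    apply hnum (Nat.card R) (Nat.card C) hcard hCdvd hCpos
    rw [← hCfix, Nat.card_eq_fintype_card]
    exact hmod
  have hCtop : C = ⊤ := Subgroup.eq_top_of_card_eq C hEq
  intro x hx
  have : (⟨x, hx⟩ : R) ∈ C := by rw [hCtop]; trivial
  exact this

end Cfsg.Agent.Helper60.ONS
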