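import Mathlib
import Cfsg.Agent.Lib.Helper55.O2520Defs

/-!
# O2520 server (helper55, S0984), helper40's split of (S3C), piece (K3): generic fibre count
-/

set_option autoImplicit false

namespace Cfsg.Agent.Helper60.O2520

open Cfsg Cfsg.Agent.Helper55.O2520
open scoped Classical

universe u

theorem card_family {G : Type u} [Group G] [Finite G] (y : G) (W : Finset G) (N : ℕ)
    (hy : y ^ N = y) (hW : ∀ v ∈ W, v ^ N = 1 ∧ v * y = y * v) :
    Nat.card G * W.card ≤ Nat.card (Subgroup.centralizer ({y} : Set G)) *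
      Nat.card {z : G | ∃ g : G, ∃ v ∈ W, z = g * (y * v) * g⁻¹} := by
  haveI : Fintype G := Fintype.ofFinite G
  set f : G × G → G := fun p => p.1 * (y * p.2) * p.1⁻¹ with hf
  set s : Finset (G × G) := Finset.univ ×ˢ W with hs
  have hpow : ∀ g v, v ∈ W → (g * (y * v) * g⁻¹) ^ N = g * y * g⁻¹ := by
    intro g v hv
    obtain ⟨h1, h2⟩ := hW v hv
    have hc : Commute y v := h2.symm
    rw [conj_pow, hc.mul_pow, hy, h1, mul_one]
  have hfib : ∀ a ∈ s.image f,
      (s.filter fun x => f x = a).card ≤ Nat.card (Subgroup.centralizer ({y} : Set G)) := by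
    intro a ha
    obtain ⟨⟨g₀, v₀⟩, hp0, rfl⟩ := Finset.mem_image.mp ha
    have hv0 : v₀ ∈ W := (Finset.mem_product.mp hp0).2
    set F := s.filter fun x => f x = f (g₀, v₀) with hF
    have hcard : F.card = Nat.card ↥F := by rw [Nat.card_eq_fintype_card, Fintype.card_coe]
    rw [hcard]
    have hmem : ∀ p : ↥F, g₀⁻¹ * p.1.1 ∈ Subgroup.centralizer ({y} : Set G) := by
      intro p
      have hp := Finset.mem_filter.mp p.2
      have hv : p.1.2 ∈ W := (Finset.mem_product.mp hp.1).2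
      have e : p.1.1 * (y * p.1.2) * p.1.1⁻¹ = g₀ * (y * v₀) * g₀⁻¹ := hp.2
      have e2 : (p.1.1 * (y * p.1.2) * p.1.1⁻¹) ^ N = (g₀ * (y * v₀) * g₀⁻¹) ^ N := by rw [e]
      rw [hpow _ _ hv, hpow _ _ hv0] at e2
      rw [Subgroup.mem_centralizer_iff]
      intro h hh
      rw [Set.mem_singleton_iff] at hh
      rw [hh]
      calc y * (g₀⁻¹ * p.1.1) = g₀⁻¹ * (g₀ * y * g₀⁻¹) * p.1.1 := by group
        _ = g₀⁻¹ * (p.1.1 * y * p.1.1⁻¹) * p.1.1 := by rw [e2]
        _ = g₀⁻¹ * p.1.1 * y := by group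
    let φ : ↥F → ↥(Subgroup.centralizer ({y} : Set G)) := fun p => ⟨g₀⁻¹ * p.1.1, hmem p⟩
    apply Nat.card_le_card_of_injective φ
    intro p p' hpp
    have h1 : g₀⁻¹ * p.1.1 = g₀⁻¹ * p'.1.1 := congrArg Subtype.val hpp
    have hg : p.1.1 = p'.1.1 := mul_left_cancel h1
    have hp := (Finset.mem_filter.mp p.2).2
    have hp' := (Finset.mem_filter.mp p'.2).2
    have e : p.1.1 * (y * p.1.2) * p.1.1⁻¹ = p'.1.1 * (y * p'.1.2) * p'.1.1⁻¹ := hp.trans hp'.symm
    rw [← hg] at e
    have hv : p.1.2 = p'.1.2 := mul_left_cancel (mul_left_cancel (mul_right_cancel e))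
    exact Subtype.ext (Prod.ext hg hv)
  have hmain := Finset.card_le_mul_card_image s _ hfib
  have hscard : s.card = Nat.card G * W.card := by
    rw [hs, Finset.card_product, Finset.card_univ, Nat.card_eq_fintype_card]
  have himg : (s.image f).card ≤
      Nat.card {z : G | ∃ g : G, ∃ v ∈ W, z = g * (y * v) * g⁻¹} := by
    have h1 : (s.image f).card = Nat.card ↥((s.image f : Finset G) : Set G) := by
      rw [Nat.card_coe_set_eq, Set.ncard_coe_finset]
    rw [h1]
    apply Nat.card_mono (Set.toFinite _)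
    intro z hz
    obtain ⟨⟨g, v⟩, hp, rfl⟩ := Finset.mem_image.mp (Finset.mem_coe.mp hz)
    exact ⟨g, v, (Finset.mem_product.mp hp).2, rfl⟩
  calc Nat.card G * W.card = s.card := hscard.symm
    _ ≤ Nat.card (Subgroup.centralizer ({y} : Set G)) * (s.image f).card := hmain
    _ ≤ _ := Nat.mul_le_mul_left _ himg

end Cfsg.Agent.Helper60.O2520
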