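import Mathlib
import Cfsg.Agent.Lib.Helper55.O2520Defs
import Cfsg.Agent.Lib.Helper17.Simple
import Cfsg.Agent.Lib.Helper17.PrimeSylow

/-!
# O2520 server (helper55, S0984), helper40's split of (S3C), piece (K4): `#{g | g ^ 280 = 1} ≥ 1225`
-/

set_option autoImplicit false

namespace Cfsg.Agent.Helper60.O2520

open Cfsg Cfsg.Agent.Helper55.O2520
open scoped Classical

universe u

theorem card_pow280 {G : Type u} [Group G] [Finite G] (hG : Nat.card G = 2520)
    (h7 : Nat.card (Sylow 7 G) = 120) (h5 : Nat.card (Sylow 5 G) = 126) :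
    1225 ≤ Nat.card {g : G | g ^ 280 = 1} := by
  have hf7 : Fact (Nat.Prime 7) := ⟨by norm_num⟩
  have hf5 : Fact (Nat.Prime 5) := ⟨by norm_num⟩
  have hS7 : ∀ P : Sylow 7 G, Nat.card (P : Subgroup G) = 7 := fun P => by
    have := Cfsg.Agent.Helper17.sylow_card_eq P (k := 1) (m := 360) (by rw [hG]; norm_num)
      (by norm_num)
    simpa using this
  have hS5 : ∀ P : Sylow 5 G, Nat.card (P : Subgroup G) = 5 := fun P => by
    have := Cfsg.Agent.Helper17.sylow_card_eq P (k := 1) (m := 504) (by rw [hG]; norm_num)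
      (by norm_num)
    simpa using this
  have c7 := Cfsg.Agent.Helper17.card_orderOf_eq_prime hS7
  have c5 := Cfsg.Agent.Helper17.card_orderOf_eq_prime hS5
  rw [h7] at c7
  rw [h5] at c5
  have e7 : ({g : G | orderOf g = 7} : Set G).ncard = 720 := by
    rw [← Nat.card_coe_set_eq]
    exact c7
  have e5 : ({g : G | orderOf g = 5} : Set G).ncard = 504 := by
    rw [← Nat.card_coe_set_eq]
    exact c5
  have hsub : ({1} ∪ {g : G | orderOf g = 7} ∪ {g : G | orderOf g = 5} : Set G) ⊆
      {g : G | g ^ 280 = 1} := by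
    rintro g ((hg | hg) | hg)
    · rw [Set.mem_singleton_iff] at hg
      rw [hg]
      simp
    · have h : g ^ 7 = 1 := by
        rw [← (show orderOf g = 7 from hg)]
        exact pow_orderOf_eq_one g
      show g ^ 280 = 1
      rw [show 280 = 7 * 40 from rfl, pow_mul, h, one_pow]
    · have h : g ^ 5 = 1 := by
        rw [← (show orderOf g = 5 from hg)]
        exact pow_orderOf_eq_one g
      show g ^ 280 = 1
      rw [show 280 = 5 * 56 from rfl, pow_mul, h, one_pow]
  have hd1 : Disjoint ({1} : Set G) {g : G | orderOf g = 7} := by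
    rw [Set.disjoint_left]
    intro g hg hg7
    rw [Set.mem_singleton_iff] at hg
    rw [Set.mem_ofPred_eq, hg, orderOf_one] at hg7
    omega
  have hd2 : Disjoint ({1} ∪ {g : G | orderOf g = 7} : Set G) {g : G | orderOf g = 5} := by
    rw [Set.disjoint_left]
    rintro g (hg | hg) hg5
    · rw [Set.mem_singleton_iff] at hg
      rw [Set.mem_ofPred_eq, hg, orderOf_one] at hg5
      omega
    · rw [Set.mem_ofPred_eq] at hg hg5
      omega
  rw [Nat.card_coe_set_eq]
  calc 1225 = ({1} ∪ {g : G | orderOf g = 7} ∪ {g : G | orderOf g = 5} : Set G).ncard := by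
        rw [Set.ncard_union_eq hd2 (Set.toFinite _) (Set.toFinite _),
          Set.ncard_union_eq hd1 (Set.toFinite _) (Set.toFinite _), Set.ncard_singleton, e7, e5]
    _ ≤ _ := Set.ncard_le_ncard hsub (Set.toFinite _)

end Cfsg.Agent.Helper60.O2520
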