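import Mathlib
import Cfsg.Agent.Lib.Helper62.SUO0

/-!
# SUO server (helper62, S2282), piece (M8a): additive Hilbert 90
-/

set_option autoImplicit false
set_option linter.unusedSectionVars false
set_option linter.unusedVariables false
set_option quotPrecheck false

namespace Cfsg.Agent.Helper60.SUO

open Matrix Cfsg Cfsg.Agent.Helper13 Cfsg.Agent.Helper87.PsuA Cfsg.Agent.Helper62.SUO

section M
variable {F : Type*} [Field F] [Fintype F] {q n : ℕ} (hF : Fintype.card F = q ^ 2)
  {Hs : Subgroup ↥(Cfsg.SU n F q)} {u l : ↥(Cfsg.SU n F q)} {e0 e1 p : Fin n → F} {c γ : F}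

local notation "V" => Fin n → F
local notation "G" => ↥(Cfsg.SU n F q)
local notation "H" => Cfsg.hermForm n F q

include hF

/-- (M8a) additive Hilbert 90, elementary: with `x ^ q ≠ x` put `a = (m / (x - x^q)) * x` -/
theorem exists_tau (m : F) (hm : m + m ^ q = 0) : ∃ a : F, a - a ^ q = m := by
  obtain ⟨x, hx⟩ := Cfsg.Agent.Helper87.PsuB0.exists_not_fixed hF
  have hd : x - x ^ q ≠ 0 := sub_ne_zero.mpr (Ne.symm hx)
  refine ⟨(m / (x - x ^ q)) * x, ?_⟩
  have hmq : m ^ q = -m := by linear_combination hm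
  have hdq : (x - x ^ q) ^ q = -(x - x ^ q) := by
    rw [frob_sub hF, frob_frob hF]; ring
  rw [mul_pow, div_pow, hmq, hdq]
  field_simp

end M

end Cfsg.Agent.Helper60.SUO
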