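import Mathlib
import Cfsg.Agent.S1017
import Cfsg.Agent.Lib.Helper17.Simple
import Cfsg.Agent.Lib.Helper17.FixedCount
import Cfsg.Agent.Lib.Helper17.SylowCount
import Cfsg.Prelude.Def_Blocks
import Cfsg.Agent.Lib.Helper78.CharSchur
import Cfsg.Agent.Lib.Helper78.CharCount
import Cfsg.Agent.Lib.Helper81.CharDet
import Cfsg.Agent.Lib.Helper79.Integrality
import Cfsg.Agent.Lib.Helper74.FSBrauerFowler
import Cfsg.Agent.Lib.Helper17.PrimeTIApp
import Cfsg.Agent.Lib.Helper79.M11CTCT5

/-!
# O4320 server piece B1b1 (`b1_conj_count`), for helper50 (S0977)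
-/

set_option autoImplicit false
set_option linter.unusedVariables false
set_option linter.style.haveILetI false
set_option linter.unusedSectionVars false

namespace Cfsg.Agent.Helper60.O4320

open Cfsg MulAction
open scoped ComplexConjugate

universe u

section GT2

variable {G : Type u} [Group G] [Finite G] [IsSimpleGroup G]

/-- (B1b1) -/
theorem b1_conj_count (hG : Nat.card G = 4320) (h216 : Nat.card (Sylow 5 G) = 216) (R : Sylow 5 G)
    (hC : Nat.card (Subgroup.centralizer ((R : Subgroup G) : Set G)) = 10)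
    (u : G) (hu : orderOf u = 2) (huR : u ∈ Subgroup.centralizer ((R : Subgroup G) : Set G))
    (huniq : ∀ w ∈ Subgroup.centralizer ((R : Subgroup G) : Set G), orderOf w = 2 → w = u)
    (hB : ∀ (r : G), orderOf r = 5 → ∀ S : Set G, (∀ x ∈ S, r * x * r⁻¹ ∈ S) →
      Nat.card S ≡ Nat.card {x : G // x ∈ S ∧ Commute r x} [MOD 5]) :
    ∃ k : ℕ, (k = 0 ∨ k = 5 ∨ k = 10) ∧
      Nat.card {g : G // IsConj u g ∧ g ∈ Subgroup.normalizer ((R : Subgroup G) : Set G)} = 1 + k := by
  classical
  haveI : Fact (Nat.Prime 5) := ⟨by norm_num⟩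
  have hR5 : Nat.card (R : Subgroup G) = 5 := by
    have := Cfsg.Agent.S1017.sylow_card_eq R 1 864 (by rw [hG]; norm_num) (by norm_num)
    simpa using this
  have hN20 : Nat.card (Subgroup.normalizer ((R : Subgroup G) : Set G)) = 20 := by
    have := Cfsg.Agent.S1017.card_sylow_mul_card_normalizer R
    rw [h216, hG] at this
    omega
  obtain ⟨r, hrR, hr1⟩ : ∃ r ∈ (R : Subgroup G), r ≠ 1 := by
    by_contra hcon
    push Not at hcon
    have : (R : Subgroup G) = ⊥ := (Subgroup.eq_bot_iff_forall _).mpr hcon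
    rw [this] at hR5; simp at hR5
  obtain ⟨hzr, hro⟩ := Cfsg.Agent.S1017.zpowers_eq_of_card_prime (R : Subgroup G) hR5 r hrR hr1
  have hCN : Subgroup.centralizer ((R : Subgroup G) : Set G) ≤
      Subgroup.normalizer ((R : Subgroup G) : Set G) := Subgroup.centralizer_le_normalizer _
  have hRN : (R : Subgroup G) ≤ Subgroup.normalizer ((R : Subgroup G) : Set G) :=
    Subgroup.le_normalizer
  have hcomm_iff : ∀ x : G, Commute r x ↔ x ∈ Subgroup.centralizer ((R : Subgroup G) : Set G) := by
    intro x
    rw [Subgroup.mem_centralizer_iff]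
    constructor
    · intro h y hy
      rw [SetLike.mem_coe, ← hzr] at hy
      obtain ⟨k, rfl⟩ := Subgroup.mem_zpowers_iff.mp hy
      exact (h.zpow_left k).eq
    · intro h
      exact h r hrR
  set S : Set G := {g | IsConj u g ∧ g ∈ Subgroup.normalizer ((R : Subgroup G) : Set G)} with hSdef
  have hSinv : ∀ x ∈ S, r * x * r⁻¹ ∈ S := by
    intro x hx
    refine ⟨hx.1.trans (isConj_iff.mpr ⟨r, rfl⟩), ?_⟩
    exact Subgroup.mul_mem _ (Subgroup.mul_mem _ (hRN hrR) hx.2) (Subgroup.inv_mem _ (hRN hrR))
  have hmod := hB r hro S hSinv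
  have hfix : Nat.card {x : G // x ∈ S ∧ Commute r x} = 1 := by
    rw [Nat.card_eq_one_iff_exists]
    refine ⟨⟨u, ⟨IsConj.refl u, hCN huR⟩, (hcomm_iff u).mpr huR⟩, ?_⟩
    rintro ⟨x, hxS, hxr⟩
    apply Subtype.ext
    show x = u
    have hxC := (hcomm_iff x).mp hxr
    obtain ⟨c, hc⟩ := isConj_iff.mp hxS.1
    have hsc : SemiconjBy c u x := by
      show c * u = x * c
      rw [← hc]; group
    have hox : orderOf x = 2 := by rw [← hsc.orderOf_eq, hu]
    exact huniq x hxC hox
  rw [hfix] at hmod
  have hle : Nat.card S ≤ 11 := by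
    rw [Nat.card_coe_set_eq]
    have hsub : S ⊆ {u} ∪ (((Subgroup.normalizer ((R : Subgroup G) : Set G) : Subgroup G) : Set G) \
        ((Subgroup.centralizer ((R : Subgroup G) : Set G) : Subgroup G) : Set G)) := by
      intro x hx
      by_cases hxC : x ∈ Subgroup.centralizer ((R : Subgroup G) : Set G)
      · left
        obtain ⟨c, hc⟩ := isConj_iff.mp hx.1
        have hsc : SemiconjBy c u x := by
          show c * u = x * c
          rw [← hc]; group
        have hox : orderOf x = 2 := by rw [← hsc.orderOf_eq, hu]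
        exact huniq x hxC hox
      · right
        exact ⟨hx.2, hxC⟩
    have h1 := Set.ncard_le_ncard hsub (Set.toFinite _)
    have h2 := Set.ncard_union_le ({u} : Set G)
      (((Subgroup.normalizer ((R : Subgroup G) : Set G) : Subgroup G) : Set G) \
        ((Subgroup.centralizer ((R : Subgroup G) : Set G) : Subgroup G) : Set G))
    have h3 : (((Subgroup.normalizer ((R : Subgroup G) : Set G) : Subgroup G) : Set G) \
        ((Subgroup.centralizer ((R : Subgroup G) : Set G) : Subgroup G) : Set G)).ncard = 20 - 10 := by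
      rw [Set.ncard_sdiff (by exact hCN) (Set.toFinite _), ← Nat.card_coe_set_eq, ← Nat.card_coe_set_eq]
      show Nat.card (Subgroup.normalizer ((R : Subgroup G) : Set G)) -
        Nat.card (Subgroup.centralizer ((R : Subgroup G) : Set G)) = _
      rw [hN20, hC]
    rw [Set.ncard_singleton] at h2
    omega
  have hmod' : Nat.card S % 5 = 1 % 5 := hmod
  refine ⟨Nat.card S - 1, ?_, ?_⟩
  · omega
  · show Nat.card S = _
    omega

end GT2

end Cfsg.Agent.Helper60.O4320
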