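import Mathlib

/-!
# O5760X (A5): `a_conj` (helper50's server, S0980)

If `u` is an involution such that some pair of conjugates of `u` multiplies to `y` (an element of
order 5 with centralizer of order 5, inverted by the involution `t`), then `t` and `u` are
conjugate.
-/

namespace Cfsg.Agent.Helper60.O5760X

universe u

open scoped Classical in
/-- (A5) -/
theorem a_conj {G : Type u} [Group G] [Fintype G] (y t : G)
    (hy : orderOf y = 5) (hCy : Nat.card (Subgroup.centralizer ({y} : Set G)) = 5)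
    (ht : orderOf t = 2) (hty : t * y * t⁻¹ = y⁻¹) (u : G) (hu : orderOf u = 2)
    (hpos : 0 < (Finset.univ.filter (fun ab : G × G =>
        ab.1 * u * ab.1⁻¹ * (ab.2 * u * ab.2⁻¹) * y⁻¹ = 1)).card) : IsConj t u := by
  have ht2 : t * t = 1 := by
    have := pow_orderOf_eq_one t
    rw [ht, pow_two] at this
    exact this
  have hu2 : u * u = 1 := by
    have := pow_orderOf_eq_one u
    rw [hu, pow_two] at this
    exact this
  have hy5 : y ^ 5 = 1 := by
    have := pow_orderOf_eq_one y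
    rwa [hy] at this
  -- `t * y^k = (y^k)⁻¹ * t`
  have hpow : ∀ k : ℕ, t * y ^ k = (y ^ k)⁻¹ * t := by
    intro k
    have h1 : t * y ^ k * t⁻¹ = (y ^ k)⁻¹ := by
      rw [← conj_pow, hty, inv_pow]
    calc t * y ^ k = (t * y ^ k * t⁻¹) * t := by group
      _ = (y ^ k)⁻¹ * t := by rw [h1]
  -- conjugates
  have hconj : ∀ i : ℕ, y ^ (2 * i) * t * (y ^ (2 * i))⁻¹ = t * y ^ i := by
    intro i
    have h3 : y ^ (2 * i) * y ^ (3 * i) = 1 := by
      rw [← pow_add]
      have : 2 * i + 3 * i = 5 * i := by ring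
      rw [this, pow_mul, hy5, one_pow]
    have h4 : y ^ (2 * i) = (y ^ (3 * i))⁻¹ := eq_inv_of_mul_eq_one_left h3
    have h5 : t * y ^ i * y ^ (2 * i) = y ^ (2 * i) * t := by
      rw [mul_assoc, ← pow_add]
      have : i + 2 * i = 3 * i := by ring
      rw [this, hpow, ← h4]
    calc y ^ (2 * i) * t * (y ^ (2 * i))⁻¹ = (t * y ^ i * y ^ (2 * i)) * (y ^ (2 * i))⁻¹ := by rw [h5]
      _ = t * y ^ i := by group
  -- centralizer of y is zpowers y
  have hcent : Subgroup.centralizer ({y} : Set G) = Subgroup.zpowers y := by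
    symm
    apply Subgroup.eq_of_le_of_card_ge
    · rw [Subgroup.zpowers_le, Subgroup.mem_centralizer_singleton_iff]
    · rw [hCy, Nat.card_zpowers, hy]
  obtain ⟨⟨a, b⟩, hab⟩ := Finset.card_pos.mp hpos
  simp only [Finset.mem_filter, Finset.mem_univ, true_and] at hab
  have h11 : (a * u * a⁻¹) * (a * u * a⁻¹) = 1 := by
    calc a * u * a⁻¹ * (a * u * a⁻¹) = a * (u * u) * a⁻¹ := by group
      _ = 1 := by rw [hu2]; group
  have h22 : (b * u * b⁻¹) * (b * u * b⁻¹) = 1 := by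
    calc b * u * b⁻¹ * (b * u * b⁻¹) = b * (u * u) * b⁻¹ := by group
      _ = 1 := by rw [hu2]; group
  obtain ⟨t₁, ht₁⟩ : ∃ t₁, t₁ = a * u * a⁻¹ := ⟨_, rfl⟩
  obtain ⟨t₂, ht₂⟩ : ∃ t₂, t₂ = b * u * b⁻¹ := ⟨_, rfl⟩
  rw [← ht₁, ← ht₂] at hab
  rw [← ht₁] at h11
  rw [← ht₂] at h22
  have h12 : t₁ * t₂ = y := mul_inv_eq_one.mp hab
  have h1inv : t₁⁻¹ = t₁ := inv_eq_of_mul_eq_one_left h11
  have h2inv : t₂⁻¹ = t₂ := inv_eq_of_mul_eq_one_left h22
  -- t₁ inverts y
  have hinv1 : t₁ * y * t₁⁻¹ = y⁻¹ := by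
    rw [← h12, mul_inv_rev, h1inv, h2inv]
    calc t₁ * (t₁ * t₂) * t₁ = (t₁ * t₁) * t₂ * t₁ := by group
      _ = t₂ * t₁ := by rw [h11, one_mul]
  -- c = t * t₁ centralizes y
  have hc : t * t₁ ∈ Subgroup.centralizer ({y} : Set G) := by
    rw [Subgroup.mem_centralizer_singleton_iff]
    have e1 : t₁ * y = y⁻¹ * t₁ := by
      calc t₁ * y = (t₁ * y * t₁⁻¹) * t₁ := by group
        _ = y⁻¹ * t₁ := by rw [hinv1]
    have e2 : t * y⁻¹ = y * t := by
      have : t * y = y⁻¹ * t := by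
        calc t * y = (t * y * t⁻¹) * t := by group
          _ = y⁻¹ * t := by rw [hty]
      calc t * y⁻¹ = y * (y⁻¹ * t) * y⁻¹ := by group
        _ = y * (t * y) * y⁻¹ := by rw [this]
        _ = y * t := by group
    symm
    calc y * (t * t₁) = (y * t) * t₁ := by group
      _ = (t * y⁻¹) * t₁ := by rw [e2]
      _ = t * (y⁻¹ * t₁) := by group
      _ = t * (t₁ * y) := by rw [e1]
      _ = t * t₁ * y := by group
  rw [hcent] at hc
  have hfin : IsOfFinOrder y := by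
    rw [← orderOf_pos_iff, hy]; norm_num
  rw [hfin.mem_zpowers_iff_mem_range_orderOf] at hc
  simp only [Finset.mem_image, Finset.mem_range] at hc
  obtain ⟨i, _, hic⟩ := hc
  have h1 : t₁ = t * y ^ i := by
    rw [hic]
    calc t₁ = (t * t) * t₁ := by rw [ht2, one_mul]
      _ = t * (t * t₁) := by group
  -- `t₁ = y^(2i) t y^(-2i)`, and `u = a⁻¹ t₁ a`
  rw [isConj_iff]
  refine ⟨a⁻¹ * y ^ (2 * i), ?_⟩
  calc a⁻¹ * y ^ (2 * i) * t * (a⁻¹ * y ^ (2 * i))⁻¹
      = a⁻¹ * (y ^ (2 * i) * t * (y ^ (2 * i))⁻¹) * a := by group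
    _ = a⁻¹ * t₁ * a := by rw [hconj i, ← h1]
    _ = a⁻¹ * (a * u * a⁻¹) * a := by rw [ht₁]
    _ = u := by group

end Cfsg.Agent.Helper60.O5760X
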