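import Mathlib
import Cfsg.Agent.S1017

/-!
# O5760X (C36b) `false_of_thirtysix` (helper60, for helper50's O5760X server, S0980)
-/

set_option autoImplicit false
set_option linter.style.haveILetI false
set_option linter.unusedVariables false
set_option linter.unusedSectionVars false

namespace Cfsg.Agent.Helper60.O5760X

open Cfsg MulAction
open scoped ComplexConjugate

universe u

section GT

variable {G : Type u} [Group G] [Finite G] [IsSimpleGroup G]

/-- (C36b) -/
theorem false_of_thirtysix (hG : Nat.card G = 5760) (h36 : Nat.card (Sylow 5 G) = 36) (R : Sylow 5 G)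
    (hC : 8 ∣ Nat.card (Subgroup.centralizer ((R : Subgroup G) : Set G)))
    (hA : ∀ u : G, orderOf u = 2 → u ∈ Subgroup.centralizer ((R : Subgroup G) : Set G) →
      ∃ m : ℕ, (m = 10 ∨ m = 20) ∧
        Nat.card ↥(Subgroup.normalizer ((R : Subgroup G) : Set G) ⊓ Subgroup.centralizer ({u} : Set G)) = m ∧
        Nat.card (Subgroup.centralizer ({u} : Set G)) = 16 * m) : False := by
  classical
  haveI : Fact (Nat.Prime 2) := ⟨Nat.prime_two⟩
  set C : Subgroup G := Subgroup.centralizer ((R : Subgroup G) : Set G) with hCdef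
  have hdvd : 2 ^ 3 ∣ Nat.card ↥C := by
    norm_num
    exact hC
  obtain ⟨W₀, hW₀⟩ := Sylow.exists_subgroup_card_pow_prime 2 hdvd
  have hWp : IsPGroup 2 ↥W₀ := IsPGroup.of_card hW₀
  haveI : Nontrivial ↥W₀ := by
    rw [← Finite.one_lt_card_iff_nontrivial, hW₀]; norm_num
  haveI hZnt : Nontrivial ↥(Subgroup.center ↥W₀) := hWp.center_nontrivial
  have hZp : IsPGroup 2 ↥(Subgroup.center ↥W₀) := hWp.to_subgroup _
  have h2 : 2 ∣ Nat.card ↥(Subgroup.center ↥W₀) := by
    rcases hZp.card_eq_or_dvd with h | h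
    · exfalso
      have := Finite.one_lt_card_iff_nontrivial.mpr hZnt
      omega
    · exact h
  obtain ⟨z₀, hz₀⟩ := exists_prime_orderOf_dvd_card' 2 h2
  set u₀ : ↥W₀ := (z₀ : ↥W₀) with hu₀
  set u : G := ((u₀ : ↥C) : G) with hu
  have huo : orderOf u = 2 := by
    rw [hu, Subgroup.orderOf_coe, Subgroup.orderOf_coe, hu₀, Subgroup.orderOf_coe]
    exact hz₀
  have huC : u ∈ C := (u₀ : ↥C).2
  obtain ⟨m, hm, hcardm, _⟩ := hA u huo huC
  set W : Subgroup G := W₀.map C.subtype with hW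
  have hWcard : Nat.card ↥W = 8 := by
    rw [hW, Subgroup.card_map_of_injective C.subtype_injective, hW₀]
    norm_num
  have hWle : W ≤ Subgroup.normalizer ((R : Subgroup G) : Set G) ⊓ Subgroup.centralizer ({u} : Set G) := by
    intro x hx
    obtain ⟨x₀, hx₀, rfl⟩ := Subgroup.mem_map.1 hx
    refine ⟨Subgroup.centralizer_le_normalizer _ x₀.2, Subgroup.mem_centralizer_singleton_iff.2 ?_⟩
    have h1 : (⟨x₀, hx₀⟩ : ↥W₀) * u₀ = u₀ * ⟨x₀, hx₀⟩ := Subgroup.mem_center_iff.mp z₀.2 ⟨x₀, hx₀⟩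
    have h2 := congrArg (fun w : ↥W₀ => (((w : ↥C)) : G)) h1
    exact h2
  have h8 : 8 ∣ m := by
    rw [← hWcard, ← hcardm]
    exact Subgroup.card_dvd_of_le hWle
  rcases hm with rfl | rfl <;> omega

end GT

end Cfsg.Agent.Helper60.O5760X
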