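import Mathlib
import Cfsg.Agent.Lib.Helper62.SLN0

/-!
# SLN (S0): the dot-product pairing on `κ → F` (helper62's server, S2332)
-/

set_option autoImplicit false

namespace Cfsg.Agent.Helper60.SLN

open Matrix Module Cfsg.Agent.Helper93.U2 Cfsg.Agent.Helper62.SLN

/-- piece S0 : the dot-product pairing (any non-trivial `ψ`; nondegeneracy: `u = c • single i 1`) -/
theorem exists_pairing (F : Type*) [Field F] [Fintype F] (κ : Type) [Fintype κ] [DecidableEq κ] :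
    ∃ (ψ : AddChar F ℂ) (pr : Pairing (κ → F)), ∀ w u, pr.β w u = ψ (w ⬝ᵥ u) := by
  obtain ⟨ψ, hψ⟩ := (AddChar.exists_apply_ne_zero (α := F) (a := 1)).2 one_ne_zero
  refine ⟨ψ, ⟨fun w u => ψ (w ⬝ᵥ u), ?_, ?_, ?_, ?_⟩, fun _ _ => rfl⟩
  · intro a
    show ψ (a ⬝ᵥ 0) = 1
    rw [dotProduct_zero, AddChar.map_zero_eq_one]
  · intro a b c
    show ψ (a ⬝ᵥ (b + c)) = ψ (a ⬝ᵥ b) * ψ (a ⬝ᵥ c)
    rw [dotProduct_add, AddChar.map_add_eq_mul]
  · intro a b
    show ψ (a ⬝ᵥ b) = ψ (b ⬝ᵥ a)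
    rw [dotProduct_comm]
  · intro a ha
    have ha' : ∀ b : κ → F, ψ (a ⬝ᵥ b) = 1 := ha
    by_contra hne
    obtain ⟨i, hi⟩ : ∃ i, a i ≠ 0 := by
      by_contra hcon
      push Not at hcon
      exact hne (funext hcon)
    apply hψ
    have := ha' ((a i)⁻¹ • Pi.single i 1)
    rw [dotProduct_smul, dotProduct_single, mul_one, smul_eq_mul, inv_mul_cancel₀ hi] at this
    exact this

end Cfsg.Agent.Helper60.SLN
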