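import Mathlib
import Cfsg.Agent.S0143
import Cfsg.Agent.Lib.Helper1.Hall
import Cfsg.Agent.Lib.Helper70.Fitting

set_option autoImplicit false
set_option linter.style.haveILetI false
set_option linter.unusedVariables false

namespace Cfsg.Agent.Helper60

universe u

open Pointwise

/-- `H` has an abelian Hall `2'`-subgroup. -/
def HasAbHall (H : Type*) [Group H] : Prop :=
  ∃ C : Subgroup H, (∀ a ∈ C, ∀ b ∈ C, a * b = b * a) ∧ Odd (Nat.card C) ∧ ∃ k : ℕ, C.index = 2 ^ k

theorem HasAbHall.normal {H : Type*} [Group H] [Finite H] (h : HasAbHall H) (N : Subgroup H)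
    [N.Normal] : HasAbHall ↥N := by
  obtain ⟨C, hC, hodd, k, hk⟩ := h
  refine ⟨C.subgroupOf N, ?_, ?_, ?_⟩
  · intro a ha b hb
    exact Subtype.ext (hC a ha b hb)
  · have h1 : Nat.card (C.subgroupOf N) ∣ Nat.card C := by
      rw [← Subgroup.card_map_of_injective N.subtype_injective, Subgroup.subgroupOf_map_subtype]
      exact Subgroup.card_dvd_of_le inf_le_left
    exact Odd.of_dvd_nat hodd h1
  · have h1 : (C.subgroupOf N).index ∣ C.index :=
      Helper70.relIndex_dvd_index_of_normal_right C N
    rw [hk] at h1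
    obtain ⟨j, -, hj⟩ := (Nat.dvd_prime_pow Nat.prime_two).mp h1
    exact ⟨j, hj⟩

theorem HasAbHall.quotient {H : Type*} [Group H] [Finite H] (h : HasAbHall H) (N : Subgroup H)
    [N.Normal] : HasAbHall (H ⧸ N) := by
  obtain ⟨C, hC, hodd, k, hk⟩ := h
  refine ⟨C.map (QuotientGroup.mk' N), ?_, ?_, ?_⟩
  · rintro _ ⟨a, ha, rfl⟩ _ ⟨b, hb, rfl⟩
    rw [← map_mul, ← map_mul, hC a ha b hb]
  · exact Odd.of_dvd_nat hodd (Subgroup.card_map_dvd _ _)
  · have h1 : (C.map (QuotientGroup.mk' N)).index ∣ C.index :=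
      Subgroup.index_map_dvd C (QuotientGroup.mk'_surjective N)
    rw [hk] at h1
    obtain ⟨j, -, hj⟩ := (Nat.dvd_prime_pow Nat.prime_two).mp h1
    exact ⟨j, hj⟩

theorem isSolvable_of_card_prime_pow {H : Type*} [Group H] [Finite H] {p k : ℕ} (hp : p.Prime)
    (h : Nat.card H = p ^ k) : Group.IsSolvable H := by
  haveI := Fact.mk hp
  haveI : Group.IsNilpotent H := (IsPGroup.of_card h).isNilpotent
  exact IsNilpotent.to_isSolvable

theorem HasAbHall.isSolvable_aux : ∀ n : ℕ, ∀ (H : Type u) [Group H] [Finite H],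
    Nat.card H = n → HasAbHall H → Group.IsSolvable H := by
  intro n
  induction n using Nat.strong_induction_on with
  | _ n ih =>
    intro H _ _ hn hH
    by_cases hsub : Subsingleton H
    · exact Group.isSolvable_of_comm (fun a b => Subsingleton.elim _ _)
    rw [not_subsingleton_iff_nontrivial] at hsub
    by_cases hsimple : IsSimpleGroup H
    · obtain ⟨C, hC, hodd, k, hk⟩ := hH
      by_cases hC1 : C = ⊥
      · rw [hC1, Subgroup.index_bot] at hk
        exact isSolvable_of_card_prime_pow Nat.prime_two hk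
      · obtain ⟨x, hx1⟩ := (Subgroup.ne_bot_iff_exists_ne_one).mp hC1
        have hxC' : (x : H) ∈ C := x.2
        have hle : C ≤ Subgroup.centralizer ({(x : H)} : Set H) := by
          intro c hc
          rw [Subgroup.mem_centralizer_iff]
          intro y hy
          rw [Set.mem_singleton_iff] at hy
          subst hy
          exact hC _ hxC' c hc
        have h1 : (Subgroup.centralizer ({(x : H)} : Set H)).index ∣ C.index :=
          Subgroup.index_dvd_of_le hle
        rw [hk] at h1
        obtain ⟨j, -, hj⟩ := (Nat.dvd_prime_pow Nat.prime_two).mp h1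
        have hprime : (Nat.card H).Prime :=
          Cfsg.Agent.S0143.result 2 j Nat.prime_two (x : H) (by
            intro h; exact hx1 (Subtype.ext h)) hj
        exact isSolvable_of_card_prime_pow (k := 1) hprime (pow_one _).symm
    · have hex : ∃ N : Subgroup H, N.Normal ∧ N ≠ ⊥ ∧ N ≠ ⊤ := by
        by_contra hcon
        push Not at hcon
        apply hsimple
        refine { toNontrivial := hsub, eq_bot_or_eq_top_of_normal := fun N hN => ?_ }
        by_cases hN0 : N = ⊥
        · exact Or.inl hN0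
        · exact Or.inr (hcon N hN hN0)
      obtain ⟨N, hNn, hN0, hN1⟩ := hex
      haveI := hNn
      have hcardN : Nat.card N < n := by
        rw [← hn]
        have hle := Subgroup.card_le_card_group N
        rcases hle.lt_or_eq with h | h
        · exact h
        · exact absurd (Subgroup.card_eq_iff_eq_top N |>.mp h) hN1
      have hcardQ : Nat.card (H ⧸ N) < n := by
        rw [← hn, ← Subgroup.card_mul_index N, ← Subgroup.index_eq_card]
        have h1 : 1 < Nat.card N := by
          rw [Subgroup.one_lt_card_iff_ne_bot]; exact hN0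
        have h2 : 0 < N.index := Nat.pos_of_ne_zero Subgroup.index_ne_zero_of_finite
        nlinarith
      haveI s1 : Group.IsSolvable ↥N := ih _ hcardN ↥N rfl (hH.normal N)
      haveI s2 : Group.IsSolvable (H ⧸ N) := ih _ hcardQ (H ⧸ N) rfl (hH.quotient N)
      exact Group.isSolvable_of_ker_le_range N.subtype (QuotientGroup.mk' N)
        (by rw [QuotientGroup.ker_mk', Subgroup.range_subtype])

theorem HasAbHall.isSolvable {H : Type u} [Group H] [Finite H] (h : HasAbHall H) :
    Group.IsSolvable H :=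
  HasAbHall.isSolvable_aux _ H rfl h

theorem HasAbHall.comm_of_odd {H : Type u} [Group H] [Finite H] (h : HasAbHall H) (K : Subgroup H)
    (hK : Odd (Nat.card K)) : ∀ a ∈ K, ∀ b ∈ K, a * b = b * a := by
  haveI := h.isSolvable
  obtain ⟨C, hC, hodd, k, hk⟩ := h
  have hcard : Nat.card H = Nat.card C * 2 ^ k := by rw [← hk, Subgroup.card_mul_index]
  have hcop : ∀ m : ℕ, Odd m → m.Coprime (2 ^ k) := fun m hm =>
    Nat.Coprime.pow_right k (Nat.coprime_two_right.mpr hm)
  obtain ⟨H0, hH0, hdom⟩ :=
    Cfsg.Agent.Helper1.hall_exists_dominant (G := H) (Nat.card C) (2 ^ k) hcard (hcop _ hodd)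
  obtain ⟨g, hg⟩ := hdom C (hcop _ hodd)
  have hCeq : C = MulAut.conj g • H0 := by
    refine Subgroup.eq_of_le_of_card_ge hg ?_
    rw [Cfsg.Agent.Helper1.card_conj_smul, hH0]
  have hH0c : ∀ u ∈ H0, ∀ v ∈ H0, u * v = v * u := by
    intro u hu v hv
    have hu' : MulAut.conj g u ∈ C := by
      rw [hCeq]; exact Subgroup.smul_mem_pointwise_smul _ _ _ hu
    have hv' : MulAut.conj g v ∈ C := by
      rw [hCeq]; exact Subgroup.smul_mem_pointwise_smul _ _ _ hv
    have := hC _ hu' _ hv'
    rw [← map_mul, ← map_mul] at this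
    exact (MulAut.conj g).injective this
  obtain ⟨g', hg'⟩ := hdom K (hcop _ hK)
  intro a ha b hb
  have ha' := hg' ha
  have hb' := hg' hb
  rw [Subgroup.mem_pointwise_smul_iff_inv_smul_mem] at ha' hb'
  have := hH0c _ ha' _ hb'
  rw [← smul_mul', ← smul_mul'] at this
  exact (MulAction.injective (MulAut.conj g')⁻¹) this

theorem HasAbHall.subgroup {H : Type u} [Group H] [Finite H] (h : HasAbHall H) (L : Subgroup H) :
    HasAbHall ↥L := by
  haveI := h.isSolvable
  set N := Nat.card L with hN
  have hN0 : N ≠ 0 := Nat.card_pos.ne'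
  set n := 2 ^ (N.factorization 2) with hn
  set m := N / n with hm
  have hmn : Nat.card L = m * n := by
    rw [mul_comm]; exact (Nat.ordProj_mul_ordCompl_eq_self N 2).symm
  have hmodd : Odd m := by
    rw [← Nat.coprime_two_right]
    exact (Nat.coprime_ordCompl Nat.prime_two hN0).symm
  have hcop : m.Coprime n := Nat.Coprime.pow_right _ (Nat.coprime_two_right.mpr hmodd)
  obtain ⟨D, hD, -⟩ := Cfsg.Agent.Helper1.hall_exists_dominant (G := ↥L) m n hmn hcop
  refine ⟨D, ?_, hD ▸ hmodd, N.factorization 2, ?_⟩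
  · have hodd' : Odd (Nat.card (D.map L.subtype)) := by
      rw [Subgroup.card_map_of_injective L.subtype_injective, hD]; exact hmodd
    intro a ha b hb
    have := h.comm_of_odd (D.map L.subtype) hodd' a ⟨a, ha, rfl⟩ b ⟨b, hb, rfl⟩
    exact Subtype.ext this
  · have h1 : Nat.card D * D.index = m * n := by rw [Subgroup.card_mul_index, hmn]
    rw [hD] at h1
    have hm0 : 0 < m := hmodd.pos
    exact Nat.eq_of_mul_eq_mul_left hm0 h1

theorem HasAbHall.exists_sylow {X : Type*} [Group X] [Finite X] (h : HasAbHall X) :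
    ∃ (P : Sylow 2 X) (D : Subgroup X), IsMulCommutative ↥D ∧
      Subgroup.IsComplement' (P : Subgroup X) D := by
  obtain ⟨C, hC, hodd, k, hk⟩ := h
  haveI := Fact.mk Nat.prime_two
  let P : Sylow 2 X := default
  refine ⟨P, C, ⟨⟨fun a b => Subtype.ext (hC a a.2 b b.2)⟩⟩, ?_⟩
  obtain ⟨j, hj⟩ := IsPGroup.exists_card_eq P.isPGroup'
  have hidx : ¬ 2 ∣ (P : Subgroup X).index := P.not_dvd_index
  have hoddP : Odd (P : Subgroup X).index := by
    rwa [← Nat.not_even_iff_odd, even_iff_two_dvd]
  have e1 : Nat.card (P : Subgroup X) * (P : Subgroup X).index = Nat.card X :=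
    Subgroup.card_mul_index _
  have e2 : Nat.card C * C.index = Nat.card X := Subgroup.card_mul_index _
  rw [hj] at e1
  rw [hk] at e2
  have hjk : j = k := by
    have c1 : (2 ^ j).Coprime (Nat.card C) :=
      Nat.Coprime.pow_left _ (Nat.coprime_two_left.mpr hodd)
    have c2 : (2 ^ k).Coprime ((P : Subgroup X).index) :=
      Nat.Coprime.pow_left _ (Nat.coprime_two_left.mpr hoddP)
    have d1 : 2 ^ j ∣ Nat.card C * 2 ^ k := by rw [e2, ← e1]; exact Dvd.intro _ rfl
    have d2 : 2 ^ k ∣ 2 ^ j * (P : Subgroup X).index := by rw [e1, ← e2]; exact Dvd.intro_left _ rfl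
    have d1' := c1.dvd_of_dvd_mul_left d1
    have d2' := c2.dvd_of_dvd_mul_right d2
    have l1 := (Nat.pow_dvd_pow_iff_le_right (by norm_num : 1 < 2)).mp d1'
    have l2 := (Nat.pow_dvd_pow_iff_le_right (by norm_num : 1 < 2)).mp d2'
    omega
  refine Subgroup.isComplement'_of_coprime ?_ ?_
  · rw [hj, hjk, mul_comm]; exact e2
  · rw [hj]; exact Nat.Coprime.pow_left _ (Nat.coprime_two_left.mpr hodd)

theorem HasAbHall.of_complement {H : Type*} [Group H] [Finite H]
    (S : Sylow 2 H) (C : Subgroup H) (hC : IsMulCommutative ↥C)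
    (hSC : Subgroup.IsComplement' (S : Subgroup H) C) : HasAbHall H := by
  haveI := Fact.mk Nat.prime_two
  have e0 := hSC.card_mul_card
  obtain ⟨j, hj⟩ := IsPGroup.exists_card_eq S.isPGroup'
  have e1 : Nat.card (S : Subgroup H) * (S : Subgroup H).index = Nat.card H :=
    Subgroup.card_mul_index _
  have e2 : Nat.card C * C.index = Nat.card H := Subgroup.card_mul_index _
  have hpos : 0 < Nat.card (S : Subgroup H) := Nat.card_pos
  have hCi : Nat.card C = (S : Subgroup H).index := by
    have : Nat.card (S : Subgroup H) * Nat.card C = Nat.card (S : Subgroup H) * (S : Subgroup H).index := by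
      rw [e0, e1]
    exact Nat.eq_of_mul_eq_mul_left hpos this
  have hidx : ¬ 2 ∣ (S : Subgroup H).index := S.not_dvd_index
  refine ⟨C, fun a ha b hb => ?_, ?_, j, ?_⟩
  · have := mul_comm' (⟨a, ha⟩ : C) ⟨b, hb⟩
    exact congrArg Subtype.val this
  · rw [hCi]; rwa [← Nat.not_even_iff_odd, even_iff_two_dvd]
  · have hposC : 0 < Nat.card C := Nat.card_pos
    have : Nat.card C * C.index = Nat.card C * 2 ^ j := by
      rw [e2, ← e0, hj, mul_comm]
    exact Nat.eq_of_mul_eq_mul_left hposC this

end Cfsg.Agent.Helper60
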