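import Mathlib
import Cfsg.Agent.Lib.Helper60.BG139a
import Cfsg.Agent.Lib.Helper25.BGNat
import Cfsg.Agent.Lib.Helper23.YMin
import Cfsg.Agent.S1350
import Cfsg.Agent.S1414
import Cfsg.Agent.S1423
import Cfsg.Agent.S1426
import Cfsg.Agent.S1429
import Cfsg.Agent.S1430
import Cfsg.Agent.S1431
import Cfsg.Agent.S1432

/-!
# B-G Theorem 13.9 (sigma-partition) from the rows 14.1-14.3 of the chain

The counterexample configuration: `M`, `N` non-conjugate maximal subgroups with a common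
Sylow `q`-subgroup `S` of `G`, `N_G(S) ≤ M ∩ N`.
-/

set_option autoImplicit false
set_option linter.style.haveILetI false
set_option linter.unusedSectionVars false

namespace Cfsg.Agent.Helper60.BG139

open Subgroup Cfsg
open Cfsg.Agent.Helper79.BG10 (cj mem_cj conj_mem_cj cj_mul cj_one cj_mono cj_le_iff card_cj
  isPGroup_cj cj_eq_self_of_mem cj_eq_self_of_mem_normalizer mem_normalizer_of_cj_eq cj_inv_cj
  cj_cj_inv normalizer_cj)
open Cfsg.Agent.Helper55.BGB (sigmaCore_le isPi_sigmaCore le_normalizer_sigmaCore)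
open Cfsg.Agent.Helper84 (IsSylIn)

variable {G : Type*} [Group G] [Finite G]

/-! ### small generalities -/

theorem isSylIn_of_index {q : ℕ} {S K : Subgroup G} (hS : IsPGroup q S) (hi : ¬ q ∣ S.index)
    (hSK : S ≤ K) : IsSylIn q S K := by
  refine ⟨hSK, hS, fun hd => hi ?_⟩
  rw [← Subgroup.relIndex_mul_index hSK]
  exact Dvd.dvd.mul_right hd _

theorem isCoatom_cj' {M : Subgroup G} (hM : IsCoatom M) (g : G) : IsCoatom (cj g M) :=
  (OrderIso.isCoatom_iff (MulEquiv.mapSubgroup (MulAut.conj g)) M).mpr hM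

theorem orderOf_prime_ne_one {w : G} {r : ℕ} (hr : r.Prime) (hw : orderOf w = r) : w ≠ 1 := by
  rintro rfl
  rw [orderOf_one] at hw
  exact hr.one_lt.ne hw

theorem isPGroup_zpowers_of_orderOf {w : G} {r : ℕ} (hw : orderOf w = r) :
    IsPGroup r (zpowers w) := by
  apply IsPGroup.of_card (n := 1)
  rw [Nat.card_zpowers, hw, pow_one]

theorem dvd_card_of_mem_pgroup {q : ℕ} [Fact q.Prime] {S L : Subgroup G} (hS : IsPGroup q S) {s : G}
    (hs : s ∈ S) (hs1 : s ≠ 1) (hsL : s ∈ L) : q ∣ Nat.card L := by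
  obtain ⟨k, hk⟩ := (IsPGroup.iff_orderOf.mp hS) ⟨s, hs⟩
  have ho : orderOf s = q ^ k := by rw [← hk]; exact (Subgroup.orderOf_mk s hs).symm
  have hk0 : k ≠ 0 := by
    rintro rfl
    rw [pow_zero] at ho
    exact hs1 (orderOf_eq_one_iff.mp ho)
  have h1 : q ∣ orderOf s := by rw [ho]; exact dvd_pow_self q hk0
  exact h1.trans (Subgroup.orderOf_dvd_natCard L hsL)

theorem exists_sylow_map_eq {q : ℕ} [Fact q.Prime] {S K : Subgroup G} (h : IsSylIn q S K) :
    ∃ R : Sylow q ↥K, (R : Subgroup ↥K).map K.subtype = S := by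
  obtain ⟨R, hR⟩ := h.exists_sylow
  exact ⟨R, by rw [hR, Subgroup.map_subgroupOf_eq_of_le h.1]⟩

theorem isSylIn_map_sylow {q : ℕ} [Fact q.Prime] {K : Subgroup G} (R : Sylow q ↥K) :
    IsSylIn q ((R : Subgroup ↥K).map K.subtype) K := by
  have hle : (R : Subgroup ↥K).map K.subtype ≤ K := Subgroup.map_subtype_le _
  apply Cfsg.Agent.Helper84.isSylIn_of_sylow hle
  exact ⟨R, (Subgroup.comap_map_eq_self_of_injective (Subgroup.subtype_injective _) _).symm⟩

theorem exists_orderOf_eq_of_ne_bot {q : ℕ} [hq : Fact q.Prime] {S : Subgroup G}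
    (hS : IsPGroup q S) (hne : S ≠ ⊥) : ∃ s ∈ S, orderOf s = q := by
  have hc : Nat.card S ≠ 1 := fun h => hne (Subgroup.card_eq_one.mp h)
  obtain ⟨n, hn⟩ := hS.exists_card_eq
  have hn0 : n ≠ 0 := by
    rintro rfl
    rw [pow_zero] at hn
    exact hc hn
  have hd : q ∣ Nat.card S := by rw [hn]; exact dvd_pow_self q hn0
  obtain ⟨x, hx⟩ := exists_prime_orderOf_dvd_card' q hd
  exact ⟨x.1, x.2, by rw [← hx]; exact Subgroup.orderOf_coe x⟩

/-! ### the configuration -/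

structure Cfg (M N : Subgroup G) (q : ℕ) (S : Subgroup G) : Prop where
  hM : IsCoatom M
  hN : IsCoatom N
  qM : q ∈ sigma M
  qN : q ∈ sigma N
  pg : IsPGroup q S
  idx : ¬ q ∣ S.index
  ne : S ≠ ⊥
  nM : normalizer (S : Set G) ≤ M
  nN : normalizer (S : Set G) ≤ N
  nc : ∀ g : G, N ≠ cj g M

namespace Cfg

variable {M N S : Subgroup G} {q : ℕ}

theorem symm (h : Cfg M N q S) : Cfg N M q S where
  hM := h.hN
  hN := h.hM
  qM := h.qN
  qN := h.qM
  pg := h.pg
  idx := h.idx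
  ne := h.ne
  nM := h.nN
  nN := h.nM
  nc := by
    intro g hg
    apply h.nc g⁻¹
    rw [hg, cj_inv_cj]

theorem SM (h : Cfg M N q S) : S ≤ M := le_normalizer.trans h.nM

theorem SN (h : Cfg M N q S) : S ≤ N := le_normalizer.trans h.nN

theorem ne_MN (h : Cfg M N q S) : N ≠ M := by
  have := h.nc 1
  rwa [cj_one] at this

theorem not_unique (h : Cfg M N q S) : ¬ InUniqueMaximal S := by
  intro hu
  exact h.ne_MN (hu.unique ⟨h.hN, h.SN⟩ ⟨h.hM, h.SM⟩)

theorem qprime (h : Cfg M N q S) : q.Prime := h.qM.1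

theorem S_le_core (hG : IsMinSimpleOddOrder G) (h : Cfg M N q S) : S ≤ sigmaCore M :=
  Cfsg.Agent.Helper55.BGB.le_sigmaCore_of_isPGroup h.qprime
    (Cfsg.Agent.S1350.result hG M h.hM).1 h.qM h.SM h.pg

theorem sylCore (hG : IsMinSimpleOddOrder G) (h : Cfg M N q S) : IsSylIn q S (sigmaCore M) :=
  isSylIn_of_index h.pg h.idx (h.S_le_core hG)

/-- `M_σ` is not nilpotent. -/
theorem not_nil (hG : IsMinSimpleOddOrder G) (h : Cfg M N q S) :
    ¬ Group.IsNilpotent ↥(sigmaCore M) := by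
  intro hnil
  haveI := hnil
  haveI : Fact q.Prime := ⟨h.qprime⟩
  have hsyl := h.sylCore hG
  obtain ⟨R, hR⟩ := hsyl.exists_sylow
  have hRn : (R : Subgroup ↥(sigmaCore M)).Normal :=
    Sylow.normal_of_normalizerCondition Group.normalizerCondition_of_isNilpotent R
  haveI : Subsingleton (Sylow q ↥(sigmaCore M)) :=
    (Sylow.unique_of_normal R hRn).instSubsingleton
  -- `M ≤ N_G(S)`
  have hMS : M ≤ normalizer (S : Set G) := by
    intro m hm
    have hcjN : cj m (sigmaCore M) = sigmaCore M :=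
      cj_eq_self_of_mem_normalizer (le_normalizer_sigmaCore M hm)
    have h1 : IsSylIn q (cj m S) (sigmaCore M) := by
      have := hsyl.map_conj m
      rwa [show (sigmaCore M).map (MulAut.conj m).toMonoidHom = sigmaCore M from hcjN] at this
    obtain ⟨R', hR'⟩ := h1.exists_sylow
    have hRR : R' = R := Subsingleton.elim _ _
    have h2 : (cj m S).subgroupOf (sigmaCore M) = S.subgroupOf (sigmaCore M) := by
      rw [← hR', ← hR, hRR]
    have h3 : cj m S = S := by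
      have := congrArg (Subgroup.map (sigmaCore M).subtype) h2
      rwa [Subgroup.map_subgroupOf_eq_of_le h1.1, Subgroup.map_subgroupOf_eq_of_le hsyl.1] at this
    exact mem_normalizer_of_cj_eq h3
  have hMN : M ≤ N := hMS.trans h.nN
  have : M = N := by
    by_contra hne
    exact h.hN.1 (h.hM.2 N (lt_of_le_of_ne hMN hne))
  exact h.ne_MN this.symm

/-- `M` is of type `P₁`: all primes of `M` outside `σ(M)` are in `κ(M)`. -/
theorem p1 (hG : IsMinSimpleOddOrder G) (h : Cfg M N q S) :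
    ∀ r : ℕ, r.Prime → r ∣ Nat.card M → r ∉ sigma M → r ∈ kappa M := by
  by_contra hP1
  have hP1' := hP1
  push Not at hP1'
  obtain ⟨p, hp, hpM, hpσ, hpκ⟩ := hP1'
  haveI : Fact p.Prime := ⟨hp⟩
  have hnotin : p ∉ sigma M ∪ kappa M := by
    rintro (h1 | h1)
    · exact hpσ h1
    · exact hpκ h1
  exact h.not_nil hG
    (Cfsg.Agent.S1429.result hG M h.hM hP1 p hpM hnotin (default : Sylow p M)).2.2

/-- elements of prime order in `κ(M)` act fixed-point-freely on `S`. -/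
theorem fpf (hG : IsMinSimpleOddOrder G) (h : Cfg M N q S) {w : G} {r : ℕ} (hr : r.Prime)
    (hwM : w ∈ M) (hw : orderOf w = r) (hrκ : r ∈ kappa M) :
    ∀ s ∈ S, s * w = w * s → s = 1 := by
  intro s hs hcomm
  by_contra hs1
  haveI : Fact q.Prime := ⟨h.qprime⟩
  haveI : Fact r.Prime := ⟨hr⟩
  have hsol : Group.IsSolvable M := hG.2.2.2 M h.hM.1
  obtain ⟨K, hK, hTK⟩ := exists_hall_ge hsol (kappa M) hrκ (isPGroup_zpowers_of_orderOf hw)
    (zpowers_le.mpr hwM)
  have hwK : w ∈ K := hTK (mem_zpowers w)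
  have hw1 : w ≠ 1 := orderOf_prime_ne_one hr hw
  have hK1 : K ≠ ⊥ := by
    rintro rfl
    exact hw1 (Subgroup.mem_bot.mp hwK)
  have h30 := (Cfsg.Agent.S1430.result hG M h.hM K hK hK1).1 w hwK hw1
  have hsK : s ∈ sigmaCore M ⊓ centralizer (K : Set G) := by
    rw [← h30]
    exact ⟨h.S_le_core hG hs, mem_centralizer_singleton_iff.mpr hcomm⟩
  have hd : q ∣ Nat.card ↥(sigmaCore M ⊓ centralizer (K : Set G)) :=
    dvd_card_of_mem_pgroup h.pg hs hs1 hsK
  obtain ⟨R, hR⟩ := exists_sylow_map_eq (h.sylCore hG)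
  have h31 := ((Cfsg.Agent.S1431.result hG M h.hM K hK hK1).2.2.1 q h.qprime hd R).1
  rw [hR] at h31
  exact h.not_unique h31

/-- a prime of `|M|` outside `σ(M)`. -/
theorem exists_prime (hG : IsMinSimpleOddOrder G) (h : Cfg M N q S) :
    ∃ r : ℕ, r.Prime ∧ r ∣ Nat.card M ∧ r ∉ sigma M := by
  have hHall := (Cfsg.Agent.S1350.result hG M h.hM).1
  obtain ⟨E, hE⟩ := Cfsg.Agent.Helper55.BGB.exists_compl_sigmaCore hHall
  have h26 := (Cfsg.Agent.S1426.result hG M h.hM E hE).2.1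
  have hE1 : E ≠ ⊥ := by
    rintro rfl
    rw [Subgroup.commutator_bot_right] at h26
    apply h.ne
    rw [eq_bot_iff, h26]
    exact h.S_le_core hG
  have hc : Nat.card E ≠ 1 := fun h1 => hE1 (Subgroup.card_eq_one.mp h1)
  obtain ⟨r, hr, hrE⟩ := Nat.exists_prime_and_dvd hc
  haveI : Fact r.Prime := ⟨hr⟩
  refine ⟨r, hr, hrE.trans (Subgroup.card_dvd_of_le hE.1), ?_⟩
  intro hrσ
  obtain ⟨x, hx⟩ := exists_prime_orderOf_dvd_card' r hrE
  have hx' : orderOf (x : G) = r := by rw [← hx]; exact Subgroup.orderOf_coe x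
  have hle : zpowers (x : G) ≤ sigmaCore M :=
    Cfsg.Agent.Helper55.BGB.le_sigmaCore_of_isPGroup hr hHall hrσ
      (zpowers_le.mpr (hE.1 x.2)) (isPGroup_zpowers_of_orderOf hx')
  have hmem : (x : G) ∈ E ⊓ sigmaCore M := ⟨x.2, hle (mem_zpowers _)⟩
  rw [hE.2.2.1] at hmem
  exact orderOf_prime_ne_one hr hx' (Subgroup.mem_bot.mp hmem)

/-- Frattini + Cauchy: elements of each prime order outside `σ(M)` in `N_G(S)`. -/
theorem exists_elt (hG : IsMinSimpleOddOrder G) (h : Cfg M N q S) {r : ℕ} (hr : r.Prime)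
    (hrM : r ∣ Nat.card M) (hrσ : r ∉ sigma M) :
    ∃ w ∈ normalizer (S : Set G), orderOf w = r := by
  haveI : Fact q.Prime := ⟨h.qprime⟩
  obtain ⟨w, hw, hwo⟩ := exists_orderOf_normalizer (sigmaCore_le M) (le_normalizer_sigmaCore M)
    (h.sylCore hG) hr hrM (fun hd => hrσ (isPi_sigmaCore M r hr hd))
  exact ⟨w, hw.2, hwo⟩

/-- such a prime is not in `σ(N)`. -/
theorem not_sigma_other (hG : IsMinSimpleOddOrder G) (h : Cfg M N q S) {w : G} {r : ℕ}
    (hr : r.Prime) (hwS : w ∈ normalizer (S : Set G)) (hw : orderOf w = r)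
    (hrσ : r ∉ sigma M) : r ∉ sigma N := by
  intro hrN
  haveI : Fact q.Prime := ⟨h.qprime⟩
  have hwM : w ∈ M := h.nM hwS
  have hwN : w ∈ N := h.nN hwS
  have hrM : r ∣ Nat.card M := by rw [← hw]; exact Subgroup.orderOf_dvd_natCard M hwM
  have hrκ : r ∈ kappa M := h.p1 hG r hr hrM hrσ
  have hHallN := (Cfsg.Agent.S1350.result hG N h.hN).1
  have hwNσ : w ∈ sigmaCore N :=
    Cfsg.Agent.Helper55.BGB.le_sigmaCore_of_isPGroup hr hHallN hrN (zpowers_le.mpr hwN)
      (isPGroup_zpowers_of_orderOf hw) (mem_zpowers w)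
  obtain ⟨s₀, hs₀, hs₀o⟩ := exists_orderOf_eq_of_ne_bot h.pg h.ne
  have hs₀1 : s₀ ≠ 1 := orderOf_prime_ne_one h.qprime hs₀o
  obtain ⟨R, hR⟩ := exists_sylow_map_eq (h.symm.sylCore hG)
  have hβ : q ∉ beta N := by
    intro hβ
    have h23 := (Cfsg.Agent.S1423.result hG N h.hN q h.qN (zpowers s₀)
      (zpowers_le.mpr (h.SN hs₀)) (by rw [Nat.card_zpowers, hs₀o]) R (Or.inl hβ)).2.1
    rw [hR] at h23
    exact h.not_unique h23
  have hnpc := ((Cfsg.Agent.S1414.result hG N h.hN).2.2.2.2 q h.qprime h.qN.2.1 hβ).2.1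
  have hrq : r ≠ q := by
    rintro rfl
    exact hrσ h.qM
  have hcomm := commute_of_normal_complement hnpc (h.symm.S_le_core hG) h.pg hwNσ hwS hr hrq hw
  exact hs₀1 (h.fpf hG hr hwM hw hrκ s₀ hs₀ (hcomm s₀ hs₀))

end Cfg

end Cfsg.Agent.Helper60.BG139
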