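import Mathlib
import Cfsg.Agent.Lib.Helper60.BG139b
import Cfsg.Agent.Lib.Helper21.BGSigma

/-!
# B-G Theorem 13.9 (sigma-partition): the final contradiction
-/

set_option autoImplicit false
set_option linter.style.haveILetI false
set_option linter.unusedSectionVars false

namespace Cfsg.Agent.Helper60.BG139

open Subgroup Cfsg
open Cfsg.Agent.Helper79.BG10 (cj mem_cj conj_mem_cj cj_mul cj_one cj_mono cj_le_iff card_cj
  isPGroup_cj cj_eq_self_of_mem cj_eq_self_of_mem_normalizer mem_normalizer_of_cj_eq cj_inv_cj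
  cj_cj_inv normalizer_cj)
open Cfsg.Agent.Helper55.BGB (sigmaCore_le isPi_sigmaCore le_normalizer_sigmaCore)
open Cfsg.Agent.Helper84 (IsSylIn)

variable {G : Type*} [Group G] [Finite G]

/-- a Sylow subgroup of `M` with normalizer in `M`, read off from `p ∈ σ(M)`, is Sylow in `G`. -/
theorem exists_sylow_of_mem_sigma {M : Subgroup G} {p : ℕ} (hp : p ∈ sigma M) :
    ∃ T : Subgroup G, T ≤ M ∧ IsPGroup p T ∧ ¬ p ∣ T.index ∧ T ≠ ⊥ ∧
      normalizer (T : Set G) ≤ M := by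
  obtain ⟨hpp, hdvd, P, hP⟩ := hp
  haveI : Fact p.Prime := ⟨hpp⟩
  obtain ⟨Q, hQ⟩ := Cfsg.Agent.Helper21.BGSigma.exists_sylow_eq_map M P hP
  refine ⟨(P : Subgroup M).map M.subtype, Subgroup.map_subtype_le _, P.isPGroup'.map _, ?_, ?_, hP⟩
  · rw [← hQ]; exact Q.not_dvd_index
  · intro hbot
    have h1 : (P : Subgroup M) = ⊥ := by
      rw [← Subgroup.map_eq_bot_iff_of_injective _ M.subtype_injective]; exact hbot
    exact P.ne_bot_of_dvd_card hdvd h1

/-- Sylow subgroups of `M_σ` at primes of `K*` control conjugacy classes of maximal subgroups. -/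
theorem conj_of_unique_sylow (hG : IsMinSimpleOddOrder G) {M : Subgroup G} (hM : IsCoatom M)
    {t : ℕ} (ht : t.Prime) (htσ : t ∈ sigma M)
    (hU : ∀ R : Sylow t ↥(sigmaCore M),
      InUniqueMaximal ((R : Subgroup ↥(sigmaCore M)).map (sigmaCore M).subtype)) :
    ∀ L : Subgroup G, IsCoatom L → t ∈ sigma L → ∃ g : G, L = cj g M := by
  intro L hL htL
  haveI : Fact t.Prime := ⟨ht⟩
  obtain ⟨hHall, hHallG, -⟩ := Cfsg.Agent.S1350.result hG M hM
  have R : Sylow t ↥(sigmaCore M) := default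
  set T₁ : Subgroup G := (R : Subgroup ↥(sigmaCore M)).map (sigmaCore M).subtype with hT₁
  have hT₁s : IsSylIn t T₁ (sigmaCore M) := isSylIn_map_sylow R
  have hT₁top : IsSylIn t T₁ ⊤ := by
    refine ⟨le_top, hT₁s.2.1, ?_⟩
    rw [Subgroup.relIndex_top_right, ← Subgroup.relIndex_mul_index hT₁s.1]
    intro hd
    rcases (Nat.Prime.dvd_mul ht).mp hd with h1 | h1
    · exact hT₁s.2.2 h1
    · exact hHallG.2 t ht htσ h1
  obtain ⟨T, hTL, hTp, hTi, -, hTN⟩ := exists_sylow_of_mem_sigma htL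
  have hTtop : IsSylIn t T ⊤ := isSylIn_of_index hTp hTi le_top
  obtain ⟨k, -, hk⟩ := hT₁top.exists_conj hTtop
  -- `T = cj k T₁ ≤ L`, so `T₁ ≤ cj k⁻¹ L`
  have h1 : T₁ ≤ cj k⁻¹ L := by
    rw [← cj_le_iff]
    show T₁.map (MulAut.conj k).toMonoidHom ≤ L
    rw [← hk]; exact hTL
  have hu := hU R
  have hML : cj k⁻¹ L = M :=
    hu.unique ⟨isCoatom_cj' hL k⁻¹, h1⟩ ⟨hM, hT₁s.1.trans (sigmaCore_le M)⟩
  refine ⟨k, ?_⟩
  rw [← hML, cj_cj_inv]

/-- The side lemma: `M` maximal, `z ∈ M` of prime order `p ∈ κ(M)`, `H ∈ 𝓜(N_G(⟨z⟩))`. -/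
theorem side (hG : IsMinSimpleOddOrder G) {M H : Subgroup G} (hM : IsCoatom M) (hH : IsCoatom H)
    {z : G} {p : ℕ} (hp : p.Prime) (hzM : z ∈ M) (hz : orderOf z = p) (hpκ : p ∈ kappa M)
    (hNH : normalizer ((zpowers z : Subgroup G) : Set G) ≤ H) :
    p ∈ sigma H ∧ ∃ (y : G) (t : ℕ), t.Prime ∧ orderOf y = t ∧ y ∈ H ∧
      normalizer ((zpowers y : Subgroup G) : Set G) ≤ M ∧ t ∈ kappa H ∧ t ∈ sigma M ∧
      ∀ L : Subgroup G, IsCoatom L → t ∈ sigma L → ∃ g : G, L = cj g M := by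
  haveI : Fact p.Prime := ⟨hp⟩
  have hsol : Group.IsSolvable M := hG.2.2.2 M hM.1
  have hz1 : z ≠ 1 := orderOf_prime_ne_one hp hz
  -- a Sylow `p`-subgroup of `M` over `z`, and the witness of `p ∈ κ(M)`
  obtain ⟨T, hzT, hT⟩ := Cfsg.Agent.Helper84.exists_isSylIn_ge (p := p) (H := zpowers z) (K := M)
    (zpowers_le.mpr hzM) (isPGroup_zpowers_of_orderOf hz)
  obtain ⟨R, hR⟩ := hT.exists_sylow
  obtain ⟨-, x, hxR, hx1, y₀, hy₀, hy₀1, hxy⟩ := hpκ.2.2.2 R
  have hxT : (x : G) ∈ T := by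
    rw [hR, mem_subgroupOf] at hxR; exact hxR
  -- the Hall `κ(M)`-subgroup over it
  obtain ⟨K, hK, hTK⟩ := exists_hall_ge hsol (kappa M) hpκ hT.2.1 hT.1
  have hzK : z ∈ K := hTK (hzT (mem_zpowers z))
  have hxK : (x : G) ∈ K := hTK hxT
  have hK1 : K ≠ ⊥ := by
    rintro rfl
    exact hz1 (Subgroup.mem_bot.mp hzK)
  obtain ⟨h30a, -, h30c⟩ := Cfsg.Agent.S1430.result hG M hM K hK hK1
  obtain ⟨h31a, -, h31c, -⟩ := Cfsg.Agent.S1431.result hG M hM K hK hK1
  have hzcard : (Nat.card (zpowers z)).Prime := by rw [Nat.card_zpowers, hz]; exact hp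
  have hzH : zpowers z ≤ sigmaCore H :=
    (h30c (zpowers z) (zpowers_le.mpr hzK) hzcard).2.2 H hH hNH
  have hpH : p ∈ sigma H := by
    apply isPi_sigmaCore H p hp
    rw [← hz]
    exact Subgroup.orderOf_dvd_natCard _ (hzH (mem_zpowers z))
  have hpM : p ∉ sigma M := hpκ.2.2.1
  have hHM : ∀ g : G, H ≠ cj g M := by
    intro g hg
    apply hpM
    rw [← Cfsg.Agent.Helper25.BGNat.sigma_cj g M, ← hg]
    exact hpH
  refine ⟨hpH, ?_⟩
  -- `K* ≠ 1`
  have hx1' : (x : G) ≠ 1 := fun h => hx1 (Subtype.ext h)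
  have hy₀K : y₀ ∈ sigmaCore M ⊓ centralizer (K : Set G) := by
    rw [← h30a x hxK hx1']
    exact ⟨hy₀, mem_centralizer_singleton_iff.mpr hxy.symm⟩
  have hKs1 : Nat.card ↥(sigmaCore M ⊓ centralizer (K : Set G)) ≠ 1 := by
    intro h1
    have := Subgroup.card_eq_one.mp h1
    rw [this] at hy₀K
    exact hy₀1 (Subgroup.mem_bot.mp hy₀K)
  obtain ⟨t, ht, htd⟩ := Nat.exists_prime_and_dvd hKs1
  haveI : Fact t.Prime := ⟨ht⟩
  obtain ⟨y', hy'⟩ := exists_prime_orderOf_dvd_card' t htd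
  have hyo : orderOf (y' : G) = t := by rw [← hy']; exact Subgroup.orderOf_coe y'
  have hy1 : (y' : G) ≠ 1 := orderOf_prime_ne_one ht hyo
  have hyMσ : (y' : G) ∈ sigmaCore M := y'.2.1
  have hyCK : (y' : G) ∈ centralizer (K : Set G) := y'.2.2
  have htσ : t ∈ sigma M := by
    apply isPi_sigmaCore M t ht
    rw [← hyo]
    exact Subgroup.orderOf_dvd_natCard _ hyMσ
  -- `N_G(⟨y⟩) ≤ M`
  have hNy : normalizer ((zpowers (y' : G) : Subgroup G) : Set G) ≤ M := by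
    intro g hg
    by_contra hgM
    have h1 := h31a g hgM
    have h2 : (y' : G) ∈ cj g M := by
      rw [mem_cj]
      have := Cfsg.Agent.Helper60.BG144.conj_inv_mem_of_mem_normalizer hg (mem_zpowers (y' : G))
      exact (zpowers_le.mpr (sigmaCore_le M hyMσ)) this
    have h3 : (y' : G) ∈ (sigmaCore M ⊓ centralizer (K : Set G)) ⊓
        M.map (MulAut.conj g).toMonoidHom := ⟨y'.2, h2⟩
    rw [h1] at h3
    exact hy1 (Subgroup.mem_bot.mp h3)
  -- `y ∈ H`
  have hyz : (y' : G) * z = z * (y' : G) := ((mem_centralizer_iff.mp hyCK) z hzK).symm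
  have hyH : (y' : G) ∈ H :=
    hNH (Cfsg.Agent.Helper60.BG144.centralizer_le_normalizer_of_le_zpowers (le_refl (zpowers z))
      (mem_centralizer_singleton_iff.mpr hyz))
  -- conjugacy control
  have hconj := conj_of_unique_sylow hG hM ht htσ (fun R => (h31c t ht htd R).1)
  have htH : t ∉ sigma H := by
    intro htH
    obtain ⟨g, hg⟩ := hconj H hH htH
    exact hHM g hg
  -- the dichotomy for `H`
  have hdich := Cfsg.Agent.S1432.result hG H hH z (hzH (mem_zpowers z)) hz1 (y' : G)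
    ⟨hyH, mem_centralizer_singleton_iff.mpr hyz⟩ hy1
    (by
      intro p' hp' hd
      rw [hyo] at hd
      rw [(Nat.prime_dvd_prime_iff_eq hp' ht).mp hd]
      exact htH)
  have htκ : t ∈ kappa H := by
    rcases hdich with hκ | hτ
    · exact hκ.1 t ht (by rw [hyo])
    · exfalso
      have hCM : centralizer ({(y' : G)} : Set G) ≤ M :=
        (Cfsg.Agent.Helper60.BG144.centralizer_le_normalizer_of_le_zpowers
          (le_refl (zpowers (y' : G)))).trans hNy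
      have := hτ.2.2.2 M hM hCM
      apply hHM 1
      rw [cj_one, this]
  exact ⟨(y' : G), t, ht, hyo, hyH, hNy, htκ, htσ, hconj⟩

/-- The configuration is impossible. -/
theorem Cfg.false (hG : IsMinSimpleOddOrder G) {M N S : Subgroup G} {q : ℕ}
    (h : Cfg M N q S) : False := by
  obtain ⟨p, hp, hpM, hpσ⟩ := h.exists_prime hG
  obtain ⟨z, hzS, hz⟩ := h.exists_elt hG hp hpM hpσ
  have hzM : z ∈ M := h.nM hzS
  have hzN : z ∈ N := h.nN hzS
  have hpκM : p ∈ kappa M := h.p1 hG p hp hpM hpσ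
  have hpσN : p ∉ sigma N := h.not_sigma_other hG hp hzS hz hpσ
  have hpN : p ∣ Nat.card N := by rw [← hz]; exact Subgroup.orderOf_dvd_natCard N hzN
  have hpκN : p ∈ kappa N := h.symm.p1 hG p hp hpN hpσN
  have hz1 : z ≠ 1 := orderOf_prime_ne_one hp hz
  have hZ0 : zpowers z ≠ ⊥ := zpowers_ne_bot.mpr hz1
  have hZ1 : zpowers z ≠ ⊤ := by
    intro htop
    apply h.hM.1
    rw [eq_top_iff, ← htop]
    exact zpowers_le.mpr hzM
  obtain ⟨H, hH, hNH⟩ := Cfsg.Agent.Helper34.BG.exists_coatom_ge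
    (Cfsg.Agent.Helper34.BG.normalizer_ne_top hG hZ0 hZ1)
  obtain ⟨-, y, t, ht, hy, hyH, hNy, htκ, -, -⟩ := side hG h.hM hH hp hzM hz hpκM hNH
  obtain ⟨-, y', t', ht', -, -, -, ht'κ, ht'σN, ht'conj⟩ := side hG h.hN hH hp hzN hz hpκN hNH
  have ht'σM : t' ∉ sigma M := by
    intro hh
    obtain ⟨g, hg⟩ := ht'conj M h.hM hh
    exact h.symm.nc g hg
  -- the Hall `κ(H)`-subgroup over `y` lies in `M`
  haveI : Fact t.Prime := ⟨ht⟩
  have hsolH : Group.IsSolvable H := hG.2.2.2 H hH.1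
  obtain ⟨KH, hKH, hyKH⟩ := exists_hall_ge hsolH (kappa H) htκ (isPGroup_zpowers_of_orderOf hy)
    (zpowers_le.mpr hyH)
  have hy1 : y ≠ 1 := orderOf_prime_ne_one ht hy
  have hKH1 : KH ≠ ⊥ := by
    rintro rfl
    exact hy1 (Subgroup.mem_bot.mp (hyKH (mem_zpowers y)))
  have hycard : (Nat.card (zpowers y)).Prime := by rw [Nat.card_zpowers, hy]; exact ht
  have h30 := ((Cfsg.Agent.S1430.result hG H hH KH hKH hKH1).2.2 (zpowers y) hyKH hycard).1
  have hKHM : KH ≤ M := by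
    have h1 : KH ≤ H ⊓ normalizer ((zpowers y : Subgroup G) : Set G) := by
      rw [h30]; exact le_sup_left
    exact (h1.trans inf_le_right).trans hNy
  have ht'KH : t' ∣ Nat.card KH := dvd_card_of_hall hKH ht' ht'κ ht'κ.2.1
  have ht'M : t' ∣ Nat.card M := ht'KH.trans (Subgroup.card_dvd_of_le hKHM)
  obtain ⟨w, hwS, hw⟩ := h.exists_elt hG ht' ht'M ht'σM
  exact h.not_sigma_other hG ht' hwS hw ht'σM ht'σN

/-- **B-G Theorem 13.9**, second half: maximal subgroups with a common `σ`-prime are conjugate. -/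
theorem conj_of_sigma_inter (hG : IsMinSimpleOddOrder G) (M N : Subgroup G) (hM : IsCoatom M)
    (hN : IsCoatom N) (hne : (sigma M ∩ sigma N).Nonempty) :
    ∃ g : G, N = M.map (MulAut.conj g).toMonoidHom := by
  by_contra hnc
  push Not at hnc
  obtain ⟨q, hqM, hqN⟩ := hne
  haveI : Fact q.Prime := ⟨hqM.1⟩
  obtain ⟨TM, hTM, hTMp, hTMi, -, hTMN⟩ := exists_sylow_of_mem_sigma hqM
  obtain ⟨TN, hTN, hTNp, hTNi, hTN1, hTNN⟩ := exists_sylow_of_mem_sigma hqN
  obtain ⟨k, -, hk⟩ := (isSylIn_of_index hTMp hTMi le_top).exists_conj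
    (isSylIn_of_index hTNp hTNi le_top)
  have hk' : TN = cj k TM := hk
  apply Cfg.false hG (M := cj k M) (N := N) (S := TN) (q := q)
  refine ⟨isCoatom_cj' hM k, hN, ?_, hqN, hTNp, hTNi, hTN1, ?_, hTNN, ?_⟩
  · rw [Cfsg.Agent.Helper25.BGNat.sigma_cj]; exact hqM
  · rw [hk', normalizer_cj]
    exact cj_mono k hTMN
  · intro g
    rw [← cj_mul]
    exact hnc (g * k)

/-- **B-G Theorem 13.9**, first half: every prime divisor of `|G|` is in some `σ(M)`. -/
theorem exists_sigma (hG : IsMinSimpleOddOrder G) (p : ℕ) (hp : p.Prime) (hd : p ∣ Nat.card G) :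
    ∃ M : Subgroup G, IsCoatom M ∧ p ∈ sigma M := by
  haveI : Fact p.Prime := ⟨hp⟩
  haveI := hG.2.1
  have P : Sylow p G := default
  obtain ⟨M, hM, hle⟩ :=
    Cfsg.Agent.Helper21.BGSigma.exists_coatom_normalizer_sylow_le hG.2.2.1 hd P
  have hPM : (P : Subgroup G) ≤ M := le_normalizer.trans hle
  have hS : Cfsg.Agent.Helper33.IsSylIn p (P : Subgroup G) M := by
    have := isSylIn_of_index P.isPGroup' P.not_dvd_index hPM
    exact this
  have hPne : (P : Subgroup G) ≠ ⊥ := P.ne_bot_of_dvd_card hd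
  obtain ⟨s, hs, hso⟩ := exists_orderOf_eq_of_ne_bot P.isPGroup' hPne
  have hpM : p ∣ Nat.card M := by
    rw [← hso]; exact Subgroup.orderOf_dvd_natCard M (hPM hs)
  exact ⟨M, hM, Cfsg.Agent.Helper34.BG.mem_sigma_of_isSylIn hS hpM hle⟩

theorem s1378 (hG : IsMinSimpleOddOrder G) :
    (∀ p : ℕ, p.Prime → p ∣ Nat.card G → ∃ M : Subgroup G, IsCoatom M ∧ p ∈ Cfsg.sigma M) ∧
      ∀ M N : Subgroup G, IsCoatom M → IsCoatom N → (Cfsg.sigma M ∩ Cfsg.sigma N).Nonempty →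
        ∃ g : G, N = M.map (MulAut.conj g).toMonoidHom :=
  ⟨exists_sigma hG, conj_of_sigma_inter hG⟩

end Cfsg.Agent.Helper60.BG139
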