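import Mathlib
import Cfsg.Agent.S1350
import Cfsg.Agent.S1411
import Cfsg.Agent.S1414
import Cfsg.Agent.Lib.Helper98.BG139R9
import Cfsg.Agent.Lib.Helper60.BG161C2a

/-!
# B-G Theorem 14.2 (helper54's `BG142_PROOF.md`): LEMMA Q

`q ∈ σ(M) - β(M)`, `Q` a Sylow `q`-subgroup of `M_σ`, `E` a complement of `M_σ` in `M`:
then `E` does not centralize `Q`.  (From S1350, S1411, S1414.)
-/

set_option autoImplicit false
set_option linter.style.haveILetI false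
set_option linter.unusedSectionVars false

namespace Cfsg.Agent.Helper60.BG142

open Subgroup Cfsg
open Cfsg.Agent.Helper79.BG10 (cj mem_cj conj_mem_cj cj_mul cj_one cj_mono cj_le_iff card_cj
  isPGroup_cj cj_eq_self_of_mem cj_eq_self_of_mem_normalizer mem_normalizer_of_cj_eq cj_inv_cj
  cj_cj_inv normalizer_cj)
open Cfsg.Agent.Helper55.BGB (sigmaCore_le isPi_sigmaCore le_normalizer_sigmaCore)
open Cfsg.Agent.Helper84 (IsSylIn)
open Cfsg.Agent.Helper60.BG161 (isSylIn_of_index exists_sylow_of_mem_sigma)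

variable {G : Type*} [Group G] [Finite G]

theorem isComplIn_symm {A B M : Subgroup G} (h : IsComplIn A B M) : IsComplIn B A M := by
  refine ⟨h.2.1, h.1, by rw [inf_comm]; exact h.2.2.1, ?_⟩
  intro m hm
  obtain ⟨a, ha, b, hb, hab⟩ := h.2.2.2 m⁻¹ (inv_mem hm)
  refine ⟨b⁻¹, inv_mem hb, a⁻¹, inv_mem ha, ?_⟩
  have : m = (m⁻¹)⁻¹ := (inv_inv m).symm
  rw [this, hab]; group

/-- every Sylow `q`-subgroup of `M` (`q ∈ σ(M)`) has its normalizer inside `M`. -/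
theorem normalizer_le_of_isSylIn {M Q : Subgroup G} {q : ℕ} [Fact q.Prime] (hqσ : q ∈ sigma M)
    (hQ : IsSylIn q Q M) : normalizer (Q : Set G) ≤ M := by
  obtain ⟨T, hTM, hTp, hTi, -, hTN⟩ := exists_sylow_of_mem_sigma hqσ
  obtain ⟨k, hk, hkQ⟩ := (isSylIn_of_index hTp hTi hTM).exists_conj hQ
  have hkQ' : Q = cj k T := hkQ
  rw [hkQ', normalizer_cj]
  have := cj_mono k hTN
  rwa [cj_eq_self_of_mem hk] at this

/-- in a group with a normal `q`-complement, the normalizer of a Sylow `q`-subgroup `Q` is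
`C(Q) Q`. -/
theorem exists_mul_of_mem_normalizer {Ms Q : Subgroup G} {q : ℕ} [hq : Fact q.Prime]
    (hnpc : HasNormalPComplement q ↥Ms) (hQ : IsSylIn q Q Ms) {s : G} (hsMs : s ∈ Ms)
    (hsQ : s ∈ normalizer (Q : Set G)) :
    ∃ d ∈ centralizer (Q : Set G), ∃ t ∈ Q, s = d * t := by
  obtain ⟨P₀, D, hDn, hcompl⟩ := hnpc
  haveI := hDn
  obtain ⟨R, hR⟩ := hQ.exists_sylow
  have hcardR : Nat.card (R : Subgroup ↥Ms) = Nat.card (P₀ : Subgroup ↥Ms) := by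
    rw [Sylow.card_eq_multiplicity, Sylow.card_eq_multiplicity]
  have hDcard : Nat.card D = (P₀ : Subgroup ↥Ms).index := (hcompl.index_eq_card).symm
  have hcopD : (Nat.card D).Coprime (Nat.card (R : Subgroup ↥Ms)) := by
    obtain ⟨a, ha⟩ := R.isPGroup'.exists_card_eq
    rw [ha, hDcard]
    apply Nat.Coprime.pow_right
    rw [Nat.coprime_comm, Nat.Prime.coprime_iff_not_dvd hq.out]
    exact P₀.not_dvd_index
  have hdisj' : Disjoint D (R : Subgroup ↥Ms) := Subgroup.disjoint_of_coprime_natCard hcopD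
  have hdisj : D ⊓ (R : Subgroup ↥Ms) = ⊥ := disjoint_iff.mp hdisj'
  have hc : D.IsComplement' (R : Subgroup ↥Ms) := by
    apply Subgroup.isComplement'_of_card_mul_and_disjoint
    · rw [hcardR]; exact hcompl.card_mul_card
    · exact hdisj'
  obtain ⟨⟨d, t⟩, hdt⟩ := hc.2 (⟨s, hsMs⟩ : ↥Ms)
  have hdt' : (d : ↥Ms) * (t : ↥Ms) = ⟨s, hsMs⟩ := hdt
  have htQ : ((t : ↥Ms) : G) ∈ Q := by
    have h3 : (t : ↥Ms) ∈ Q.subgroupOf Ms := by rw [← hR]; exact t.2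
    exact mem_subgroupOf.mp h3
  have hval : ((d : ↥Ms) : G) * ((t : ↥Ms) : G) = s := by
    have := congrArg Subtype.val hdt'
    simpa using this
  have hdN : ((d : ↥Ms) : G) ∈ normalizer (Q : Set G) := by
    have e : ((d : ↥Ms) : G) = s * ((t : ↥Ms) : G)⁻¹ := by rw [← hval]; group
    rw [e]
    exact mul_mem hsQ (inv_mem (le_normalizer htQ))
  refine ⟨((d : ↥Ms) : G), ?_, ((t : ↥Ms) : G), htQ, hval.symm⟩
  rw [mem_centralizer_iff]
  intro x hx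
  have hxMs : x ∈ Ms := hQ.1 hx
  -- the commutator `d x d⁻¹ x⁻¹` lies in `D ⊓ R`
  have hcD : (d : ↥Ms) * ⟨x, hxMs⟩ * (d : ↥Ms)⁻¹ * (⟨x, hxMs⟩ : ↥Ms)⁻¹ ∈ D := by
    have h1 : (⟨x, hxMs⟩ : ↥Ms) * (d : ↥Ms)⁻¹ * (⟨x, hxMs⟩ : ↥Ms)⁻¹ ∈ D :=
      hDn.conj_mem _ (D.inv_mem d.2) _
    have e : (d : ↥Ms) * ⟨x, hxMs⟩ * (d : ↥Ms)⁻¹ * (⟨x, hxMs⟩ : ↥Ms)⁻¹ =
        (d : ↥Ms) * ((⟨x, hxMs⟩ : ↥Ms) * (d : ↥Ms)⁻¹ * (⟨x, hxMs⟩ : ↥Ms)⁻¹) := by group
    rw [e]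
    exact D.mul_mem d.2 h1
  have hcQ : ((d : ↥Ms) : G) * x * ((d : ↥Ms) : G)⁻¹ * x⁻¹ ∈ Q :=
    Q.mul_mem (Cfsg.Agent.Helper60.BG144.conj_mem_of_mem_normalizer hdN hx) (Q.inv_mem hx)
  have hcR : (d : ↥Ms) * ⟨x, hxMs⟩ * (d : ↥Ms)⁻¹ * (⟨x, hxMs⟩ : ↥Ms)⁻¹ ∈ (R : Subgroup ↥Ms) := by
    rw [hR, mem_subgroupOf]
    exact hcQ
  have hbot : (d : ↥Ms) * ⟨x, hxMs⟩ * (d : ↥Ms)⁻¹ * (⟨x, hxMs⟩ : ↥Ms)⁻¹ ∈ D ⊓ (R : Subgroup ↥Ms) :=
    ⟨hcD, hcR⟩
  rw [hdisj, Subgroup.mem_bot] at hbot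
  have h1 : ((d : ↥Ms) : G) * x * ((d : ↥Ms) : G)⁻¹ * x⁻¹ = 1 := by
    have := congrArg Subtype.val hbot
    simpa using this
  have e : x * ((d : ↥Ms) : G) =
      (((d : ↥Ms) : G) * x * ((d : ↥Ms) : G)⁻¹ * x⁻¹)⁻¹ * (((d : ↥Ms) : G) * x) := by group
  rw [e, h1]; simp

/-- **LEMMA Q** of `BG142_PROOF.md`. -/
theorem lemma_Q (hG : IsMinSimpleOddOrder G) {M E Q : Subgroup G} (hM : IsCoatom M)
    (hE : IsComplIn E (sigmaCore M) M) {q : ℕ} [hq : Fact q.Prime] (hqσ : q ∈ sigma M)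
    (hqβ : q ∉ beta M) (hQ : IsSylIn q Q (sigmaCore M)) :
    ¬ E ≤ centralizer (Q : Set G) := by
  intro hEC
  obtain ⟨hHall, hHallG, -⟩ := Cfsg.Agent.S1350.result hG M hM
  have hidx : ¬ q ∣ Q.index := by
    rw [← Subgroup.relIndex_mul_index hQ.1]
    intro hd
    rcases (Nat.Prime.dvd_mul hq.out).mp hd with h1 | h1
    · exact hQ.2.2 h1
    · exact hHallG.2 q hq.out hqσ h1
  have hQM : IsSylIn q Q M := isSylIn_of_index hQ.2.1 hidx (hQ.1.trans (sigmaCore_le M))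
  have hNM : normalizer (Q : Set G) ≤ M := normalizer_le_of_isSylIn hqσ hQM
  -- `Q ≠ ⊥`
  have hQ1 : Q ≠ ⊥ := by
    rintro rfl
    apply hQM.2.2
    rw [Subgroup.relIndex_bot_left]
    exact hqσ.2.1
  -- a complement `V` of `Q` in `N_G(Q)`
  have hcop : (Nat.card Q).Coprime (Q.relIndex (normalizer (Q : Set G))) := by
    obtain ⟨a, ha⟩ := hQ.2.1.exists_card_eq
    rw [ha]
    apply Nat.Coprime.pow_left
    rw [Nat.Prime.coprime_iff_not_dvd hq.out]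
    intro hd
    apply hidx
    rw [← Subgroup.relIndex_mul_index (le_normalizer : Q ≤ normalizer (Q : Set G))]
    exact Dvd.dvd.mul_right hd _
  obtain ⟨V, -, hV⟩ := Cfsg.Agent.Helper98.BG139Req.exists_compl_le (normalizer (Q : Set G)) Q
    (normalizer (Q : Set G)) le_normalizer le_rfl hcop le_rfl le_sup_right
  have hV' : IsComplIn Q V (normalizer (Q : Set G)) := isComplIn_symm hV
  have h11 := (Cfsg.Agent.S1411.result hG q (hQ.2.1.toSylow hidx) V hV').1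
  have h11' : Q = ⁅Q, V⁆ := h11
  -- but `[Q, V] ≤ [Q, Q]`
  have hnpc := ((Cfsg.Agent.S1414.result hG M hM).2.2.2.2 q hq.out hqσ.2.1 hqβ).2.1
  have hle : ⁅Q, V⁆ ≤ ⁅Q, Q⁆ := by
    rw [Subgroup.commutator_le]
    intro x hx v hv
    have hvN : v ∈ normalizer (Q : Set G) := hV'.2.1 hv
    obtain ⟨e, he, s, hs, hes⟩ := hE.2.2.2 v (hNM hvN)
    have heC : e ∈ centralizer (Q : Set G) := hEC he
    have hsN : s ∈ normalizer (Q : Set G) := by
      have e1 : s = e⁻¹ * v := by rw [hes]; group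
      rw [e1]
      exact mul_mem (inv_mem (Subgroup.centralizer_le_normalizer _ heC)) hvN
    obtain ⟨d, hd, t, ht, hdt⟩ := exists_mul_of_mem_normalizer hnpc hQ hs hsN
    have hcC : e * d ∈ centralizer (Q : Set G) := mul_mem heC hd
    set c := e * d with hcdef
    have hv : v = c * t := by rw [hes, hdt, hcdef]; group
    have hw : x * t * x⁻¹ * t⁻¹ ∈ Q := Q.mul_mem (Q.mul_mem (Q.mul_mem hx ht) (Q.inv_mem hx))
      (Q.inv_mem ht)
    have hcx : x * c = c * x := (mem_centralizer_iff.mp hcC) x hx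
    have hcw : x * t * x⁻¹ * t⁻¹ * c = c * (x * t * x⁻¹ * t⁻¹) := (mem_centralizer_iff.mp hcC) _ hw
    have hcomm : x * v * x⁻¹ * v⁻¹ = x * t * x⁻¹ * t⁻¹ := by
      rw [hv]
      have e1 : x * (c * t) * x⁻¹ * (c * t)⁻¹ = (x * c) * (t * x⁻¹ * t⁻¹) * c⁻¹ := by group
      rw [e1, hcx]
      have e2 : c * x * (t * x⁻¹ * t⁻¹) * c⁻¹ = c * (x * t * x⁻¹ * t⁻¹) * c⁻¹ := by group
      rw [e2, ← hcw]; group
    have h3 := Subgroup.commutator_mem_commutator hx ht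
    rw [commutatorElement_def] at h3 ⊢
    rw [hcomm]
    exact h3
  have hQQ : Q ≤ ⁅Q, Q⁆ := by
    have := hle
    rwa [← h11'] at this
  -- contradiction: `Q` is a nontrivial nilpotent group
  haveI : Nontrivial ↥Q := (Subgroup.nontrivial_iff_ne_bot Q).mpr hQ1
  haveI : Group.IsNilpotent ↥Q := hQ.2.1.isNilpotent
  have hlt : commutator ↥Q < ⊤ := Group.IsSolvable.commutator_lt_top_of_nontrivial ↥Q
  apply hlt.ne
  rw [eq_top_iff]
  intro x _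
  have hx : (x : G) ∈ ⁅Q, Q⁆ := hQQ x.2
  rw [← Subgroup.map_subtype_commutator] at hx
  obtain ⟨y, hy, hyx⟩ := hx
  have : y = x := Subtype.ext hyx
  rwa [this] at hy

end Cfsg.Agent.Helper60.BG142
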