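import Mathlib
import Cfsg.Agent.S1350
import Cfsg.Agent.S1429
import Cfsg.Agent.S1446
import Cfsg.Agent.Lib.Helper15.BGV.Core
import Cfsg.Agent.Lib.Helper34.BG10c
import Cfsg.Agent.Lib.Helper60.BG161C2a
import Cfsg.Agent.Lib.Helper60.BGAsymAS3b

/-!
# (Q15) of helper54's B-G 14.2 server (`tools/bg142_sigs_helper54.lean.txt`):
not type P1 => every prime of `M_σ` is in `β(M)`.  BACKUP version by helper60.
-/

set_option autoImplicit false
set_option linter.unusedSectionVars false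
set_option linter.unusedVariables false
set_option linter.style.haveILetI false

namespace Cfsg.Agent.Helper60.BG142Req

open Subgroup Cfsg
open Cfsg.Agent.Helper52 (sylCard)
open Cfsg.Agent.Helper60.BGAsym (exists_gen_of_card_prime centralizer_eq_of_gen
  le_normalizer_of_conj_mem'' omega1 mem_omega1 omega1_le omega1_elemAb
  normalizer_le_normalizer_omega1 omega1_ne_bot)
open Cfsg.Agent.Helper60.BG161 (zc zc_le zc_comm normalizer_le_normalizer_zc zc_ne_bot_of_nilpotent)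

variable {G : Type*} [Group G] [Finite G]

/-- `Ω₁`-type closure: the subgroup generated by the elements of order dividing `p` of `S` is
normalized by `N_G(S)`. -/
theorem normalizer_le_normalizer_closure_pow (S : Subgroup G) (p : ℕ) :
    normalizer (S : Set G) ≤
      normalizer ((Subgroup.closure {x : G | x ∈ S ∧ x ^ p = 1} : Subgroup G) : Set G) := by
  apply le_normalizer_of_conj_mem''
  intro g hg w hw
  induction hw using Subgroup.closure_induction with
  | mem x hx =>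
    apply Subgroup.subset_closure
    refine ⟨(mem_normalizer_iff.mp hg x).mp hx.1, ?_⟩
    rw [conj_pow, hx.2]; simp
  | one => simp
  | mul x y _ _ hx hy =>
    have e : g * (x * y) * g⁻¹ = (g * x * g⁻¹) * (g * y * g⁻¹) := by group
    rw [e]; exact Subgroup.mul_mem _ hx hy
  | inv x _ hx =>
    have e : g * x⁻¹ * g⁻¹ = (g * x * g⁻¹)⁻¹ := by group
    rw [e]; exact Subgroup.inv_mem _ hx

theorem closure_pow_le (S : Subgroup G) (p : ℕ) :
    (Subgroup.closure {x : G | x ∈ S ∧ x ^ p = 1} : Subgroup G) ≤ S := by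
  rw [Subgroup.closure_le]
  intro x hx
  exact hx.1

theorem closure_pow_ne_bot {S : Subgroup G} {p : ℕ} [Fact p.Prime] (hS : IsPGroup p S)
    (hS1 : S ≠ ⊥) : (Subgroup.closure {x : G | x ∈ S ∧ x ^ p = 1} : Subgroup G) ≠ ⊥ := by
  have htd : p ∣ Nat.card ↥S := Cfsg.Agent.Helper15.BGV.dvd_card_of_le hS hS1 le_rfl
  obtain ⟨x, hx⟩ := exists_prime_orderOf_dvd_card' p htd
  have hx1 : (x : G) ≠ 1 := by
    intro h
    have : x = 1 := Subtype.ext h
    rw [this, orderOf_one] at hx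
    exact (Fact.out : p.Prime).one_lt.ne hx
  intro hbot
  have hmem : (x : G) ∈ (Subgroup.closure {x : G | x ∈ S ∧ x ^ p = 1} : Subgroup G) := by
    apply Subgroup.subset_closure
    refine ⟨x.2, ?_⟩
    have h1 : x ^ p = 1 := by rw [← hx]; exact pow_orderOf_eq_one x
    have := congrArg Subtype.val h1
    simpa using this
  rw [hbot, mem_bot] at hmem
  exact hx1 hmem

/-- **(Q15)**: statement VERBATIM from `tools/bg142_sigs_helper54.lean.txt`. -/
theorem mem_beta_of_not_P1 (hG : Cfsg.IsMinSimpleOddOrder G) (M : Subgroup G) (hM : IsCoatom M)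
    (q0 : ℕ) [Fact q0.Prime] (hq0M : q0 ∣ Nat.card M) (hq0 : q0 ∉ Cfsg.sigma M ∪ Cfsg.kappa M)
    (S : Sylow q0 M) (X : Subgroup G) (hXM : X ≤ M) (hX : (Nat.card X).Prime)
    (hXσ : Nat.card X ∉ Cfsg.sigma M)
    (hXS : X ≤ normalizer (((S : Subgroup M).map M.subtype : Subgroup G) : Set G))
    (hfpf : ∀ x ∈ X, x ≠ 1 →
      (S : Subgroup M).map M.subtype ⊓ centralizer ({x} : Set G) = ⊥)
    (q : ℕ) (hq : q.Prime) (hqM : q ∣ Nat.card ↥(Cfsg.sigmaCore M)) :
    q ∈ Cfsg.beta M := by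
  haveI : Fact q.Prime := ⟨hq⟩
  have hq0p : q0.Prime := Fact.out
  obtain ⟨p, hp⟩ : ∃ p, Nat.card X = p := ⟨_, rfl⟩
  rw [hp] at hX hXσ
  haveI : Fact p.Prime := ⟨hX⟩
  have hHall : IsPiHallOf (sigma M) (sigmaCore M) M := (Cfsg.Agent.S1350.result hG M hM).1
  have hqσ : q ∈ sigma M := hHall.2.1 q hq hqM
  have hq0σ : q0 ∉ sigma M := fun h => hq0 (Or.inl h)
  have hqq0 : q ≠ q0 := fun h => hq0σ (h ▸ hqσ)
  have hqp : q ≠ p := fun h => hXσ (h ▸ hqσ)
  -- S1429
  have hP1 : ¬ (∀ q' : ℕ, q'.Prime → q' ∣ Nat.card M → q' ∉ Cfsg.sigma M → q' ∈ Cfsg.kappa M) :=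
    fun h => hq0 (Or.inr (h q0 hq0p hq0M hq0σ))
  obtain ⟨hWcard, hCW, hnil⟩ := Cfsg.Agent.S1429.result hG M hM hP1 q0 hq0M hq0 S
  set SG : Subgroup G := (S : Subgroup M).map M.subtype with hSG
  set W : Subgroup G := Subgroup.closure {x : G | x ∈ SG ∧ x ^ q0 = 1} with hW
  have hSGM : SG ≤ M := Subgroup.map_subtype_le _
  have hSGq0 : IsPGroup q0 SG := S.isPGroup'.map _
  have hSG1 : SG ≠ ⊥ := by
    intro h
    have h1 : (S : Subgroup M) = ⊥ := by
      rw [← Subgroup.map_eq_bot_iff_of_injective _ M.subtype_injective]; exact h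
    exact S.ne_bot_of_dvd_card hq0M h1
  have hWSG : W ≤ SG := closure_pow_le SG q0
  have hW1 : W ≠ ⊥ := closure_pow_ne_bot hSGq0 hSG1
  have hWq0 : IsPGroup q0 W := hSGq0.to_le hWSG
  have hXW : X ≤ normalizer (W : Set G) :=
    hXS.trans (normalizer_le_normalizer_closure_pow SG q0)
  have hfrob : ∀ r ∈ X, r ≠ 1 → W ⊓ centralizer ({r} : Set G) = ⊥ := by
    intro r hr hr1
    rw [eq_bot_iff, ← hfpf r hr hr1]
    exact inf_le_inf_right _ hWSG
  have hWX : W ⊓ X = ⊥ := by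
    rw [eq_bot_iff]
    intro r hr
    rw [mem_bot]
    by_contra hr1
    have : r ∈ W ⊓ centralizer ({r} : Set G) :=
      ⟨hr.1, mem_centralizer_singleton_iff.mpr rfl⟩
    rw [hfrob r hr.2 hr1, mem_bot] at this
    exact hr1 this
  have hX1 : X ≠ ⊥ := by
    intro h
    rw [h, Subgroup.card_bot] at hp
    exact hX.one_lt.ne hp
  -- the Sylow `q`-subgroup `P` of `M_σ`, `Z = Z(P)`, `V = Ω₁ Z`
  obtain ⟨P, hPK, hPc, hMP⟩ := Cfsg.Agent.Helper15.BGV.exists_normal_sylow_of_nilpotent hnil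
    (Cfsg.Agent.Helper55.BGB.le_normalizer_sigmaCore M) q
  have hPq : IsPGroup q P := Cfsg.Agent.Helper22.isPGroup_of_card_sylCard hPc
  have hP1' : P ≠ ⊥ := by
    intro h
    rw [h, Subgroup.card_bot] at hPc
    have h1 : q ∣ sylCard q (sigmaCore M) := by
      unfold sylCard
      apply dvd_pow_self
      exact (Nat.Prime.factorization_pos_of_dvd hq Nat.card_pos.ne' hqM).ne'
    rw [← hPc] at h1
    exact hq.one_lt.ne' (Nat.dvd_one.mp h1)
  have hZ1 : zc P ≠ ⊥ := zc_ne_bot_of_nilpotent hPq.isNilpotent hP1'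
  have hZq : IsPGroup q (zc P) := hPq.to_le (zc_le P)
  have hc := zc_comm P
  set V : Subgroup G := omega1 (zc P) q hc with hV
  have hV1 : V ≠ ⊥ := omega1_ne_bot hc hZq hZ1
  have hVe : IsElementaryAbelian q V := omega1_elemAb (zc P) q hc
  have hVZ : V ≤ zc P := omega1_le (zc P) q hc
  have hVP : V ≤ P := hVZ.trans (zc_le P)
  have hVσ : V ≤ sigmaCore M := hVP.trans hPK
  have hVM : V ≤ M := hVσ.trans (Cfsg.Agent.Helper55.BGB.sigmaCore_le M)
  have hMV : M ≤ normalizer (V : Set G) :=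
    hMP.trans ((normalizer_le_normalizer_zc P).trans (normalizer_le_normalizer_omega1 (zc P) q hc))
  have hVq : IsPGroup q V := hZq.to_le hVZ
  -- S1446
  have hWXM : W ⊔ X ≤ M := sup_le (hWSG.trans hSGM) hXM
  have hsolv : Group.IsSolvable ↥(W ⊔ X) :=
    Cfsg.Agent.Helper34.BG.solvable_of_ne_top hG
      (Cfsg.Agent.Helper34.BG.ne_top_of_le_coatom hM hWXM)
  have hodd : Odd (Nat.card ↥(W ⊔ X)) := Cfsg.Agent.Helper34.BG.odd_card_subgroup hG _
  have hqW : ¬ q ∣ Nat.card W := by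
    obtain ⟨k, hk⟩ := IsPGroup.iff_card.mp hWq0
    rw [hk]
    intro hd
    exact hqq0 ((Nat.prime_dvd_prime_iff_eq hq hq0p).mp (hq.dvd_of_dvd_pow hd))
  have hqX : ¬ q ∣ Nat.card X := by
    rw [hp]
    intro hd
    exact hqp ((Nat.prime_dvd_prime_iff_eq hq hX).mp hd)
  have hcop : (Nat.card ↥(W ⊔ X)).Coprime (Nat.card V) :=
    (Cfsg.Agent.Helper15.BGV.coprime_card_sup hVq hXW hqW hqX).symm
  have hCK : V ⊓ centralizer (W : Set G) = ⊥ := by
    rw [eq_bot_iff, ← hCW]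
    exact inf_le_inf_right _ hVσ
  have hpr : ∀ x ∈ X, x ≠ 1 →
      V ⊓ centralizer ({x} : Set G) = V ⊓ centralizer (X : Set G) := by
    intro x hx hx1
    rw [centralizer_eq_of_gen hX hp hx hx1]
  obtain ⟨-, hcardV, -⟩ := Cfsg.Agent.S1446.result W X V hW1 hX1 hWX hXW hfrob hsolv hodd hV1
    hVq.isNilpotent ((hWSG.trans hSGM).trans hMV) (hXM.trans hMV) hcop hCK hpr
  rw [hp] at hcardV
  -- `q ^ 2 < card V`
  have hp2 : p ≠ 2 :=
    Cfsg.Agent.Helper34.BG.prime_ne_two hG X (by rw [hp])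
  have hp3 : 3 ≤ p := by
    have := hX.two_le
    omega
  obtain ⟨k, hk⟩ := IsPGroup.iff_card.mp hVq
  have hcdvd : Nat.card ↥(V ⊓ centralizer (X : Set G)) ∣ q ^ k :=
    hk ▸ Subgroup.card_dvd_of_le inf_le_left
  obtain ⟨j, hjk, hj⟩ := (Nat.dvd_prime_pow hq).mp hcdvd
  have hj0 : j ≠ 0 := by
    intro h0
    rw [h0, pow_zero] at hj
    rw [hj, one_pow] at hcardV
    exact hV1 (Subgroup.card_eq_one.mp hcardV)
  have hVbig : q ^ 2 < Nat.card V := by
    rw [hcardV, hj, ← pow_mul]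
    apply Nat.pow_lt_pow_right hq.one_lt
    have : 1 * 3 ≤ j * p := Nat.mul_le_mul (Nat.one_le_iff_ne_zero.mpr hj0) hp3
    omega
  -- `q ∈ α(M)`
  have hα : q ∈ alpha M := ⟨hq, Cfsg.Agent.Helper34.BG.not_pRankLE_of_elemAb hVM hVe hVbig⟩
  refine ⟨hα, hq, Cfsg.Agent.Helper34.BG.not_pRankLE_top_of_elemAb hVe hVbig, ?_⟩
  -- ideal
  intro P' A hAP' hAe hAc
  have hPcM : Nat.card P = sylCard q M := by
    rw [hPc]; exact Cfsg.Agent.Helper15.BGV.sylCard_sigmaCore hHall hqσ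
  have hPtop : Nat.card P = sylCard q (⊤ : Subgroup G) :=
    Cfsg.Agent.Helper15.BGV.card_eq_sylCard_top_of_mem_sigma hqσ
      (hPK.trans (Cfsg.Agent.Helper55.BGB.sigmaCore_le M)) hPcM
  have hP'top : Nat.card (P' : Subgroup G) = sylCard q (⊤ : Subgroup G) := by
    rw [Sylow.card_eq_multiplicity]
    unfold sylCard
    rw [Subgroup.card_top]
  obtain ⟨g, -, hg⟩ := Cfsg.Agent.Helper52.exists_conj_of_card q ⊤ P (P' : Subgroup G) le_top
    le_top hPtop hP'top
  set V' : Subgroup G := V.map (MulAut.conj g).toMonoidHom with hV'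
  have hV'e : IsElementaryAbelian q V' := Cfsg.Agent.Helper15.BGU.isElementaryAbelian_conj hVe g
  have hV'P' : V' ≤ (P' : Subgroup G) := by
    rw [hg]; exact Subgroup.map_mono hVP
  have hV'c : ∀ a ∈ A, ∀ b ∈ V', a * b = b * a := by
    intro a ha b hb
    obtain ⟨v, hv, rfl⟩ := hb
    have haP : a ∈ P.map (MulAut.conj g).toMonoidHom := hg ▸ hAP' ha
    obtain ⟨a0, ha0, rfl⟩ := haP
    have hvz : v ∈ centralizer (P : Set G) := (hVZ hv).2
    have h1 : a0 * v = v * a0 := (mem_centralizer_iff.mp hvz) a0 ha0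
    simp only [MulEquiv.coe_toMonoidHom, MulAut.conj_apply]
    have e1 : g * a0 * g⁻¹ * (g * v * g⁻¹) = g * (a0 * v) * g⁻¹ := by group
    have e2 : g * v * g⁻¹ * (g * a0 * g⁻¹) = g * (v * a0) * g⁻¹ := by group
    rw [e1, e2, h1]
  refine ⟨A ⊔ V', sup_le hAP' hV'P',
    Cfsg.Agent.Helper34.BG.isElementaryAbelian_sup hAe hV'e hV'c, ?_⟩
  refine lt_of_le_of_ne le_sup_left ?_
  intro hEq
  have hV'A : V' ≤ A := by rw [hEq]; exact le_sup_right
  have h1 : Nat.card V' ≤ Nat.card A := Subgroup.card_le_of_le hV'A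
  rw [hV', Cfsg.Agent.Helper52.card_map_conj, hAc] at h1
  omega

end Cfsg.Agent.Helper60.BG142Req
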