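import Cfsg.Agent.Lib.Helper1.CD3.Defs
import Cfsg.Agent.S0173
import Cfsg.Agent.S0133
import Cfsg.Agent.S4127
import Mathlib

/-!
CD3B (P5) `p_central` for helper1's lemma server (S4460): a `p`-element fixing every irreducible character of
the normal `p'`-subgroup `R` centralises `R` (Brauer's permutation lemma + fixed points of `p`-groups + a finite
group is not the union of the conjugates of a proper subgroup).
-/

set_option autoImplicit false

namespace Cfsg.Agent.Helper60.CD3B

open Cfsg Cfsg.Agent.Helper81 Cfsg.Agent.Helper1.CD3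

universe u

/-- `conjFun` by `z` is composition with `MulAut.conjNormal z`. -/
theorem p5_conjFun_eq {Φ : Type u} [Group Φ] (R : Subgroup Φ) (hR : R.Normal) (ρ : R → ℂ) (z : Φ) :
    conjFun R hR ρ z = ρ ∘ (@MulAut.conjNormal Φ _ R hR z : R ≃* R) := by
  funext n
  rw [conjFun_apply, Function.comp_apply]
  congr 1

/-- an automorphism fixing every irreducible character fixes every conjugacy class. -/
theorem p5_class_fixed {R : Type u} [Group R] [Finite R] (α : R ≃* R)
    (h : ∀ ρ : R → ℂ, IsIrrCharacter R ρ → ρ ∘ α = ρ) (C : ConjClasses R) :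
    ConjClasses.map α.toMonoidHom C = C := by
  have h1 := Cfsg.Agent.S0173.result α
  have h2 : Nat.card {χ : Cfsg.IrrCharacter R // (χ : R → ℂ) ∘ α = (χ : R → ℂ)} =
      Nat.card (Cfsg.IrrCharacter R) :=
    Nat.card_congr (Equiv.subtypeUnivEquiv (fun χ => h χ.1 χ.2))
  have h3 : Nat.card (Cfsg.IrrCharacter R) = Nat.card (ConjClasses R) := Cfsg.Agent.S0133.result
  have hinj : Function.Injective
      (Subtype.val : {C : ConjClasses R // ConjClasses.map α.toMonoidHom C = C} → ConjClasses R) :=
    Subtype.val_injective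
  have hbij := hinj.bijective_of_nat_card_le (by rw [h1, h2, h3])
  obtain ⟨⟨C', hC'⟩, rfl⟩ := hbij.2 C
  exact hC'

/-- the size of a conjugacy class divides the group order. -/
theorem p5_card_class_dvd {R : Type u} [Group R] [Finite R] (r : R) :
    Nat.card {r' : R // ConjClasses.mk r' = ConjClasses.mk r} ∣ Nat.card R := by
  have h1 : Nat.card {r' : R // ConjClasses.mk r' = ConjClasses.mk r} =
      (MulAction.orbit (ConjAct R) r).ncard := by
    rw [← Nat.card_coe_set_eq]
    apply Nat.card_congr
    refine Equiv.subtypeEquivRight (fun r' => ?_)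
    rw [ConjAct.orbit_eq_carrier_conjClasses, ConjClasses.mem_carrier_iff_mk_eq]
  rw [h1, ← MulAction.index_stabilizer]
  have := Subgroup.index_dvd_card (MulAction.stabilizer (ConjAct R) r)
  rwa [← Nat.card_congr (ConjAct.toConjAct (G := R)).toEquiv] at this

/-- (P5) [HARD] a `p`-element fixing every irreducible character of the `p'`-group `R` centralises `R`.
Proof: `α := MulAut.conjNormal x : R ≃* R` (`conjFun R hR ρ x = ρ ∘ α`).  Brauer's permutation lemma
`Cfsg.Agent.S0173.result α`: #fixed classes = #fixed irreducible characters = all, so `α` fixes every class.  The cyclic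
`p`-group `⟨α⟩` acts on each class, of size dividing `|R|` (prime to `p`), so it fixes a point of each class: every
element of `R` is `R`-conjugate into `C := {r | x r = r x}`.  A finite group is not the union of the conjugates of a
proper subgroup (count: `|⋃| ≤ 1 + |R:C| (|C| - 1) < |R|`; search main for `union`/`conjugates`), so `C = R`. -/
theorem p_central {Φ : Type u} [Group Φ] [Finite Φ] (p : ℕ) [Fact p.Prime]
    (R : Subgroup Φ) (hR : R.Normal) (hRc : (Nat.card R).Coprime p)
    (x : Φ) (hx : ∃ k : ℕ, orderOf x = p ^ k)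
    (hfix : ∀ ρ : R → ℂ, IsIrrCharacter R ρ → conjFun R hR ρ x = ρ) :
    ∀ r ∈ R, x * r = r * x := by
  classical
  haveI := hR
  -- Step 1: every power of `x` fixes every irreducible character of `R`
  have hfixS : ∀ z ∈ Subgroup.zpowers x, ∀ ρ : R → ℂ, IsIrrCharacter R ρ → conjFun R hR ρ z = ρ := by
    intro z hz ρ hρ
    have hxs : x ∈ stab R hR ρ := hfix ρ hρ
    exact (Subgroup.zpowers_le.2 hxs) hz
  -- Step 2: every power of `x` fixes every class of `R`
  have hclass : ∀ z ∈ Subgroup.zpowers x, ∀ r' : R,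
      ConjClasses.mk ((MulAut.conjNormal z : R ≃* R) r') = ConjClasses.mk r' := by
    intro z hz r'
    have := p5_class_fixed (MulAut.conjNormal z : R ≃* R)
      (fun ρ hρ => by rw [← p5_conjFun_eq R hR ρ z]; exact hfixS z hz ρ hρ) (ConjClasses.mk r')
    exact this
  -- the `p`-group `S = ⟨x⟩`
  have hSp : IsPGroup p (Subgroup.zpowers x) := by
    obtain ⟨k, hk⟩ := hx
    exact IsPGroup.of_card (n := k) (by rw [Nat.card_zpowers, hk])
  -- Step 3: every element of `R` is `R`-conjugate to an element commuting with `x`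
  have hcover : ∀ r : R, ∃ c : R, x * ((c⁻¹ * r * c : R) : Φ) = ((c⁻¹ * r * c : R) : Φ) * x := by
    intro r
    letI act : MulAction (Subgroup.zpowers x) {r' : R // ConjClasses.mk r' = ConjClasses.mk r} :=
      { smul := fun z r' => ⟨(MulAut.conjNormal (z : Φ) : R ≃* R) r'.1,
          (hclass z.1 z.2 r'.1).trans r'.2⟩
        one_smul := by
          intro r'
          apply Subtype.ext
          show (MulAut.conjNormal ((1 : Subgroup.zpowers x) : Φ) : R ≃* R) r'.1 = r'.1
          simp
        mul_smul := by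
          intro z z' r'
          apply Subtype.ext
          show (MulAut.conjNormal ((z * z' : Subgroup.zpowers x) : Φ) : R ≃* R) r'.1 =
            (MulAut.conjNormal (z : Φ) : R ≃* R) ((MulAut.conjNormal (z' : Φ) : R ≃* R) r'.1)
          simp [map_mul] }
    have hnd : ¬ p ∣ Nat.card {r' : R // ConjClasses.mk r' = ConjClasses.mk r} := by
      intro hdvd
      have h1 : p ∣ Nat.card R := dvd_trans hdvd (p5_card_class_dvd r)
      have h2 : p ∣ Nat.gcd (Nat.card R) p := Nat.dvd_gcd h1 dvd_rfl
      rw [hRc] at h2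
      exact (Fact.out : p.Prime).one_lt.ne' (Nat.dvd_one.1 h2)
    obtain ⟨⟨r', hr'⟩, hfp⟩ := hSp.nonempty_fixed_point_of_prime_not_dvd_card
      {r' : R // ConjClasses.mk r' = ConjClasses.mk r} hnd
    have hxr' : (MulAut.conjNormal x : R ≃* R) r' = r' := by
      have := hfp ⟨x, Subgroup.mem_zpowers x⟩
      exact congrArg Subtype.val this
    have hxr'' : x * (r' : Φ) * x⁻¹ = (r' : Φ) := by
      have := congrArg Subtype.val hxr'
      simpa [MulAut.conjNormal_apply] using this
    obtain ⟨c, hc⟩ := isConj_iff.1 (ConjClasses.mk_eq_mk_iff_isConj.1 hr')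
    -- c * r' * c⁻¹ = r
    refine ⟨c, ?_⟩
    have hr'eq : c⁻¹ * r * c = r' := by rw [← hc]; group
    rw [hr'eq]
    calc x * (r' : Φ) = x * (r' : Φ) * x⁻¹ * x := by group
      _ = (r' : Φ) * x := by rw [hxr'']
  -- Step 4: the centraliser of `x` in `R` is everything
  let C : Subgroup R := (Subgroup.centralizer ({x} : Set Φ)).subgroupOf R
  have hCtop : C = ⊤ := by
    apply Cfsg.Agent.S4127.eq_top_of_conj_cover
    intro g
    obtain ⟨c, hc⟩ := hcover g
    refine ⟨c, ?_⟩
    show ((c⁻¹ * g * c : R) : Φ) ∈ Subgroup.centralizer ({x} : Set Φ)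
    rw [Subgroup.mem_centralizer_iff]
    intro y hy
    rw [Set.mem_singleton_iff] at hy
    rw [hy]
    exact hc
  intro r hr
  have hrC : (⟨r, hr⟩ : R) ∈ C := by rw [hCtop]; trivial
  have : r ∈ Subgroup.centralizer ({x} : Set Φ) := hrC
  rw [Subgroup.mem_centralizer_iff] at this
  exact this x rfl

end Cfsg.Agent.Helper60.CD3B
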