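import Cfsg.Agent.Lib.Helper55.CD3Defs
import Cfsg.Agent.Lib.Helper79.DegreeRatio

set_option autoImplicit false
set_option linter.unusedVariables false
set_option linter.unusedSectionVars false
set_option linter.style.haveILetI false

/-! CD3 (DR) `deg_ratio` and (NL) `exists_nonlinear_under` for helper55's lemma server (S4460). -/

namespace Cfsg.Agent.Helper60.CD3

open Cfsg Cfsg.Agent.Helper79 Cfsg.Agent.Helper81 Cfsg.Agent.Helper55.CD3
open scoped ComplexConjugate

universe u

section general
variable {G : Type u} [Group G] [Finite G]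

/-- (DR) [easy] degree ratio: any irreducible constituent `θ` of `χ_F` has `χ(1) = e θ(1)`, `e ∣ |G:F|`
(`Helper79.degree_ratio_dvd_index`). Stated with a `Fintype` instance on `F` supplied by the caller. -/
theorem deg_ratio (F : Subgroup G) [F.Normal] [Fintype F] (χ : IrrCharacter G) (θ : IrrCharacter F)
    (hne : classInner (fun x : F => (χ : G → ℂ) x) (θ : F → ℂ) ≠ 0) :
    ∃ e : ℕ, e ∣ F.index ∧ charDegree (χ : G → ℂ) = e * charDegree (θ : F → ℂ) := by
  classical
  haveI : Fintype G := Fintype.ofFinite G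
  obtain ⟨e, he, hdvd⟩ := degree_ratio_dvd_index F χ.2 θ.2 hne
  refine ⟨e, hdvd, ?_⟩
  rw [(irr_one_eq χ).1, (irr_one_eq θ).1] at he
  exact_mod_cast he

/-- (NL) [easy-medium] if `F' ⊄ ker χ` then `χ_F` has a nonlinear irreducible constituent
(Clifford: all constituents conjugate; linear ones are trivial on `F'`, `F'` normal in `G`). -/
theorem exists_nonlinear_under (F : Subgroup G) [F.Normal] [Fintype F] (χ : IrrCharacter G)
    (hk : ¬ ⁅F, F⁆ ≤ irrKer χ) :
    ∃ θ : IrrCharacter F, charDegree (θ : F → ℂ) ≠ 1 ∧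
      classInner (fun x : F => (χ : G → ℂ) x) (θ : F → ℂ) ≠ 0 := by
  classical
  by_contra hcon
  push Not at hcon
  apply hk
  haveI : Fintype (IrrCharacter F) := Fintype.ofFinite _
  obtain ⟨m, hm⟩ := exists_nat_decomp (isCharacter_restrict F (IsIrrCharacter.isCharacter χ.2))
  -- coefficients of nonlinear constituents vanish
  have hm0 : ∀ θ : IrrCharacter F, charDegree (θ : F → ℂ) ≠ 1 → (m θ : ℂ) = 0 := by
    intro θ hθ
    have h1 := hcon θ hθ
    rw [hm] at h1
    have h2 := classInner_nat_decomp (fun θ' => (m θ' : ℂ)) θ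
    rw [← h2]
    exact h1
  intro x hx
  rw [mem_irrKer]
  have hxF : x ∈ F := (Subgroup.commutator_le_self F) hx
  have hxc : (⟨x, hxF⟩ : F) ∈ commutator F := by
    rw [← Subgroup.map_subtype_commutator] at hx
    obtain ⟨y, hy, hyx⟩ := hx
    have : y = ⟨x, hxF⟩ := Subtype.ext hyx
    rw [← this]
    exact hy
  have hval : ∀ y : F, (χ : G → ℂ) y = ∑ θ : IrrCharacter F, (m θ : ℂ) * (θ : F → ℂ) y := by
    intro y
    have := congrFun hm y
    simp only [Finset.sum_apply, Pi.smul_apply, smul_eq_mul] at this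
    exact this
  have h1 := hval ⟨x, hxF⟩
  have h2 := hval 1
  simp only [Subgroup.coe_one] at h1 h2
  rw [h1, h2]
  apply Finset.sum_congr rfl
  intro θ _
  by_cases hθ : charDegree (θ : F → ℂ) = 1
  · have := (degree_one_iff θ).1 hθ hxc
    rw [mem_irrKer] at this
    rw [this]
  · rw [hm0 θ hθ, zero_mul, zero_mul]

end general

end Cfsg.Agent.Helper60.CD3
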