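import Cfsg.Agent.Lib.Helper55.CD3Defs

set_option autoImplicit false
set_option linter.unusedVariables false
set_option linter.unusedSectionVars false
set_option linter.style.haveILetI false

/-! CD3 (T3) `derived3_of_normal` and (T4) `cd3_quotient` for helper55's lemma server (S4460). -/

namespace Cfsg.Agent.Helper60.CD3

open Cfsg Cfsg.Agent.Helper79 Cfsg.Agent.Helper81 Cfsg.Agent.Helper55.CD3
open scoped ComplexConjugate

universe u

section general
variable {G : Type u} [Group G] [Finite G]

/-- (T3) [easy] `G/F` abelian and `F'' = 1` ⇒ `G''' = 1`. -/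
theorem derived3_of_normal (F : Subgroup G) [F.Normal] (hab : commutator G ≤ F)
    (hF : ⁅⁅F, F⁆, ⁅F, F⁆⁆ = ⊥) : derivedSeries G 3 = ⊥ := by
  have h1 : derivedSeries G 1 ≤ F := by
    rw [derivedSeries_one]
    exact hab
  have h2 : derivedSeries G 2 ≤ ⁅F, F⁆ := by
    rw [derivedSeries_succ]
    exact Subgroup.commutator_mono h1 h1
  have h3 : derivedSeries G 3 ≤ ⁅⁅F, F⁆, ⁅F, F⁆⁆ := by
    rw [derivedSeries_succ]
    exact Subgroup.commutator_mono h2 h2
  rw [hF] at h3
  exact le_bot_iff.1 h3

/-- (T4) [easy] degrees of a quotient are degrees of `G` (as `CD2.quotient`, via `charDegree_inflate`). -/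
theorem cd3_quotient (m n : ℕ) (hcd : CD3 G m n) (N : Subgroup G) [N.Normal] : CD3 (G ⧸ N) m n := by
  intro ψ
  rw [← charDegree_inflate N ψ]
  exact hcd _

end general

end Cfsg.Agent.Helper60.CD3
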