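import Mathlib

set_option autoImplicit false

namespace Cfsg.Agent.Helper60

variable {G : Type*} [Group G]

/-- `(g x)^j x^{-j} ∈ Q` when `x` normalizes `Q ∋ g`. -/
theorem pow_mul_inv_mem_of_normalizer (Q : Subgroup G) {x g : G} (hx : x ∈ Subgroup.normalizer (Q : Set G))
    (hg : g ∈ Q) (j : ℕ) : (g * x) ^ j * (x ^ j)⁻¹ ∈ Q := by
  induction j with
  | zero => simp
  | succ j ih =>
    have hxj : x ^ j ∈ Subgroup.normalizer (Q : Set G) := (Subgroup.normalizer (Q : Set G)).pow_mem hx j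
    have h1 : x ^ j * g * (x ^ j)⁻¹ ∈ Q := (Subgroup.mem_normalizer_iff.mp hxj g).mp hg
    have : (g * x) ^ (j + 1) * (x ^ (j + 1))⁻¹
        = ((g * x) ^ j * (x ^ j)⁻¹) * (x ^ j * g * (x ^ j)⁻¹) := by
      rw [pow_succ, pow_succ]; group
    rw [this]; exact Q.mul_mem ih h1

/-- an element commuting with an element of prime order `s`, and of `p`-power order, is trivial if
there is no element of order `p * s`. -/
theorem eq_one_of_commute_of_no_order {p s : ℕ} (hp : p.Prime) (hs : s.Prime) (hps : p ≠ s)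
    (hno : ¬ ∃ z : G, orderOf z = p * s) (v y : G) (hv : ∃ k, orderOf v = p ^ k)
    (hy : orderOf y = s) (hc : Commute v y) : v = 1 := by
  by_contra hv1
  obtain ⟨k, hk⟩ := hv
  have hk0 : k ≠ 0 := by
    rintro rfl
    rw [pow_zero, orderOf_eq_one_iff] at hk
    exact hv1 hk
  obtain ⟨k', rfl⟩ : ∃ k', k = k' + 1 := ⟨k - 1, by omega⟩
  have hord : orderOf (v ^ (p ^ k')) = p := by
    rw [orderOf_pow_of_dvd (pow_ne_zero _ hp.ne_zero) (by rw [hk]; exact pow_dvd_pow p (by omega)),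
      hk, pow_succ, Nat.mul_div_cancel_left _ (pow_pos hp.pos k')]
  apply hno
  refine ⟨v ^ (p ^ k') * y, ?_⟩
  rw [(hc.pow_left _).orderOf_mul_eq_mul_orderOf_of_coprime, hord, hy]
  rw [hord, hy]
  exact (Nat.coprime_primes hp hs).mpr hps

theorem eq_of_pow_eq_of_coprime {r j : ℕ} (hr : 1 < r) (hj : Nat.Coprime j r) {y z : G}
    (hy : y ^ r = 1) (hz : z ^ r = 1) (h : y ^ j = z ^ j) : y = z := by
  obtain ⟨m, -, hm⟩ := Nat.exists_mul_mod_eq_one_of_coprime hj hr
  have key : ∀ w : G, w ^ r = 1 → (w ^ j) ^ m = w := by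
    intro w hw
    rw [← pow_mul, ← Nat.div_add_mod (j * m) r, hm, pow_add, pow_mul, hw, one_pow, one_mul, pow_one]
  rw [← key y hy, ← key z hz, h]


/-- The key "Frobenius partition" lemma: an abelian normal `p`-subgroup `V`, a `q`-subgroup `Q`,
an element `x` of prime order `r` normalizing `Q`, and no elements of order `pq`, `pr`, `qr`:
contradiction. -/
theorem tower_false [Finite G] {p q r : ℕ} (hp : p.Prime) (hq : q.Prime) (hr : r.Prime)
    (hpq : p ≠ q) (hpr : p ≠ r) (hqr : q ≠ r)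
    (hnpq : ¬ ∃ z : G, orderOf z = p * q) (hnpr : ¬ ∃ z : G, orderOf z = p * r)
    (hnqr : ¬ ∃ z : G, orderOf z = q * r)
    (V : Subgroup G) [V.Normal] (hVc : ∀ a ∈ V, ∀ b ∈ V, a * b = b * a) (hVp : IsPGroup p V)
    (hV : V ≠ ⊥)
    (Q : Subgroup G) (hQq : IsPGroup q Q) (hQ : Q ≠ ⊥)
    (x : G) (hx : x ∈ Subgroup.normalizer (Q : Set G)) (hxr : orderOf x = r) : False := by
  classical
  have := Fact.mk hp
  have := Fact.mk hq
  have := Fact.mk hr
  let _ : CommGroup V :=
    { (inferInstance : Group V) with mul_comm := fun a b => Subtype.ext (hVc a a.2 b b.2) }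
  have : Fintype Q := Fintype.ofFinite Q
  let φ : G →* MulAut V := MulAut.conjNormal
  have hφ : ∀ (g : G) (v : V), ((φ g v : V) : G) = g * v * g⁻¹ := fun g v => rfl
  have hφmul : ∀ (a b : G) (w : V), φ a (φ b w) = φ (a * b) w := by
    intro a b w
    rw [map_mul]; rfl
  -- orders in V
  have hVord : ∀ v : V, ∃ k, orderOf (v : G) = p ^ k := by
    intro v
    obtain ⟨k, hk⟩ := (IsPGroup.iff_orderOf.mp hVp) v
    exact ⟨k, by rw [Subgroup.orderOf_coe, hk]⟩
  -- (a) fixed points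
  have fpf : ∀ s : ℕ, s.Prime → (¬ ∃ z : G, orderOf z = p * s) → p ≠ s → ∀ y : G, orderOf y = s →
      ∀ v : V, φ y v = v → v = 1 := by
    intro s hs hno hps y hy v hv
    have hc : Commute (v : G) y := by
      have h1 : y * v * y⁻¹ = v := by rw [← hφ, hv]
      have h2 : y * v = v * y := by
        calc y * v = (y * v * y⁻¹) * y := by group
          _ = v * y := by rw [h1]
      exact h2.symm
    have := eq_one_of_commute_of_no_order hp hs hps hno (v : G) y (hVord v) hy hc
    exact Subtype.ext this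
  -- (b) elements of the coset Q x
  have hQord : ∀ g ∈ Q, ∃ k, orderOf g = q ^ k := by
    intro g hg
    obtain ⟨k, hk⟩ := (IsPGroup.iff_orderOf.mp hQq) ⟨g, hg⟩
    exact ⟨k, by rw [← hk, Subgroup.orderOf_mk]⟩
  have hxQ : ∀ n : ℕ, x ^ n ∈ Q → x ^ n = 1 := by
    intro n hn
    obtain ⟨k, hk⟩ := hQord _ hn
    have h1 : orderOf (x ^ n) ∣ r := hxr ▸ orderOf_pow_dvd n
    rw [hk] at h1
    have : k = 0 := by
      by_contra hk0
      have h2 : q ∣ r := dvd_trans (dvd_pow_self q hk0) h1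
      exact hqr ((Nat.prime_dvd_prime_iff_eq hq hr).mp h2)
    rw [this, pow_zero, orderOf_eq_one_iff] at hk
    exact hk
  have hb : ∀ g ∈ Q, (g * x) ^ r = 1 ∧ g * x ≠ 1 := by
    intro g hg
    have hne : g * x ≠ 1 := by
      intro h
      have hxg : x = g⁻¹ := by rw [← mul_right_inj g, h, mul_inv_cancel]
      have : x ^ 1 = 1 := hxQ 1 (by rw [pow_one, hxg]; exact Q.inv_mem hg)
      rw [pow_one] at this
      rw [this, orderOf_one] at hxr
      exact hr.one_lt.ne hxr
    refine ⟨?_, hne⟩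
    set y := g * x with hy
    have hc := pow_mul_inv_mem_of_normalizer Q hx hg
    -- y ^ r ∈ Q
    have hyr : y ^ r ∈ Q := by
      have := hc r
      rwa [← hxr, pow_orderOf_eq_one, inv_one, mul_one, hxr] at this
    -- r ∣ orderOf y
    have hrdvd : r ∣ orderOf y := by
      have h1 := hc (orderOf y)
      rw [pow_orderOf_eq_one, one_mul] at h1
      have h2 := hxQ (orderOf y) (by simpa using Q.inv_mem h1)
      rw [← hxr]
      exact orderOf_dvd_of_pow_eq_one h2
    obtain ⟨k, hk⟩ := hQord _ hyr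
    have hdvd : orderOf y ∣ r * q ^ k := by
      apply orderOf_dvd_of_pow_eq_one
      rw [pow_mul, ← hk, pow_orderOf_eq_one]
    have hqndvd : ¬ q ∣ orderOf y := by
      intro hqd
      apply hnqr
      have hqr' : q * r ∣ orderOf y :=
        Nat.Coprime.mul_dvd_of_dvd_of_dvd ((Nat.coprime_primes hq hr).mpr hqr) hqd hrdvd
      obtain ⟨t, ht⟩ := hqr'
      have hpos : 0 < orderOf y := orderOf_pos y
      have ht0 : t ≠ 0 := by
        rintro rfl
        rw [mul_zero] at ht
        omega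
      refine ⟨y ^ t, ?_⟩
      rw [orderOf_pow_of_dvd ht0 (Dvd.intro_left _ ht.symm), ht,
        Nat.mul_div_cancel _ (Nat.pos_of_ne_zero ht0)]
    have hcop : Nat.Coprime (orderOf y) (q ^ k) :=
      Nat.Coprime.pow_right k ((Nat.Coprime.symm ((Nat.Prime.coprime_iff_not_dvd hq).mpr hqndvd)))
    have : orderOf y ∣ r := hcop.dvd_of_dvd_mul_right hdvd
    exact orderOf_dvd_iff_pow_eq_one.mp this
  -- an element of order q in Q
  obtain ⟨g₀, hg₀Q, hg₀⟩ : ∃ g₀ ∈ Q, orderOf g₀ = q := by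
    have hcard : q ∣ Nat.card Q := by
      obtain ⟨n, hn⟩ := IsPGroup.iff_card.mp hQq
      have hn0 : n ≠ 0 := by
        rintro rfl
        rw [pow_zero] at hn
        exact hQ ((Subgroup.card_eq_one).mp hn)
      rw [hn]; exact dvd_pow_self q hn0
    obtain ⟨g, hg⟩ := exists_prime_orderOf_dvd_card' q hcard
    exact ⟨g, g.2, by rw [← hg, Subgroup.orderOf_coe]⟩
  -- the Q-sum
  let S : V → V := fun w => ∏ h : Q, φ (h : G) w
  have hS : ∀ w, S w = 1 := by
    intro w
    apply fpf q hq hnpq hpq g₀ hg₀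
    change φ g₀ (∏ h : Q, φ (h : G) w) = ∏ h : Q, φ (h : G) w
    rw [map_prod]
    let e : Q ≃ Q := Equiv.mulLeft ⟨g₀, hg₀Q⟩
    rw [← Equiv.prod_comp e (fun h : Q => φ (h : G) w)]
    apply Finset.prod_congr rfl
    intro h _
    change φ g₀ (φ (h : G) w) = φ ((⟨g₀, hg₀Q⟩ * h : Q) : G) w
    rw [Subgroup.coe_mul, map_mul]
    rfl
  -- main computation
  by_contra _
  apply hV
  rw [Subgroup.eq_bot_iff_forall]
  intro v0 hv0
  set v : V := ⟨v0, hv0⟩ with hvdef
  have hA : ∏ g : Q, ∏ j ∈ Finset.range r, φ (((g : G) * x) ^ j) v = 1 := by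
    apply Finset.prod_eq_one
    intro g _
    obtain ⟨hyr, hyne⟩ := hb g g.2
    set y := (g : G) * x with hy
    have hyord : orderOf y = r := orderOf_eq_prime hyr hyne
    apply fpf r hr hnpr hpr y hyord
    rw [map_prod]
    have h1 : ∀ j, φ y (φ (y ^ j) v) = φ (y ^ (j + 1)) v := by
      intro j
      rw [pow_succ', hφmul]
    simp_rw [h1]
    have h2 := Finset.prod_range_succ (fun j => φ (y ^ j) v) r
    have h3 := Finset.prod_range_succ' (fun j => φ (y ^ j) v) r
    rw [h2] at h3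
    simp only [hyr, pow_zero] at h3
    exact (mul_right_cancel h3).symm
  rw [Finset.prod_comm] at hA
  have hB : ∀ j ∈ Finset.range r, j ≠ 0 → ∏ g : Q, φ (((g : G) * x) ^ j) v = 1 := by
    intro j hj hj0
    rw [Finset.mem_range] at hj
    -- the bijection
    let c : Q → Q := fun g => ⟨((g : G) * x) ^ j * (x ^ j)⁻¹,
      pow_mul_inv_mem_of_normalizer Q hx g.2 j⟩
    have hcop : Nat.Coprime j r :=
      Nat.Coprime.symm ((Nat.Prime.coprime_iff_not_dvd hr).mpr
        (fun hd => by have := Nat.le_of_dvd (Nat.pos_of_ne_zero hj0) hd; omega))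
    have hcinj : Function.Injective c := by
      intro g g' hgg'
      have h1 : ((g : G) * x) ^ j * (x ^ j)⁻¹ = ((g' : G) * x) ^ j * (x ^ j)⁻¹ :=
        congrArg Subtype.val hgg'
      have h2 : ((g : G) * x) ^ j = ((g' : G) * x) ^ j := mul_right_cancel h1
      have h3 := eq_of_pow_eq_of_coprime hr.one_lt hcop (hb g g.2).1 (hb g' g'.2).1 h2
      exact Subtype.ext (mul_right_cancel h3)
    have hcbij : Function.Bijective c := Finite.injective_iff_bijective.mp hcinj
    have h4 : ∀ g : Q, φ (((g : G) * x) ^ j) v = φ ((c g : Q) : G) (φ (x ^ j) v) := by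
      intro g
      have : ((g : G) * x) ^ j = ((c g : Q) : G) * x ^ j := by
        change _ = ((g : G) * x) ^ j * (x ^ j)⁻¹ * x ^ j
        group
      rw [this, map_mul]; rfl
    simp_rw [h4]
    rw [Function.Bijective.prod_comp hcbij (fun h : Q => φ (h : G) (φ (x ^ j) v))]
    exact hS _
  have hr0 : 0 ∈ Finset.range r := Finset.mem_range.mpr hr.pos
  rw [Finset.prod_eq_single_of_mem 0 hr0 (fun j hj hj0 => hB j hj hj0)] at hA
  simp only [pow_zero, map_one, MulAut.one_apply, Finset.prod_const, Finset.card_univ] at hA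
  -- v ^ |Q| = 1 with |Q| coprime to p
  obtain ⟨n, hn⟩ := IsPGroup.iff_card.mp hQq
  rw [← Nat.card_eq_fintype_card, hn] at hA
  obtain ⟨k, hk⟩ := (IsPGroup.iff_orderOf.mp hVp) v
  have hd : orderOf v ∣ q ^ n := orderOf_dvd_of_pow_eq_one hA
  rw [hk] at hd
  have hk0 : k = 0 := by
    by_contra hk0
    have h2 : p ∣ q ^ n := dvd_trans (dvd_pow_self p hk0) hd
    exact hpq ((Nat.prime_dvd_prime_iff_eq hp hq).mp (hp.dvd_of_dvd_pow h2))
  rw [hk0, pow_zero, orderOf_eq_one_iff] at hk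
  exact congrArg Subtype.val hk

end Cfsg.Agent.Helper60
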