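import Mathlib
import Cfsg.Agent.Lib.Helper60.Tower

set_option autoImplicit false

namespace Cfsg.Agent.Helper60

variable {G : Type*} [Group G]

/-- Case of a normal `p`-subgroup `P`, a normal subgroup `M` with `q ∣ |M|`, `r ∣ |G : M|`. -/
theorem normal_case [Finite G] {p q r : ℕ} (hp : p.Prime) (hq : q.Prime) (hr : r.Prime)
    (hpq : p ≠ q) (hpr : p ≠ r) (hqr : q ≠ r)
    (hnpq : ¬ ∃ z : G, orderOf z = p * q) (hnpr : ¬ ∃ z : G, orderOf z = p * r)
    (hnqr : ¬ ∃ z : G, orderOf z = q * r)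
    (P M : Subgroup G) [P.Normal] [M.Normal] (hP : IsPGroup p P) (hPne : P ≠ ⊥)
    (hqM : q ∣ Nat.card M) (hrM : r ∣ M.index) : False := by
  have := Fact.mk hp
  have := Fact.mk hq
  have := Fact.mk hr
  let Q : Sylow q M := default
  have hQne : (Q : Subgroup M) ≠ ⊥ := Q.ne_bot_of_dvd_card hqM
  set Q' : Subgroup G := (Q : Subgroup M).map M.subtype with hQ'
  have hQ'ne : Q' ≠ ⊥ := by
    rw [hQ', Ne, Subgroup.map_eq_bot_iff_of_injective _ M.subtype_injective]; exact hQne
  have hQ'q : IsPGroup q Q' := Q.2.map M.subtype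
  have hFr : Subgroup.normalizer (Q' : Set G) ⊔ M = ⊤ := Sylow.normalizer_sup_eq_top Q
  have hrel : M.relIndex (Subgroup.normalizer (Q' : Set G)) = M.index := by
    rw [← Subgroup.relIndex_sup_right, hFr, Subgroup.relIndex_top_right]
  have hrN : r ∣ Nat.card (Subgroup.normalizer (Q' : Set G)) :=
    dvd_trans (hrel ▸ hrM) (Subgroup.relIndex_dvd_card _ _)
  obtain ⟨x, hx⟩ := exists_prime_orderOf_dvd_card' r hrN
  have : Nontrivial P := (Subgroup.nontrivial_iff_ne_bot P).mpr hPne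
  set V : Subgroup G := (Subgroup.center P).map P.subtype with hVdef
  have hVc : ∀ a ∈ V, ∀ b ∈ V, a * b = b * a := by
    rintro _ ⟨a, ha, rfl⟩ _ ⟨b, hb, rfl⟩
    have := (Subgroup.mem_center_iff.mp ha b)
    simpa using (congrArg Subtype.val this).symm
  have hVp : IsPGroup p V := (hP.to_subgroup (Subgroup.center P)).map P.subtype
  have hV : V ≠ ⊥ := by
    rw [hVdef, Ne, Subgroup.map_eq_bot_iff_of_injective _ P.subtype_injective]
    exact (hP.bot_lt_center).ne'
  exact tower_false hp hq hr hpq hpr hqr hnpq hnpr hnqr V hVc hVp hV Q' hQ'q hQ'ne x x.2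
    (by rw [← hx, Subgroup.orderOf_coe])

end Cfsg.Agent.Helper60
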