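import Mathlib
import Cfsg.Agent.Lib.Helper60.Chain

set_option autoImplicit false

namespace Cfsg.Agent.Helper60

/-- A nontrivial finite solvable group has a nontrivial normal subgroup of prime exponent. -/
theorem exists_normal_pgroup {H : Type*} [Group H] [Finite H] [Group.IsSolvable H] [Nontrivial H] :
    ∃ (s : ℕ) (N : Subgroup H), s.Prime ∧ N.Normal ∧ N ≠ ⊥ ∧ IsPGroup s N := by
  classical
  have hsol : ∃ n, derivedSeries H n = ⊥ := Group.IsSolvable.solvable
  have hn : derivedSeries H (Nat.find hsol) = ⊥ := Nat.find_spec hsol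
  have hn0 : Nat.find hsol ≠ 0 := by
    intro h0
    rw [h0, derivedSeries_zero] at hn
    exact top_ne_bot hn
  obtain ⟨m, hm⟩ : ∃ m, Nat.find hsol = m + 1 := ⟨Nat.find hsol - 1, by omega⟩
  have hA : derivedSeries H m ≠ ⊥ := Nat.find_min hsol (by omega)
  have hAA : ⁅derivedSeries H m, derivedSeries H m⁆ = ⊥ := by
    rw [← derivedSeries_succ, ← hm]; exact hn
  set A := derivedSeries H m with hAdef
  have hAn : A.Normal := derivedSeries_normal H m
  have hcomm : ∀ a ∈ A, ∀ b ∈ A, a * b = b * a := by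
    intro a ha b hb
    have := Subgroup.commutator_eq_bot_iff_le_centralizer.mp hAA ha
    rw [Subgroup.mem_centralizer_iff] at this
    exact (this b hb).symm
  have hcard : Nat.card A ≠ 1 := by
    intro h
    exact hA (Subgroup.card_eq_one.mp h)
  set s := (Nat.card A).minFac with hs
  have hsp : s.Prime := Nat.minFac_prime hcard
  have hsdvd : s ∣ Nat.card A := Nat.minFac_dvd _
  let N : Subgroup H :=
    { carrier := {g | g ∈ A ∧ g ^ s = 1}
      mul_mem' := by
        rintro a b ⟨ha, ha'⟩ ⟨hb, hb'⟩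
        refine ⟨A.mul_mem ha hb, ?_⟩
        have hc : Commute a b := hcomm a ha b hb
        rw [hc.mul_pow, ha', hb', one_mul]
      one_mem' := ⟨A.one_mem, one_pow _⟩
      inv_mem' := by
        rintro a ⟨ha, ha'⟩
        exact ⟨A.inv_mem ha, by rw [inv_pow, ha', inv_one]⟩ }
  refine ⟨s, N, hsp, ⟨?_⟩, ?_, ?_⟩
  · rintro a ⟨ha, ha'⟩ g
    refine ⟨hAn.conj_mem a ha g, ?_⟩
    rw [conj_pow, ha', mul_one, mul_inv_cancel]
  · have := Fact.mk hsp
    obtain ⟨g, hg⟩ := exists_prime_orderOf_dvd_card' s hsdvd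
    intro hbot
    have hgN : (g : H) ∈ N := ⟨g.2, by
      have : (g : H) ^ s = ((g ^ s : A) : H) := by simp
      rw [this, ← hg, pow_orderOf_eq_one]; rfl⟩
    rw [hbot, Subgroup.mem_bot] at hgN
    have : g = 1 := Subtype.ext hgN
    rw [this, orderOf_one] at hg
    exact hsp.one_lt.ne hg
  · intro g
    refine ⟨1, ?_⟩
    rw [pow_one]
    exact Subtype.ext g.2.2

/-- The quotient step: a proper normal subgroup of a finite solvable group is contained in a
normal subgroup whose order is larger by a nontrivial prime power factor. -/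
theorem exists_bigger {G : Type*} [Group G] [Finite G] [Group.IsSolvable G] (L : Subgroup G)
    [L.Normal] (hL : L ≠ ⊤) :
    ∃ (s : ℕ) (L' : Subgroup G) (a : ℕ), s.Prime ∧ L'.Normal ∧ L ≤ L' ∧ a ≠ 0 ∧
      Nat.card L' = Nat.card L * s ^ a := by
  have : Nontrivial (G ⧸ L) := by
    by_contra h
    rw [not_nontrivial_iff_subsingleton] at h
    exact hL (QuotientGroup.subsingleton_iff.mp h)
  obtain ⟨s, N, hs, hNn, hNne, hNp⟩ := exists_normal_pgroup (H := G ⧸ L)
  have := Fact.mk hs
  obtain ⟨a, ha⟩ := IsPGroup.iff_card.mp hNp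
  have ha0 : a ≠ 0 := by
    rintro rfl
    rw [pow_zero] at ha
    exact hNne (Subgroup.card_eq_one.mp ha)
  refine ⟨s, N.comap (QuotientGroup.mk' L), a, hs, hNn.comap _, ?_, ha0, ?_⟩
  · intro x hx
    rw [Subgroup.mem_comap]
    have : QuotientGroup.mk' L x = 1 := (QuotientGroup.eq_one_iff x).mpr hx
    rw [this]; exact N.one_mem
  · have h1 : (N.comap (QuotientGroup.mk' L)).index = N.index :=
      Subgroup.index_comap_of_surjective N (QuotientGroup.mk'_surjective L)
    have h2 := (N.comap (QuotientGroup.mk' L)).card_mul_index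
    have h3 := N.card_mul_index
    have h4 := Subgroup.card_eq_card_quotient_mul_card_subgroup L
    rw [h1] at h2
    have h5 : N.index ≠ 0 := Subgroup.index_ne_zero_of_finite
    rw [← ha]
    apply Nat.eq_of_mul_eq_mul_right (Nat.pos_of_ne_zero h5)
    rw [h2, h4, ← h3]; ring


/-- In a finite solvable group, above a normal subgroup `L₀` whose order is prime to every prime
in `S`, there is a normal subgroup whose order is divisible by exactly one prime of `S`
(provided some prime of `S` divides `|G|`). -/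
theorem exists_one_prime {G : Type*} [Group G] [Finite G] [Group.IsSolvable G] (S : Set ℕ)
    (hS : ∃ t ∈ S, t.Prime ∧ t ∣ Nat.card G) :
    ∀ (n : ℕ) (L₀ : Subgroup G), L₀.Normal → (∀ t ∈ S, t.Prime → ¬ t ∣ Nat.card L₀) →
      Nat.card G - Nat.card L₀ = n →
      ∃ L : Subgroup G, L.Normal ∧ L₀ ≤ L ∧ ∃ s ∈ S, s.Prime ∧ s ∣ Nat.card L ∧
        ∀ t ∈ S, t.Prime → t ∣ Nat.card L → t = s := by
  intro n
  induction n using Nat.strong_induction_on with
  | _ n ih =>
    intro L₀ hL₀n hL₀ hn
    have hL₀top : L₀ ≠ ⊤ := by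
      rintro rfl
      obtain ⟨t, htS, htp, htd⟩ := hS
      apply hL₀ t htS htp
      rwa [Subgroup.card_top]
    obtain ⟨s, L', a, hs, hL'n, hle, ha0, hcard⟩ := exists_bigger L₀ hL₀top
    by_cases hs' : ∃ t ∈ S, t.Prime ∧ t ∣ Nat.card L'
    · obtain ⟨t, htS, htp, htd⟩ := hs'
      have key : ∀ t' ∈ S, t'.Prime → t' ∣ Nat.card L' → t' = s := by
        intro t' ht'S ht'p ht'd
        rw [hcard] at ht'd
        rcases (Nat.Prime.dvd_mul ht'p).mp ht'd with h | h
        · exact absurd h (hL₀ t' ht'S ht'p)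
        · exact (Nat.prime_dvd_prime_iff_eq ht'p hs).mp (ht'p.dvd_of_dvd_pow h)
      have hts : t = s := key t htS htp htd
      exact ⟨L', hL'n, hle, s, hts ▸ htS, hs, hts ▸ htd, key⟩
    · push Not at hs'
      have hlt : Nat.card L₀ < Nat.card L' := by
        rw [hcard]
        have h1 : 1 < s ^ a := Nat.one_lt_pow ha0 hs.one_lt
        have h2 : 0 < Nat.card L₀ := Nat.card_pos
        nlinarith
      have hle' : Nat.card L' ≤ Nat.card G := Subgroup.card_le_card_group L'
      obtain ⟨L, hLn, hL'L, hrest⟩ := ih (Nat.card G - Nat.card L') (by omega) L' hL'n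
        (fun t htS htp htd => hs' t htS htp htd) rfl
      exact ⟨L, hLn, hle.trans hL'L, hrest⟩

end Cfsg.Agent.Helper60
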