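import Mathlib
import Cfsg.Agent.S3633

set_option autoImplicit false

namespace Cfsg.Agent.Helper60

/-- A product of two distinct primes is not a prime power. -/
theorem not_isPrimePow_mul {p q : ℕ} (hp : p.Prime) (hq : q.Prime) (hpq : p ≠ q) :
    ¬ IsPrimePow (p * q) := by
  intro h
  rw [isPrimePow_nat_iff] at h
  obtain ⟨r, k, hr, hk, hrk⟩ := h
  have h1 : p ∣ r ^ k := hrk ▸ Dvd.intro _ rfl
  have h2 : q ∣ r ^ k := hrk ▸ Dvd.intro_left _ rfl
  have e1 := (Nat.prime_dvd_prime_iff_eq hp hr).mp (hp.dvd_of_dvd_pow h1)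
  have e2 := (Nat.prime_dvd_prime_iff_eq hq hr).mp (hq.dvd_of_dvd_pow h2)
  exact hpq (e1.trans e2.symm)

/-- Higman: a finite solvable group in which every nonidentity element has prime power order has
order divisible by at most two primes. -/
theorem solvable_cp_card {G : Type*} [Group G] [Finite G] [Group.IsSolvable G]
    (h : ∀ g : G, g ≠ 1 → IsPrimePow (orderOf g)) : (Nat.card G).primeFactors.card ≤ 2 := by
  by_contra hcon
  rw [not_le, Finset.two_lt_card_iff] at hcon
  obtain ⟨p, q, r, hp, hq, hr, hpq, hpr, hqr⟩ := hcon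
  have hp' := Nat.prime_of_mem_primeFactors hp
  have hq' := Nat.prime_of_mem_primeFactors hq
  have hr' := Nat.prime_of_mem_primeFactors hr
  refine Cfsg.Agent.S3633.solvable_false (G := G) hp' hq' hr' hpq hpr hqr
    (Nat.dvd_of_mem_primeFactors hp) (Nat.dvd_of_mem_primeFactors hq)
    (Nat.dvd_of_mem_primeFactors hr) ?_
  rintro a ha b hb hab ⟨x, hx⟩
  have hx1 : x ≠ 1 := by
    rintro rfl
    rw [orderOf_one] at hx
    simp only [Finset.mem_insert, Finset.mem_singleton] at ha hb
    have ha2 : 2 ≤ a := by rcases ha with rfl | rfl | rfl <;> exact Nat.Prime.two_le ‹_›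
    have hb2 : 2 ≤ b := by rcases hb with rfl | rfl | rfl <;> exact Nat.Prime.two_le ‹_›
    nlinarith
  have hpp := h x hx1
  rw [hx] at hpp
  simp only [Finset.mem_insert, Finset.mem_singleton] at ha hb
  have hap : a.Prime := by rcases ha with rfl | rfl | rfl <;> assumption
  have hbp : b.Prime := by rcases hb with rfl | rfl | rfl <;> assumption
  exact not_isPrimePow_mul hap hbp hab hpp

end Cfsg.Agent.Helper60
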