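import Mathlib
import Cfsg.Agent.Lib.Helper60.CP
import Cfsg.Agent.Lib.Helper60.Chain
import Cfsg.Agent.Lib.Helper60.Solvable
import Cfsg.Agent.Lib.Helper70.Fitting
import Cfsg.Agent.S0144

set_option autoImplicit false
set_option linter.style.haveILetI false
set_option linter.unusedVariables false

namespace Cfsg.Agent.Helper60

universe u

/-- every nonidentity element has prime power order -/
def CP (X : Type*) [Group X] : Prop := ∀ g : X, g ≠ 1 → IsPrimePow (orderOf g)

theorem CP.subgroup {X : Type*} [Group X] (h : CP X) (H : Subgroup X) : CP ↥H := by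
  intro g hg
  rw [← Subgroup.orderOf_coe]
  exact h _ (by simpa using hg)

theorem CP.quotient {X : Type*} [Group X] (h : CP X) (N : Subgroup X) [N.Normal] : CP (X ⧸ N) := by
  intro g hg
  obtain ⟨x, rfl⟩ := QuotientGroup.mk_surjective g
  have hx : x ≠ 1 := by rintro rfl; exact hg rfl
  have hd : orderOf (x : X ⧸ N) ∣ orderOf x := orderOf_map_dvd (QuotientGroup.mk' N) x
  exact (h x hx).dvd hd (by rwa [Ne, orderOf_eq_one_iff])

theorem CP.no_order_mul {X : Type*} [Group X] (h : CP X) {p q : ℕ} (hp : p.Prime) (hq : q.Prime)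
    (hpq : p ≠ q) : ¬ ∃ z : X, orderOf z = p * q := by
  rintro ⟨z, hz⟩
  have hz1 : z ≠ 1 := by
    rintro rfl
    rw [orderOf_one] at hz
    have := hp.two_le; have := hq.two_le; nlinarith
  have := h z hz1
  rw [hz] at this
  exact not_isPrimePow_mul hp hq hpq this

theorem CP.not_commute {X : Type*} [Group X] (h : CP X) {p q : ℕ} (hp : p.Prime) (hq : q.Prime)
    (hpq : p ≠ q) {x y : X} (hx : orderOf x = p) (hy : orderOf y = q) (hc : Commute x y) : False := by
  have hcop : Nat.Coprime (orderOf x) (orderOf y) := by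
    rw [hx, hy]; exact (Nat.coprime_primes hp hq).mpr hpq
  have ho := hc.orderOf_mul_eq_mul_orderOf_of_coprime hcop
  rw [hx, hy] at ho
  exact h.no_order_mul hp hq hpq ⟨_, ho⟩

theorem exists_prime_ne_dvd_card {T : Type*} [Group T] [Finite T] {p : ℕ} (hp : p.Prime)
    (h : ¬ IsPGroup p T) : ∃ q, q.Prime ∧ q ≠ p ∧ q ∣ Nat.card T := by
  by_contra hcon
  push Not at hcon
  apply h
  have : Nat.card T = p ^ (Nat.card T).primeFactorsList.length :=
    Nat.eq_prime_pow_of_unique_prime_dvd Nat.card_pos.ne' (fun {d} hd hdvd => by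
      by_contra hne; exact hcon d hd hne hdvd)
  exact IsPGroup.of_card this

/-- two elementwise-commuting subgroups in a CP group, the first nontrivial: the second is a
`p`-group for some prime `p`. -/
theorem CP.isPGroup_of_commute {X : Type*} [Group X] [Finite X] (h : CP X) (A B : Subgroup X)
    (hA : A ≠ ⊥) (hc : ∀ a ∈ A, ∀ b ∈ B, Commute a b) : ∃ p : ℕ, p.Prime ∧ IsPGroup p B := by
  have hcard : Nat.card A ≠ 1 := by rwa [Ne, Subgroup.card_eq_one]
  obtain ⟨p, hp, hpd⟩ := Nat.exists_prime_and_dvd hcard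
  refine ⟨p, hp, ?_⟩
  by_contra hB
  obtain ⟨q, hq, hqp, hqd⟩ := exists_prime_ne_dvd_card hp hB
  have := Fact.mk hp
  have := Fact.mk hq
  obtain ⟨a, ha⟩ := exists_prime_orderOf_dvd_card' p hpd
  obtain ⟨b, hb⟩ := exists_prime_orderOf_dvd_card' q hqd
  exact h.not_commute hp hq hqp.symm (x := (a : X)) (y := (b : X))
    (by rw [Subgroup.orderOf_coe]; exact ha) (by rw [Subgroup.orderOf_coe, hb]) (hc a a.2 b b.2)

theorem exists_minimal_normal {X : Type*} [Group X] [Finite X] (R : Subgroup X) [hR : R.Normal]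
    (hne : R ≠ ⊥) :
    ∃ M : Subgroup X, M.Normal ∧ M ≠ ⊥ ∧ M ≤ R ∧
      ∀ N : Subgroup X, N.Normal → N ≠ ⊥ → N ≤ M → N = M := by
  classical
  have hex : ∃ n, ∃ M : Subgroup X, M.Normal ∧ M ≠ ⊥ ∧ M ≤ R ∧ Nat.card M = n :=
    ⟨_, R, hR, hne, le_rfl, rfl⟩
  obtain ⟨M, hMn, hMne, hMR, hMc⟩ := Nat.find_spec hex
  refine ⟨M, hMn, hMne, hMR, fun N hN hNne hNM => ?_⟩
  have h1 : Nat.find hex ≤ Nat.card N := Nat.find_min' hex ⟨N, hN, hNne, hNM.trans hMR, rfl⟩
  exact Subgroup.eq_of_le_of_card_ge hNM (by rw [hMc]; exact h1)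

/-- `O_p(M)` of a normal subgroup `M` is normal in the whole group. -/
theorem exists_normal_pgroup_lift {X : Type*} [Group X] [Finite X] (M : Subgroup X) [hM : M.Normal]
    {p : ℕ} [Fact p.Prime] :
    ∃ K : Subgroup X, K.Normal ∧ IsPGroup p K ∧ K ≤ M ∧
      ∀ N : Subgroup ↥M, N.Normal → IsPGroup p N → N.map M.subtype ≤ K := by
  refine ⟨(Cfsg.pCore p ↥M).map M.subtype, ?_, ?_, ?_, ?_⟩
  · constructor
    rintro _ ⟨k, hk, rfl⟩ g
    refine ⟨MulAut.conjNormal g k, ?_, ?_⟩
    · have hle : (Cfsg.pCore p ↥M).map (MulAut.conjNormal g : ↥M ≃* ↥M).toMonoidHom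
          ≤ Cfsg.pCore p ↥M := by
        haveI : ((Cfsg.pCore p ↥M).map (MulAut.conjNormal g : ↥M ≃* ↥M).toMonoidHom).Normal :=
          (Helper70.pCore_normal p ↥M).map _ (MulEquiv.surjective _)
        exact Helper70.le_pCore _ (Helper70.pCore_isPGroup.map _)
      exact hle ⟨k, hk, rfl⟩
    · simp [MulAut.conjNormal_apply]
  · exact Helper70.pCore_isPGroup.map _
  · exact Subgroup.map_subtype_le _
  · intro N hN hNp
    exact Subgroup.map_mono (Helper70.le_pCore N hNp)

theorem eq_bot_of_solvable_normal_quotient {G : Type*} [Group G] (R : Subgroup G) [R.Normal]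
    (hRs : Group.IsSolvable ↥R)
    (hRmax : ∀ N : Subgroup G, N.Normal → Group.IsSolvable ↥N → N ≤ R)
    (N : Subgroup (G ⧸ R)) (hN : N.Normal) (hNs : Group.IsSolvable ↥N) : N = ⊥ := by
  set N' := N.comap (QuotientGroup.mk' R) with hN'
  have hN'n : N'.Normal := hN.comap _
  have hRN : R ≤ N' := by
    intro x hx
    show QuotientGroup.mk' R x ∈ N
    have : QuotientGroup.mk' R x = 1 := (QuotientGroup.eq_one_iff x).mpr hx
    rw [this]
    exact N.one_mem
  have hsol : Group.IsSolvable ↥N' := by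
    let f : ↥R →* ↥N' := Subgroup.inclusion hRN
    let g : ↥N' →* ↥N := ((QuotientGroup.mk' R).comp N'.subtype).codRestrict N (fun x => x.2)
    refine Group.isSolvable_of_ker_le_range f g ?_
    intro x hx
    have h1 : (QuotientGroup.mk' R (x : G)) = 1 :=
      congrArg Subtype.val (MonoidHom.mem_ker.mp hx)
    have hxR : (x : G) ∈ R := (QuotientGroup.eq_one_iff _).mp h1
    exact ⟨⟨x, hxR⟩, Subtype.ext rfl⟩
  have hle := hRmax N' hN'n hsol
  rw [eq_bot_iff]
  intro y hy
  obtain ⟨x, rfl⟩ := QuotientGroup.mk_surjective y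
  have hx : x ∈ N' := hy
  rw [Subgroup.mem_bot]
  exact (QuotientGroup.eq_one_iff x).mpr (hle hx)

/-- The solvable radical of a non-solvable CP-group is a `p`-group. -/
theorem radical_isPGroup {G : Type u} [Group G] [Finite G] (hns : ¬ Group.IsSolvable G) (hpp : CP G)
    (R : Subgroup G) [R.Normal] (hRs : Group.IsSolvable ↥R) :
    ∃ p : ℕ, p.Prime ∧ IsPGroup p ↥R := by
  by_cases hR : R = ⊥
  · subst hR; exact ⟨2, Nat.prime_two, IsPGroup.of_bot⟩
  haveI : Nontrivial ↥R := (Subgroup.nontrivial_iff_ne_bot R).mpr hR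
  haveI := hRs
  obtain ⟨p, N, hp, hNn, hNne, hNp⟩ := exists_normal_pgroup (H := ↥R)
  haveI := Fact.mk hp
  obtain ⟨K, hKn, hKp, hKR, hK⟩ := exists_normal_pgroup_lift (p := p) R
  have hKne : K ≠ ⊥ := by
    intro hK0
    have := hK N hNn hNp
    rw [hK0, le_bot_iff, Subgroup.map_eq_bot_iff_of_injective _ R.subtype_injective] at this
    exact hNne this
  refine ⟨p, hp, ?_⟩
  by_contra hRp
  obtain ⟨q, hq, hqp, hqd⟩ := exists_prime_ne_dvd_card hp hRp
  apply hns
  have hquot : Group.IsSolvable (G ⧸ R) := by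
    refine Cfsg.Agent.S0144.aux p q hp hq _ (G ⧸ R) rfl ?_
    intro r hr hrd
    by_contra hcon
    push Not at hcon
    rw [← Subgroup.index_eq_card] at hrd
    exact normal_case hp hq hr hqp.symm (Ne.symm hcon.1) (Ne.symm hcon.2)
      (hpp.no_order_mul hp hq hqp.symm) (hpp.no_order_mul hp hr (Ne.symm hcon.1))
      (hpp.no_order_mul hq hr (Ne.symm hcon.2)) K R hKp hKne hqd hrd
  exact Group.isSolvable_of_ker_le_range R.subtype (QuotientGroup.mk' R)
    (by rw [QuotientGroup.ker_mk', Subgroup.range_subtype])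

end Cfsg.Agent.Helper60
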