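import Mathlib
import Cfsg.Agent.Lib.Helper60.CPStruct

set_option autoImplicit false
set_option linter.style.haveILetI false
set_option linter.unusedVariables false

namespace Cfsg.Agent.Helper60

/-- In a group with no nontrivial solvable normal subgroup, a normal `p`-subgroup is trivial. -/
theorem eq_bot_of_isPGroup_of_rad {X : Type*} [Group X] [Finite X]
    (hrad : ∀ N : Subgroup X, N.Normal → Group.IsSolvable ↥N → N = ⊥)
    {p : ℕ} (hp : p.Prime) (N : Subgroup X) (hN : N.Normal) (hNp : IsPGroup p N) : N = ⊥ := by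
  haveI := Fact.mk hp
  haveI : Group.IsNilpotent ↥N := hNp.isNilpotent
  exact hrad N hN IsNilpotent.to_isSolvable

/-- A CP-group with trivial solvable radical has a unique minimal normal subgroup, which is
non-abelian simple. -/
theorem exists_unique_minimal_simple {X : Type*} [Group X] [Finite X] [Nontrivial X] (hcp : CP X)
    (hrad : ∀ N : Subgroup X, N.Normal → Group.IsSolvable ↥N → N = ⊥) :
    ∃ M : Subgroup X, M.Normal ∧ IsSimpleGroup ↥M ∧ ¬ IsMulCommutative ↥M ∧
      ∀ N : Subgroup X, N.Normal → N ≠ ⊥ → M ≤ N := by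
  obtain ⟨M, hMn, hMne, -, hMmin⟩ := exists_minimal_normal (⊤ : Subgroup X) top_ne_bot
  haveI := hMn
  haveI : Nontrivial ↥M := (Subgroup.nontrivial_iff_ne_bot M).mpr hMne
  have hcpM : CP ↥M := hcp.subgroup M
  -- no normal p-subgroups in M
  have hcoreM : ∀ p : ℕ, p.Prime → ∀ N : Subgroup ↥M, N.Normal → IsPGroup p N → N = ⊥ := by
    intro p hp N hN hNp
    haveI := Fact.mk hp
    obtain ⟨K, hKn, hKp, hKM, hK⟩ := exists_normal_pgroup_lift (p := p) M
    have hK0 : K = ⊥ := eq_bot_of_isPGroup_of_rad hrad hp K hKn hKp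
    have := hK N hN hNp
    rwa [hK0, le_bot_iff, Subgroup.map_eq_bot_iff_of_injective _ M.subtype_injective] at this
  refine ⟨M, hMn, ?_, ?_, ?_⟩
  · -- simple
    obtain ⟨T, hTn, hTne, -, hTmin⟩ := exists_minimal_normal (⊤ : Subgroup ↥M) top_ne_bot
    by_cases hT : T = ⊤
    · refine { toNontrivial := inferInstance, eq_bot_or_eq_top_of_normal := fun H hH => ?_ }
      by_cases hH0 : H = ⊥
      · exact Or.inl hH0
      · right
        rw [← hT]
        exact hTmin H hH hH0 (hT ▸ le_top)
    · exfalso
      by_cases hall : ∀ g : X, T.map (MulAut.conjNormal g : ↥M ≃* ↥M).toMonoidHom = T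
      · -- T is normal in X
        have hT0n : (T.map M.subtype).Normal := by
          constructor
          rintro _ ⟨t, ht, rfl⟩ g
          refine ⟨MulAut.conjNormal g t, ?_, ?_⟩
          · have : MulAut.conjNormal g t ∈ T.map (MulAut.conjNormal g : ↥M ≃* ↥M).toMonoidHom :=
              ⟨t, ht, rfl⟩
            rwa [hall g] at this
          · simp [MulAut.conjNormal_apply]
        have hT0ne : T.map M.subtype ≠ ⊥ := by
          rwa [Ne, Subgroup.map_eq_bot_iff_of_injective _ M.subtype_injective]
        have hT0 : T.map M.subtype = M :=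
          hMmin _ hT0n hT0ne (Subgroup.map_subtype_le _)
        apply hT
        rw [eq_top_iff]
        intro m _
        have hm : (m : X) ∈ T.map M.subtype := by rw [hT0]; exact m.2
        obtain ⟨t, ht, htm⟩ := hm
        have : t = m := Subtype.ext htm
        rwa [← this]
      · push Not at hall
        obtain ⟨g, hg⟩ := hall
        set Tg := T.map (MulAut.conjNormal g : ↥M ≃* ↥M).toMonoidHom with hTg
        have hinj : Function.Injective (MulAut.conjNormal g : ↥M ≃* ↥M).toMonoidHom :=
          MulEquiv.injective _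
        have hTgn : Tg.Normal := hTn.map _ (MulEquiv.surjective _)
        have hTgne : Tg ≠ ⊥ := by
          rwa [Ne, hTg, Subgroup.map_eq_bot_iff_of_injective _ hinj]
        have hdisj : T ⊓ Tg = ⊥ := by
          by_contra hne
          haveI := hTn
          haveI := hTgn
          have h1 : T ⊓ Tg = T := hTmin (T ⊓ Tg) inferInstance hne inf_le_left
          have h2 : T ≤ Tg := by rw [← h1]; exact inf_le_right
          have h3 : Nat.card Tg = Nat.card T := Subgroup.card_map_of_injective hinj
          exact hg (Subgroup.eq_of_le_of_card_ge h2 h3.le).symm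
        have hcomm : ∀ a ∈ T, ∀ b ∈ Tg, Commute a b := fun a ha b hb =>
          Subgroup.commute_of_normal_of_disjoint T Tg hTn hTgn (disjoint_iff.mpr hdisj) a b ha hb
        obtain ⟨p, hp, hpT⟩ := hcpM.isPGroup_of_commute T Tg hTne hcomm
        exact hTgne (hcoreM p hp Tg hTgn hpT)
  · -- noncommutative
    intro hcomm
    have : Group.IsSolvable ↥M := Group.isSolvable_of_comm (fun a b => mul_comm' a b)
    exact hMne (hrad M hMn this)
  · -- unique
    intro N hN hNne
    by_contra hMN
    haveI := hN
    have hdisj : M ⊓ N = ⊥ := by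
      by_contra hne
      have h1 : M ⊓ N = M := hMmin (M ⊓ N) inferInstance hne inf_le_left
      exact hMN (by rw [← h1]; exact inf_le_right)
    have hcomm : ∀ a ∈ M, ∀ b ∈ N, Commute a b := fun a ha b hb =>
      Subgroup.commute_of_normal_of_disjoint M N hMn hN (disjoint_iff.mpr hdisj) a b ha hb
    obtain ⟨p, hp, hpN⟩ := hcp.isPGroup_of_commute M N hMne hcomm
    exact hNne (eq_bot_of_isPGroup_of_rad hrad hp N hN hpN)

end Cfsg.Agent.Helper60
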