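import Mathlib
import Cfsg.Agent.Lib.Helper60.Friendship

set_option autoImplicit false
set_option linter.style.haveILetI false

namespace Cfsg.Agent.Helper60.FG5

open scoped Pointwise

variable {G : Type*} [Group G]

theorem orderOf_conj_h60 (g h : G) : orderOf (g * h * g⁻¹) = orderOf h :=
  orderOf_injective (MulAut.conj g).toMonoidHom (MulAut.conj g).injective h

theorem mem_cent_sing {g x : G} : x ∈ Subgroup.centralizer ({g} : Set G) ↔ g * x = x * g := by
  simp [Subgroup.mem_centralizer_iff]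

/-- closure of commuting involutions: every element squares to 1 -/
theorem closure_sq_one (S : Set G) (hS : ∀ x ∈ S, x ^ 2 = 1)
    (hc : ∀ x ∈ S, ∀ y ∈ S, x * y = y * x) :
    ∀ x ∈ Subgroup.closure S, x ^ 2 = 1 := by
  have h1 : Subgroup.closure S ≤ Subgroup.centralizer (Subgroup.closure S : Set G) := by
    have hA : Subgroup.closure S ≤ Subgroup.centralizer S := by
      rw [Subgroup.closure_le]
      intro x hx
      rw [SetLike.mem_coe, Subgroup.mem_centralizer_iff]
      intro y hy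
      exact hc y hy x hx
    have hB : Subgroup.centralizer (Subgroup.centralizer S : Set G) ≤
        Subgroup.centralizer (Subgroup.closure S : Set G) :=
      Subgroup.centralizer_le hA
    exact le_trans (Subgroup.closure_le_centralizer_centralizer S) hB
  intro x hx
  induction hx using Subgroup.closure_induction with
  | mem x hx => exact hS x hx
  | one => simp
  | mul x y hx hy ihx ihy =>
    have hcomm : Commute x y := by
      have := h1 hy
      rw [Subgroup.mem_centralizer_iff] at this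
      exact this x hx
    rw [hcomm.mul_pow, ihx, ihy, one_mul]
  | inv x hx ih => rw [inv_pow, ih, inv_one]

theorem closure_two_group (S : Set G) (hS : ∀ x ∈ S, x ^ 2 = 1)
    (hc : ∀ x ∈ S, ∀ y ∈ S, x * y = y * x) : IsPGroup 2 (Subgroup.closure S) := by
  rintro ⟨x, hx⟩
  refine ⟨1, ?_⟩
  apply Subtype.ext
  simpa using closure_sq_one S hS hc x hx

theorem mem_normalizer_zpowers_of_conj {t c : G} (h1 : t * c * t⁻¹ ∈ Subgroup.zpowers c)
    (h2 : t⁻¹ * c * t ∈ Subgroup.zpowers c) :
    t ∈ Subgroup.normalizer (Subgroup.zpowers c : Set G) := by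
  rw [Subgroup.mem_normalizer_iff]
  intro h
  constructor
  · intro hh
    obtain ⟨k, rfl⟩ := Subgroup.mem_zpowers_iff.mp hh
    rw [← conj_zpow]
    exact Subgroup.zpow_mem _ h1 k
  · intro hh
    have e : h = t⁻¹ * (t * h * t⁻¹) * t := by group
    rw [e]
    obtain ⟨k, hk⟩ := Subgroup.mem_zpowers_iff.mp hh
    rw [← hk]
    have e2 : t⁻¹ * c ^ k * t = (t⁻¹ * c * t) ^ k := by
      have := conj_zpow (a := t⁻¹) (b := c) (i := k)
      simpa using this.symm
    rw [e2]
    exact Subgroup.zpow_mem _ h2 k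

theorem normalizer_zpowers_ne_top [IsSimpleGroup G]
    (hZ : ∀ z : G, (∀ g, g * z = z * g) → z = 1)
    {x : G} (hx : x ≠ 1) : Subgroup.normalizer (Subgroup.zpowers x : Set G) ≠ ⊤ := by
  intro htop
  have hn : (Subgroup.zpowers x).Normal := Subgroup.normalizer_eq_top_iff.mp htop
  rcases hn.eq_bot_or_eq_top with h | h
  · exact hx (Subgroup.zpowers_eq_bot.mp h)
  · apply hx
    apply hZ
    intro g
    have : g ∈ Subgroup.zpowers x := h ▸ Subgroup.mem_top g
    obtain ⟨k, rfl⟩ := Subgroup.mem_zpowers_iff.mp this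
    exact (Commute.zpow_self x k).eq

theorem two_sub_card [IsSimpleGroup G] [Finite G]
    (hZ : ∀ z : G, (∀ g, g * z = z * g) → z = 1) (a : ℕ)
    (heven : ∀ H : Subgroup G, H ≠ ⊤ → 2 ∣ Nat.card H → Nat.card H ∣ 4 * 3 ^ a)
    (H : Subgroup G) (h2 : IsPGroup 2 H) : Nat.card H ∣ 4 := by
  haveI : Fact (Nat.Prime 2) := ⟨Nat.prime_two⟩
  obtain ⟨k, hk⟩ := IsPGroup.iff_card.mp h2
  rcases Nat.eq_zero_or_pos k with rfl | hkpos
  · rw [hk]; norm_num
  have hne : H ≠ ⊤ := by
    rintro rfl
    have hG2 : IsPGroup 2 G := by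
      apply IsPGroup.of_card (n := k); rw [← hk, Subgroup.card_top]
    haveI := IsPGroup.center_nontrivial hG2
    obtain ⟨z, hz⟩ := exists_ne (1 : Subgroup.center G)
    apply hz
    apply Subtype.ext
    apply hZ
    intro g
    exact (Subgroup.mem_center_iff.mp z.2 g)
  have h2d : 2 ∣ Nat.card H := by rw [hk]; exact dvd_pow_self 2 hkpos.ne'
  have := heven H hne h2d
  rw [hk] at this ⊢
  have hcop : Nat.Coprime (2 ^ k) (3 ^ a) := Nat.Coprime.pow _ _ (by norm_num)
  have h4 : (4 : ℕ) = 2 ^ 2 := by norm_num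
  exact hcop.dvd_of_dvd_mul_right this

theorem unique_invol [Finite G] {n : ℕ} (hn : Odd n) (Q C : Subgroup G) (hQC : Q ≤ C)
    (hQ : Nat.card Q = n) (hCc : Nat.card C = 2 * n)
    (hcent : C ≤ Subgroup.centralizer (Q : Set G)) {w1 w2 : G} (h1 : w1 ∈ C) (h2 : w2 ∈ C)
    (o1 : orderOf w1 = 2) (o2 : orderOf w2 = 2) : w1 = w2 := by
  have hnpos : 0 < n := hn.pos
  have hidx : (Q.subgroupOf C).index = 2 := by
    have := Subgroup.relIndex_mul_relIndex ⊥ Q C bot_le hQC
    rw [Subgroup.relIndex_bot_left, Subgroup.relIndex_bot_left, hQ, hCc] at this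
    have : Q.relIndex C = 2 := by nlinarith
    exact this
  have hnot : ∀ w, orderOf w = 2 → w ∉ Q := by
    intro w ow hw
    have := Subgroup.orderOf_dvd_natCard Q hw
    rw [ow, hQ] at this
    exact (Nat.not_even_iff_odd.mpr hn) (even_iff_two_dvd.mpr this)
  have hmem : w1 * w2 ∈ Q := by
    have := Subgroup.mul_mem_iff_of_index_two hidx (a := ⟨w1, h1⟩) (b := ⟨w2, h2⟩)
    rw [Subgroup.mem_subgroupOf, Subgroup.mem_subgroupOf, Subgroup.mem_subgroupOf] at this
    exact this.mpr ⟨fun h => absurd h (hnot w1 o1), fun h => absurd h (hnot w2 o2)⟩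
  have hcomm : (w1 * w2) * w1 = w1 * (w1 * w2) := by
    have := hcent h1
    rw [Subgroup.mem_centralizer_iff] at this
    exact this _ hmem
  have hw1 : w1 ^ 2 = 1 := by rw [← o1]; exact pow_orderOf_eq_one w1
  have hw2 : w2 ^ 2 = 1 := by rw [← o2]; exact pow_orderOf_eq_one w2
  have hc12 : w1 * w2 = w2 * w1 := by
    have : w1 * (w2 * w1) = w1 * (w1 * w2) := by rw [← mul_assoc]; exact hcomm
    exact (mul_left_cancel this).symm
  have hsq : (w1 * w2) ^ 2 = 1 := by
    rw [(show Commute w1 w2 from hc12).mul_pow, hw1, hw2, one_mul]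
  have hord : orderOf (w1 * w2) ∣ 2 := orderOf_dvd_of_pow_eq_one hsq
  have hord2 : orderOf (w1 * w2) ∣ n := hQ ▸ Subgroup.orderOf_dvd_natCard Q hmem
  have h1' : orderOf (w1 * w2) = 1 := by
    have hd := Nat.dvd_gcd hord hord2
    have hg : Nat.gcd 2 n = 1 := Nat.coprime_two_left.mpr hn
    rw [hg] at hd
    exact Nat.dvd_one.mp hd
  have h12 : w1 * w2 = 1 := orderOf_eq_one_iff.mp h1'
  have hw2inv : w2⁻¹ = w2 := inv_eq_of_mul_eq_one_left (by rw [← sq]; exact hw2)
  rw [← hw2inv]; exact eq_inv_of_mul_eq_one_left h12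


theorem arith_proper_dvd {o N : ℕ} (h1 : o ∣ N) (h2 : N ∣ 4) (h3 : o ≠ N) : o ∣ 2 := by
  have hN4 : N ≤ 4 := Nat.le_of_dvd (by norm_num) h2
  have hNpos : 0 < N := Nat.pos_of_dvd_of_pos h2 (by norm_num)
  have hoN : o ≤ N := Nat.le_of_dvd hNpos h1
  have hopos : 0 < o := Nat.pos_of_dvd_of_pos h1 hNpos
  interval_cases N <;> interval_cases o <;> omega

theorem mem_conj_smul {g x : G} {S : Subgroup G} :
    x ∈ (MulAut.conj g • S : Subgroup G) ↔ g⁻¹ * x * g ∈ S := by
  rw [Subgroup.mem_pointwise_smul_iff_inv_smul_mem]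
  simp [MulAut.smul_def]

theorem centralizer_conj_smul (g : G) (S : Subgroup G) :
    Subgroup.centralizer ((MulAut.conj g • S : Subgroup G) : Set G) =
      MulAut.conj g • Subgroup.centralizer (S : Set G) := by
  ext x
  rw [mem_conj_smul, Subgroup.mem_centralizer_iff, Subgroup.mem_centralizer_iff]
  constructor
  · intro h y hy
    have h1 : g * y * g⁻¹ ∈ (MulAut.conj g • S : Subgroup G) := by
      rw [mem_conj_smul]
      have e : g⁻¹ * (g * y * g⁻¹) * g = y := by group
      rw [e]; exact hy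
    have := h _ h1
    calc y * (g⁻¹ * x * g) = g⁻¹ * ((g * y * g⁻¹) * x) * g := by group
      _ = g⁻¹ * (x * (g * y * g⁻¹)) * g := by rw [this]
      _ = g⁻¹ * x * g * y := by group
  · intro h y hy
    rw [SetLike.mem_coe, mem_conj_smul] at hy
    have := h _ hy
    calc y * x = g * ((g⁻¹ * y * g) * (g⁻¹ * x * g)) * g⁻¹ := by group
      _ = g * ((g⁻¹ * x * g) * (g⁻¹ * y * g)) * g⁻¹ := by rw [this]
      _ = x * y := by group

theorem conj_transport [Finite G] (g : G) (S : Subgroup G) :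
    Nat.card (MulAut.conj g • S : Subgroup G) = Nat.card S ∧
    ((∀ x ∈ S, ∀ y ∈ S, x * y = y * x) →
      ∀ x ∈ (MulAut.conj g • S : Subgroup G), ∀ y ∈ (MulAut.conj g • S : Subgroup G),
        x * y = y * x) ∧
    Nat.card (Subgroup.centralizer ((MulAut.conj g • S : Subgroup G) : Set G)) =
      Nat.card (Subgroup.centralizer (S : Set G)) := by
  refine ⟨?_, ?_, ?_⟩
  · exact Nat.card_congr (Subgroup.equivSMul (MulAut.conj g) S).toEquiv.symm
  · intro h x hx y hy
    rw [mem_conj_smul] at hx hy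
    have := h _ hx _ hy
    calc x * y = g * ((g⁻¹ * x * g) * (g⁻¹ * y * g)) * g⁻¹ := by group
      _ = g * ((g⁻¹ * y * g) * (g⁻¹ * x * g)) * g⁻¹ := by rw [this]
      _ = y * x := by group
  · rw [centralizer_conj_smul]
    exact Nat.card_congr (Subgroup.equivSMul (MulAut.conj g) _).toEquiv.symm

theorem conj_commute_of_inverts {g x t : G} (hx : x * g * x⁻¹ = g⁻¹) (ht : g * t = t * g) :
    g * (x * t * x⁻¹) = (x * t * x⁻¹) * g := by
  have e1 : g * x = x * g⁻¹ := by
    have h' : x * g⁻¹ * x⁻¹ = g := by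
      have := congrArg Inv.inv hx
      simpa [mul_assoc] using this
    calc g * x = (x * g⁻¹ * x⁻¹) * x := by rw [h']
      _ = x * g⁻¹ := by group
  have e2 : g⁻¹ * x⁻¹ = x⁻¹ * g := by
    have h' : x * g = g⁻¹ * x := by
      calc x * g = (x * g * x⁻¹) * x := by group
        _ = g⁻¹ * x := by rw [hx]
    have := congrArg Inv.inv h'
    simpa using this
  have e3 : g⁻¹ * t = t * g⁻¹ := ((show Commute g t from ht).inv_left).eq
  calc g * (x * t * x⁻¹) = (g * x) * t * x⁻¹ := by group
    _ = x * (g⁻¹ * t) * x⁻¹ := by rw [e1]; group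
    _ = x * t * (g⁻¹ * x⁻¹) := by rw [e3]; group
    _ = (x * t * x⁻¹) * g := by rw [e2]; group

section main

variable [IsSimpleGroup G] [Finite G]
  (hZ : ∀ z : G, (∀ g, g * z = z * g) → z = 1) (a : ℕ)
  (heven : ∀ H : Subgroup G, H ≠ ⊤ → 2 ∣ Nat.card H → Nat.card H ∣ 4 * 3 ^ a)

include hZ heven in
theorem common_comm
    {u v : G} (ou : orderOf u = 2) (ov : orderOf v = 2) (huv : u ≠ v) (hc : u * v = v * u) :
    ∃ t : G, orderOf t = 2 ∧ t ≠ u ∧ t ≠ v ∧ t * u = u * t ∧ t * v = v * t ∧
      ∀ s : G, orderOf s = 2 → s ≠ u → s ≠ v → s * u = u * s → s * v = v * s → s = t := by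
  haveI : Fact (Nat.Prime 2) := ⟨Nat.prime_two⟩
  have hu2 : u ^ 2 = 1 := by rw [← ou]; exact pow_orderOf_eq_one u
  have hv2 : v ^ 2 = 1 := by rw [← ov]; exact pow_orderOf_eq_one v
  have hu1 : u ≠ 1 := by rintro rfl; simp at ou
  have hv1 : v ≠ 1 := by rintro rfl; simp at ov
  have hvinv : v⁻¹ = v := inv_eq_of_mul_eq_one_left (by rw [← sq]; exact hv2)
  have huv1 : u * v ≠ 1 := by
    intro h
    have : u = v⁻¹ := eq_inv_of_mul_eq_one_left h
    exact huv (this.trans hvinv)
  have huv_u : u * v ≠ u := by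
    intro h; exact hv1 (mul_left_cancel (a := u) (by rw [h, mul_one]))
  have huv_v : u * v ≠ v := by
    intro h; exact hu1 (mul_right_cancel (b := v) (by rw [h, one_mul]))
  refine ⟨u * v, ?_, huv_u, huv_v, ?_, ?_, ?_⟩
  · apply orderOf_eq_prime
    · rw [(show Commute u v from hc).mul_pow, hu2, hv2, one_mul]
    · exact huv1
  · exact ((Commute.refl u).mul_left (show Commute v u from hc.symm)).eq
  · exact ((show Commute u v from hc).mul_left (Commute.refl v)).eq
  · intro s os hsu hsv csu csv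
    by_contra hne
    have hs2 : s ^ 2 = 1 := by rw [← os]; exact pow_orderOf_eq_one s
    have hs1 : s ≠ 1 := by rintro rfl; simp at os
    have hS2 : ∀ x ∈ ({u, v, s} : Set G), x ^ 2 = 1 := by
      intro x hx
      rcases hx with rfl | rfl | rfl <;> assumption
    have hSc : ∀ x ∈ ({u, v, s} : Set G), ∀ y ∈ ({u, v, s} : Set G), x * y = y * x := by
      intro x hx y hy
      rcases hx with rfl | rfl | rfl <;> rcases hy with rfl | rfl | rfl <;>
        first | rfl | assumption | (symm; assumption)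
    have hP := closure_two_group _ hS2 hSc
    have hcard := two_sub_card hZ a heven _ hP
    have hle : Nat.card (Subgroup.closure ({u, v, s} : Set G)) ≤ 4 :=
      Nat.le_of_dvd (by norm_num) hcard
    classical
    have e1 : s ∉ ({u * v} : Finset G) := by
      simp only [Finset.mem_singleton]; exact hne
    have e2 : v ∉ ({s, u * v} : Finset G) := by
      simp only [Finset.mem_insert, Finset.mem_singleton, not_or]
      exact ⟨hsv.symm, huv_v.symm⟩
    have e3 : u ∉ ({v, s, u * v} : Finset G) := by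
      simp only [Finset.mem_insert, Finset.mem_singleton, not_or]
      exact ⟨huv, hsu.symm, huv_u.symm⟩
    have e4 : (1 : G) ∉ ({u, v, s, u * v} : Finset G) := by
      simp only [Finset.mem_insert, Finset.mem_singleton, not_or]
      exact ⟨hu1.symm, hv1.symm, hs1.symm, huv1.symm⟩
    have hF : ({1, u, v, s, u * v} : Finset G).card = 5 := by
      rw [Finset.card_insert_of_notMem e4, Finset.card_insert_of_notMem e3,
        Finset.card_insert_of_notMem e2, Finset.card_insert_of_notMem e1, Finset.card_singleton]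
    have hsub : (({1, u, v, s, u * v} : Finset G) : Set G) ⊆
        (Subgroup.closure ({u, v, s} : Set G) : Set G) := by
      intro x hx
      simp only [Finset.coe_insert, Finset.coe_singleton, Set.mem_insert_iff,
        Set.mem_singleton_iff] at hx
      have mu : u ∈ Subgroup.closure ({u, v, s} : Set G) :=
        Subgroup.subset_closure (by simp)
      have mv : v ∈ Subgroup.closure ({u, v, s} : Set G) :=
        Subgroup.subset_closure (by simp)
      have ms : s ∈ Subgroup.closure ({u, v, s} : Set G) :=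
        Subgroup.subset_closure (by simp)
      rcases hx with rfl | rfl | rfl | rfl | rfl
      · exact one_mem _
      · exact mu
      · exact mv
      · exact ms
      · exact mul_mem mu mv
    have h5 := Set.ncard_le_ncard hsub (Set.toFinite _)
    rw [Set.ncard_coe_finset, hF] at h5
    have e : Nat.card (Subgroup.closure ({u, v, s} : Set G)) =
        (Subgroup.closure ({u, v, s} : Set G) : Set G).ncard := rfl
    omega


include hZ heven in
theorem common_noncomm
    (hsyl : ∀ g : G, g ^ (3 ^ a) = 1 → ∃ Q : Subgroup G, g ∈ Q ∧ Nat.card Q = 3 ^ a ∧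
        (∀ x ∈ Q, ∀ y ∈ Q, x * y = y * x) ∧
        Nat.card (Subgroup.centralizer (Q : Set G)) = 2 * 3 ^ a)
    {u v : G} (ou : orderOf u = 2) (ov : orderOf v = 2) (hnc : u * v ≠ v * u) :
    ∃ t : G, orderOf t = 2 ∧ t ≠ u ∧ t ≠ v ∧ t * u = u * t ∧ t * v = v * t ∧
      ∀ s : G, orderOf s = 2 → s ≠ u → s ≠ v → s * u = u * s → s * v = v * s → s = t := by
  haveI : Fact (Nat.Prime 2) := ⟨Nat.prime_two⟩
  haveI : Fact (Nat.Prime 3) := ⟨Nat.prime_three⟩
  have hu2 : u ^ 2 = 1 := by rw [← ou]; exact pow_orderOf_eq_one u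
  have hv2 : v ^ 2 = 1 := by rw [← ov]; exact pow_orderOf_eq_one v
  have huu : u * u = 1 := by rw [← sq]; exact hu2
  have hvv : v * v = 1 := by rw [← sq]; exact hv2
  have huinv : u⁻¹ = u := inv_eq_of_mul_eq_one_left huu
  have hvinv : v⁻¹ = v := inv_eq_of_mul_eq_one_left hvv
  obtain ⟨c, hcdef⟩ : ∃ c : G, c = u * v := ⟨_, rfl⟩
  have hcinv : c⁻¹ = v * u := by rw [hcdef, mul_inv_rev, huinv, hvinv]
  have huc : u * c * u⁻¹ = c⁻¹ := by
    rw [hcinv, huinv, hcdef, ← mul_assoc, huu, one_mul]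
  have hvc : v * c * v⁻¹ = c⁻¹ := by
    rw [hcinv, hvinv, hcdef, mul_assoc, mul_assoc, hvv, mul_one]
  have hc1 : c ≠ 1 := by
    intro h; apply hnc
    have : u = v⁻¹ := eq_inv_of_mul_eq_one_left (hcdef ▸ h)
    rw [this, hvinv]
  have hc2 : c ^ 2 ≠ 1 := by
    intro h; apply hnc
    have : c = c⁻¹ := eq_inv_of_mul_eq_one_left (by rw [← sq]; exact h)
    rw [hcinv, hcdef] at this; exact this
  have huM : u ∈ Subgroup.normalizer (Subgroup.zpowers c : Set G) := by
    apply mem_normalizer_zpowers_of_conj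
    · rw [huc]; exact inv_mem (Subgroup.mem_zpowers c)
    · have : u⁻¹ * c * u = u * c * u⁻¹ := by rw [huinv]
      rw [this, huc]; exact inv_mem (Subgroup.mem_zpowers c)
  have hM : Subgroup.normalizer (Subgroup.zpowers c : Set G) ≠ ⊤ :=
    normalizer_zpowers_ne_top hZ hc1
  have hMeven : 2 ∣ Nat.card (Subgroup.normalizer (Subgroup.zpowers c : Set G)) := by
    rw [← ou]; exact Subgroup.orderOf_dvd_natCard _ huM
  have hMcard := heven _ hM hMeven
  have hoc : orderOf c ∣ 4 * 3 ^ a := by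
    have h1 : orderOf c ∣ Nat.card (Subgroup.normalizer (Subgroup.zpowers c : Set G)) :=
      Subgroup.orderOf_dvd_natCard _ (Subgroup.le_normalizer (Subgroup.mem_zpowers c))
    exact h1.trans hMcard
  obtain ⟨g, hgdef⟩ : ∃ g : G, g = c ^ 4 := ⟨_, rfl⟩
  have hg3 : g ^ (3 ^ a) = 1 := by
    rw [hgdef, ← pow_mul]; exact orderOf_dvd_iff_pow_eq_one.mp hoc
  have hg1 : g ≠ 1 := by
    intro hg
    have hPc : IsPGroup 2 (Subgroup.zpowers c) := by
      have : orderOf c ∣ 2 ^ 2 := orderOf_dvd_of_pow_eq_one (by rw [← hg, hgdef]; norm_num)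
      obtain ⟨m, -, hm⟩ := (Nat.dvd_prime_pow Nat.prime_two).mp this
      exact IsPGroup.of_card (n := m) (by rw [Nat.card_zpowers, hm])
    have hPu : IsPGroup 2 (Subgroup.zpowers u) :=
      IsPGroup.of_card (n := 1) (by rw [Nat.card_zpowers, ou]; rfl)
    have hT : IsPGroup 2 (Subgroup.zpowers u ⊔ Subgroup.zpowers c : Subgroup G) :=
      IsPGroup.to_sup_of_normal_right' hPu hPc (by rw [Subgroup.zpowers_le]; exact huM)
    have hTc := two_sub_card hZ a heven _ hT
    have hle : Subgroup.zpowers c ≤ Subgroup.zpowers u ⊔ Subgroup.zpowers c := le_sup_right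
    have hd : orderOf c ∣ Nat.card (Subgroup.zpowers u ⊔ Subgroup.zpowers c : Subgroup G) := by
      rw [← Nat.card_zpowers]; exact Subgroup.card_dvd_of_le hle
    have hune : u ∉ Subgroup.zpowers c := by
      intro hu
      obtain ⟨k, hk⟩ := Subgroup.mem_zpowers_iff.mp hu
      have hcomm : Commute u c := by rw [← hk]; exact Commute.zpow_self c k
      have : c = c⁻¹ := by rw [← huc, hcomm.eq, mul_inv_cancel_right]
      apply hc2; rw [sq]; nth_rewrite 2 [this]; exact mul_inv_cancel c
    have hne : orderOf c ≠ Nat.card (Subgroup.zpowers u ⊔ Subgroup.zpowers c : Subgroup G) := by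
      intro he
      have : Subgroup.zpowers c = Subgroup.zpowers u ⊔ Subgroup.zpowers c :=
        Subgroup.eq_of_le_of_card_ge hle (by rw [Nat.card_zpowers, he])
      apply hune; rw [this]; exact Subgroup.mem_sup_left (Subgroup.mem_zpowers u)
    have : orderOf c ∣ 2 := arith_proper_dvd hd hTc hne
    exact hc2 (orderOf_dvd_iff_pow_eq_one.mp this)
  have hug : u * g * u⁻¹ = g⁻¹ := by
    rw [hgdef, ← conj_pow, huc, inv_pow]
  have hvg : v * g * v⁻¹ = g⁻¹ := by
    rw [hgdef, ← conj_pow, hvc, inv_pow]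
  have hgg : g ≠ g⁻¹ := by
    intro h
    have h2 : g ^ 2 = 1 := by rw [sq]; nth_rewrite 2 [h]; exact mul_inv_cancel g
    have hd1 : orderOf g ∣ 2 := orderOf_dvd_of_pow_eq_one h2
    have hd2 : orderOf g ∣ 3 ^ a := orderOf_dvd_of_pow_eq_one hg3
    have := Nat.dvd_gcd hd1 hd2
    have hcop : Nat.gcd 2 (3 ^ a) = 1 := Nat.Coprime.pow_right a (by norm_num)
    rw [hcop] at this
    exact hg1 (orderOf_eq_one_iff.mp (Nat.dvd_one.mp this))
  obtain ⟨Q, hgQ, hQcard, hQab, hCQ⟩ := hsyl g hg3
  have hQC' : Q ≤ Subgroup.centralizer (Q : Set G) :=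
    fun x hx => Subgroup.mem_centralizer_iff.mpr (fun y hy => hQab y hy x hx)
  have hC'Cg : Subgroup.centralizer (Q : Set G) ≤ Subgroup.centralizer ({g} : Set G) :=
    Subgroup.centralizer_le (by simpa using hgQ)
  have hCgM : Subgroup.centralizer ({g} : Set G) ≤
      Subgroup.normalizer (Subgroup.zpowers g : Set G) := by
    intro x hx
    rw [mem_cent_sing] at hx
    apply mem_normalizer_zpowers_of_conj
    · have : x * g * x⁻¹ = g := by rw [← hx, mul_inv_cancel_right]
      rw [this]; exact Subgroup.mem_zpowers g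
    · have : x⁻¹ * g * x = g := by rw [mul_assoc, hx, inv_mul_cancel_left]
      rw [this]; exact Subgroup.mem_zpowers g
  have huM' : u ∈ Subgroup.normalizer (Subgroup.zpowers g : Set G) := by
    apply mem_normalizer_zpowers_of_conj
    · rw [hug]; exact inv_mem (Subgroup.mem_zpowers g)
    · have : u⁻¹ * g * u = u * g * u⁻¹ := by rw [huinv]
      rw [this, hug]; exact inv_mem (Subgroup.mem_zpowers g)
  have hMne : Subgroup.normalizer (Subgroup.zpowers g : Set G) ≠ ⊤ :=
    normalizer_zpowers_ne_top hZ hg1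
  have hMcard' : Nat.card (Subgroup.normalizer (Subgroup.zpowers g : Set G)) ∣ 4 * 3 ^ a :=
    heven _ hMne (by rw [← ou]; exact Subgroup.orderOf_dvd_natCard _ huM')
  have hd1 : 2 * 3 ^ a ∣ Nat.card (Subgroup.centralizer ({g} : Set G)) :=
    hCQ ▸ Subgroup.card_dvd_of_le hC'Cg
  have hd2 : Nat.card (Subgroup.centralizer ({g} : Set G)) ∣
      Nat.card (Subgroup.normalizer (Subgroup.zpowers g : Set G)) :=
    Subgroup.card_dvd_of_le hCgM
  have huCg : u ∉ Subgroup.centralizer ({g} : Set G) := by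
    intro hu; rw [mem_cent_sing] at hu
    apply hgg
    rw [← hug, ← hu, mul_inv_cancel_right]
  have hvCg : v ∉ Subgroup.centralizer ({g} : Set G) := by
    intro hv; rw [mem_cent_sing] at hv
    apply hgg
    rw [← hvg, ← hv, mul_inv_cancel_right]
  have hCgcard : Nat.card (Subgroup.centralizer ({g} : Set G)) = 2 * 3 ^ a := by
    obtain ⟨j, hj⟩ := hd1
    have hj2 : 2 * 3 ^ a * j ∣ 2 * 3 ^ a * 2 := by
      rw [← hj]
      exact hd2.trans (by rw [show 2 * 3 ^ a * 2 = 4 * 3 ^ a by ring]; exact hMcard')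
    have hpos : 0 < 2 * 3 ^ a := by positivity
    have hj' : j ∣ 2 := (Nat.mul_dvd_mul_iff_left hpos).mp hj2
    have hjle : j ≤ 2 := Nat.le_of_dvd (by norm_num) hj'
    have hjpos : 0 < j := Nat.pos_of_dvd_of_pos hj' (by norm_num)
    interval_cases j
    · rw [hj, mul_one]
    · exfalso
      have hMle : Nat.card (Subgroup.normalizer (Subgroup.zpowers g : Set G)) ≤
          Nat.card (Subgroup.centralizer ({g} : Set G)) := by
        rw [hj]
        have := Nat.le_of_dvd (by positivity) hMcard'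
        omega
      have : Subgroup.centralizer ({g} : Set G) =
          Subgroup.normalizer (Subgroup.zpowers g : Set G) :=
        Subgroup.eq_of_le_of_card_ge hCgM hMle
      exact huCg (this ▸ huM')
  have h2Cg : 2 ∣ Nat.card (Subgroup.centralizer ({g} : Set G)) := by
    rw [hCgcard]; exact dvd_mul_right 2 _
  obtain ⟨t0, ht0⟩ := exists_prime_orderOf_dvd_card' 2 h2Cg
  have ot : orderOf (t0 : G) = 2 := by rw [Subgroup.orderOf_coe]; exact ht0
  have hCgeq : Subgroup.centralizer ({g} : Set G) = Subgroup.centralizer (Q : Set G) :=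
    (Subgroup.eq_of_le_of_card_ge hC'Cg (by rw [hCgcard, hCQ])).symm
  have hUI : ∀ w1 w2, w1 ∈ Subgroup.centralizer ({g} : Set G) →
      w2 ∈ Subgroup.centralizer ({g} : Set G) → orderOf w1 = 2 → orderOf w2 = 2 → w1 = w2 := by
    intro w1 w2 h1 h2 o1 o2
    rw [hCgeq] at h1 h2
    exact unique_invol (Odd.pow (by decide)) Q _ hQC' hQcard hCQ le_rfl h1 h2 o1 o2
  have hut : u * t0 * u⁻¹ = t0 :=
    hUI _ _ (mem_cent_sing.mpr (conj_commute_of_inverts hug (mem_cent_sing.mp t0.2))) t0.2
      (by rw [orderOf_conj_h60]; exact ot) ot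
  have hvt : v * t0 * v⁻¹ = t0 :=
    hUI _ _ (mem_cent_sing.mpr (conj_commute_of_inverts hvg (mem_cent_sing.mp t0.2))) t0.2
      (by rw [orderOf_conj_h60]; exact ot) ot
  refine ⟨t0, ot, ?_, ?_, ?_, ?_, ?_⟩
  · intro h; exact huCg (h ▸ t0.2)
  · intro h; exact hvCg (h ▸ t0.2)
  · have : u * t0 = t0 * u := by
      calc u * t0 = (u * t0 * u⁻¹) * u := by group
        _ = t0 * u := by rw [hut]
    exact this.symm
  · have : v * t0 = t0 * v := by
      calc v * t0 = (v * t0 * v⁻¹) * v := by group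
        _ = t0 * v := by rw [hvt]
    exact this.symm
  · intro s os _ _ csu csv
    apply hUI s t0 ?_ t0.2 os ot
    rw [mem_cent_sing, hgdef, hcdef]
    have hsc : Commute s (u * v) :=
      (show Commute s u from csu).mul_right (show Commute s v from csv)
    exact (hsc.pow_right 4).eq.symm

end main

end Cfsg.Agent.Helper60.FG5
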