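import Mathlib
import Cfsg.Agent.Lib.Helper92.G24Defs

/-!
# Packed kernel arithmetic for the G24 server (helper92, S1679)

A vector of `F4^14` is a pair of bit planes `(lo, hi) : ℕ × ℕ`; a matrix is given by its 14 packed columns.
`h60_word_eq` / `h60_word_one` reduce `toM L = (w.map A).prod` / `(w.map A).prod = 1` to a Boolean check that the kernel
evaluates with GMP bit operations (`decide +kernel`).
-/

set_option autoImplicit false

namespace Cfsg.Agent.Helper60.G24

open Cfsg.Agent.Helper92.G24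

/-- a bit as an element of `ZMod 2` -/
def h60_bz (b : Bool) : ZMod 2 := if b then 1 else 0

/-- an element of `F4` from its two coordinates -/
def h60_mk (a b : ZMod 2) : F := ((a, b) : ZMod 2 × ZMod 2)

/-- unpack a pair of bit planes into a vector -/
def h60_unpack (p : ℕ × ℕ) : D.Idx → F :=
  fun i => h60_mk (h60_bz (p.1.testBit (ix i))) (h60_bz (p.2.testBit (ix i)))

/-- plane-wise xor = vector addition -/
def h60_pxor (a b : ℕ × ℕ) : ℕ × ℕ := (a.1 ^^^ b.1, a.2 ^^^ b.2)

/-- scalar multiplication of a packed vector by `b0 + b1 w` -/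
def h60_scale (b0 b1 : Bool) (c : ℕ × ℕ) : ℕ × ℕ :=
  match b0, b1 with
  | false, false => (0, 0)
  | true, false => c
  | false, true => (c.2, c.1 ^^^ c.2)
  | true, true => (c.1 ^^^ c.2, c.1)

/-- the positions `0..13` -/
def h60_L14 : List ℕ := [0, 1, 2, 3, 4, 5, 6, 7, 8, 9, 10, 11, 12, 13]

/-- matrix (given by packed columns) times packed vector -/
def h60_mv (cols : List (ℕ × ℕ)) (p : ℕ × ℕ) : ℕ × ℕ :=
  h60_L14.foldl (fun acc j => h60_pxor acc (h60_scale (p.1.testBit j) (p.2.testBit j) (cols.getD j (0, 0)))) (0, 0)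

/-- the packed columns of the six generator matrices -/
def h60_cols : ℕ → List (ℕ × ℕ)
  | 0 => [(4097, 0), (12290, 0), (12421, 0), (12555, 0), (1552, 0), (2080, 0), (2112, 0), (4224, 0), (8448, 0), (512, 0), (1024, 0), (2048, 0), (4096, 0), (8192, 0)]
  | 1 => [(8711, 1), (16151, 15279), (12863, 3329), (13225, 3441), (2861, 16273), (1469, 16352), (14999, 3121), (7613, 15617), (6132, 3193), (144, 5264), (15764, 5821), (10213, 6908), (15620, 189), (12223, 57)]
  | 2 => [(1, 0), (8194, 0), (8197, 0), (264, 0), (1040, 0), (2080, 0), (64, 0), (4224, 0), (256, 0), (512, 0), (1024, 0), (2048, 0), (4096, 0), (8192, 0)]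
  | 3 => [(12684, 0), (12545, 0), (4107, 0), (12555, 0), (2112, 0), (528, 0), (1552, 0), (4239, 0), (398, 0), (2144, 0), (96, 0), (1536, 0), (12674, 0), (386, 0)]
  | 4 => [(2049, 9216), (12802, 13824), (8037, 83), (12761, 7729), (10002, 6016), (11936, 7299), (11329, 6913), (14464, 2560), (5376, 3072), (12800, 8192), (9216, 4096), (6144, 12288), (4096, 0), (8192, 0)]
  | 5 => [(4097, 4096), (12290, 12288), (133, 12417), (267, 12547), (1552, 1536), (2080, 2048), (2112, 2048), (4224, 4096), (8448, 8192), (512, 0), (1024, 0), (2048, 0), (4096, 0), (8192, 0)]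
  | _ => []

theorem h60_mk_add (a b c d : ZMod 2) : h60_mk a b + h60_mk c d = h60_mk (a + c) (b + d) := rfl

theorem h60_bz_xor (a b : Bool) : h60_bz (a ^^ b) = h60_bz a + h60_bz b := by
  cases a <;> cases b <;> decide

theorem h60_unpack_pxor (a b : ℕ × ℕ) (i : D.Idx) :
    h60_unpack (h60_pxor a b) i = h60_unpack a i + h60_unpack b i := by
  simp only [h60_unpack, h60_pxor, Nat.testBit_xor, h60_bz_xor, h60_mk_add]

theorem h60_unpack_zero (i : D.Idx) : h60_unpack (0, 0) i = 0 := by
  simp only [h60_unpack, Nat.zero_testBit]; rfl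

theorem h60_mk_mul : ∀ b0 b1 x0 x1 : Bool,
    h60_mk (h60_bz b0) (h60_bz b1) * h60_mk (h60_bz x0) (h60_bz x1) =
      match b0, b1 with
      | false, false => 0
      | true, false => h60_mk (h60_bz x0) (h60_bz x1)
      | false, true => h60_mk (h60_bz x1) (h60_bz (x0 ^^ x1))
      | true, true => h60_mk (h60_bz (x0 ^^ x1)) (h60_bz x0) := by
  decide

theorem h60_unpack_scale (b0 b1 : Bool) (c : ℕ × ℕ) (i : D.Idx) :
    h60_unpack (h60_scale b0 b1 c) i = h60_mk (h60_bz b0) (h60_bz b1) * h60_unpack c i := by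
  have h := h60_mk_mul b0 b1 (c.1.testBit (ix i)) (c.2.testBit (ix i))
  cases b0 <;> cases b1 <;>
    simp only [h60_unpack, h60_scale, Nat.testBit_xor, Nat.zero_testBit] at h ⊢ <;> rw [h] <;> rfl

theorem h60_unpack_foldl (f : ℕ → ℕ × ℕ) (i : D.Idx) (l : List ℕ) (a : ℕ × ℕ) :
    h60_unpack (l.foldl (fun acc j => h60_pxor acc (f j)) a) i =
      h60_unpack a i + (l.map fun j => h60_unpack (f j) i).sum := by
  induction l generalizing a with
  | nil => simp
  | cons x l ih => simp [List.foldl_cons, ih, h60_unpack_pxor, add_assoc]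

theorem h60_sum_ix {M : Type*} [AddCommMonoid M] (φ : ℕ → M) :
    ∑ k : D.Idx, φ (ix k) = (h60_L14.map φ).sum := by
  have h0 : ∑ k : D.Idx, φ (ix k) =
      ∑ k : Fin 2, φ (ix (Sum.inl k)) + ∑ k : Fin 12, φ (ix (Sum.inr k)) :=
    Fintype.sum_sum_type _
  have h1 : ∑ k : Fin 2, φ (ix (Sum.inl k)) = ∑ n ∈ Finset.range 2, φ n :=
    Fin.sum_univ_eq_sum_range (fun n => φ n) 2
  have h2 : ∑ k : Fin 12, φ (ix (Sum.inr k)) = ∑ n ∈ Finset.range 12, φ (2 + n) :=
    Fin.sum_univ_eq_sum_range (fun n => φ (2 + n)) 12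
  rw [h0, h1, h2]
  simp only [Finset.sum_range_succ, Finset.sum_range_zero, h60_L14, List.map_cons, List.map_nil,
    List.sum_cons, List.sum_nil, zero_add, add_zero, Nat.reduceAdd]
  abel

theorem h60_ix_lt (i : D.Idx) : ix i < 14 := by
  rcases i with i | s
  · have := i.isLt; simp only [ix, Sum.elim_inl]; change (i : ℕ) < 2 at this; omega
  · have := s.isLt; simp only [ix, Sum.elim_inr]; change (s : ℕ) < 12 at this; omega

theorem h60_ix_inj {i j : D.Idx} (h : ix i = ix j) : i = j := by
  rcases i with i | s <;> rcases j with j | t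
  · simp only [ix, Sum.elim_inl] at h; exact congrArg _ (Fin.ext h)
  · have := i.isLt; change (i : ℕ) < 2 at this; simp only [ix, Sum.elim_inl, Sum.elim_inr] at h; omega
  · have := j.isLt; change (j : ℕ) < 2 at this; simp only [ix, Sum.elim_inl, Sum.elim_inr] at h; omega
  · simp only [ix, Sum.elim_inr] at h; exact congrArg _ (Fin.ext (by omega))

/-- one step: a matrix given by packed columns acts on packed vectors by `h60_mv` -/
theorem h60_step (M : Matrix D.Idx D.Idx F) (cols : List (ℕ × ℕ))
    (hc : ∀ i j : D.Idx, h60_unpack (cols.getD (ix j) (0, 0)) i = M i j) (p : ℕ × ℕ) :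
    M.mulVec (h60_unpack p) = h60_unpack (h60_mv cols p) := by
  funext i
  rw [h60_mv, h60_unpack_foldl, h60_unpack_zero, zero_add]
  have key := h60_sum_ix
    (fun n => h60_unpack (h60_scale (p.1.testBit n) (p.2.testBit n) (cols.getD n (0, 0))) i)
  rw [← key]
  simp only [Matrix.mulVec, dotProduct]
  apply Finset.sum_congr rfl
  intro k _
  rw [h60_unpack_scale, hc, mul_comm]
  rfl

/-- the code `0..3` at position `n` of a packed vector -/
def h60_code (q : ℕ × ℕ) (n : ℕ) : ℕ := (q.1.testBit n).toNat + 2 * (q.2.testBit n).toNat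

theorem h60_fc_code (b0 b1 : Bool) : fc (b0.toNat + 2 * b1.toNat) = h60_mk (h60_bz b0) (h60_bz b1) := by
  cases b0 <;> cases b1 <;> decide

theorem h60_cols_chk : ∀ k < 6, ∀ n < 14, ∀ m < 14,
    h60_code ((h60_cols k).getD m (0, 0)) n = ((matL k).getD n []).getD m 0 := by
  decide +kernel

theorem h60_cols_ok (k : ℕ) (i j : D.Idx) :
    h60_unpack ((h60_cols k).getD (ix j) (0, 0)) i = A k i j := by
  by_cases hk : k < 6
  · have h := h60_cols_chk k hk (ix i) (h60_ix_lt i) (ix j) (h60_ix_lt j)
    show _ = fc (((matL k).getD (ix i) []).getD (ix j) 0)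
    rw [← h, h60_code, h60_fc_code]
    rfl
  · obtain ⟨k, rfl⟩ : ∃ k', k = k' + 6 := ⟨k - 6, by omega⟩
    have h1 : h60_cols (k + 6) = [] := rfl
    have h2 : matL (k + 6) = [] := rfl
    simp only [h1, A, h2, Matrix.of_apply, List.getD_nil, h60_unpack_zero]
    rfl

/-- the packed action of a word -/
def h60_run (w : List ℕ) (p : ℕ × ℕ) : ℕ × ℕ := w.foldr (fun k q => h60_mv (h60_cols k) q) p

theorem h60_prod_mulVec (w : List ℕ) (p : ℕ × ℕ) :
    ((w.map A).prod).mulVec (h60_unpack p) = h60_unpack (h60_run w p) := by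
  induction w with
  | nil => simp [h60_run]
  | cons k w ih =>
    rw [List.map_cons, List.prod_cons, ← Matrix.mulVec_mulVec, ih,
      h60_step (A k) (h60_cols k) (h60_cols_ok k)]
    rfl

theorem h60_unpack_basis (j : D.Idx) : h60_unpack (2 ^ ix j, 0) = Pi.single j 1 := by
  funext i
  simp only [h60_unpack, Nat.testBit_two_pow, Nat.zero_testBit]
  by_cases h : i = j
  · subst h; simp only [decide_true, Pi.single_eq_same]; rfl
  · have : ¬ ix j = ix i := fun e => h (h60_ix_inj e).symm
    simp only [this, decide_false, Pi.single_eq_of_ne h]; rfl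

theorem h60_entry (M : Matrix D.Idx D.Idx F) (i j : D.Idx) :
    M i j = (M.mulVec (h60_unpack (2 ^ ix j, 0))) i := by
  rw [h60_unpack_basis]; simp

/-- Boolean check: the word `w` in the six generators has the table `L` -/
def h60_chk (w : List ℕ) (L : List (List ℕ)) : Bool :=
  (List.range 14).all fun j =>
    (List.range 14).all fun i => h60_code (h60_run w (2 ^ j, 0)) i == (L.getD i []).getD j 0

/-- Boolean check: the word `w` in the six generators is trivial -/
def h60_chk1 (w : List ℕ) : Bool :=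
  (List.range 14).all fun j => h60_run w (2 ^ j, 0) == (2 ^ j, 0)

/-- a table is the product of a word, by a kernel-friendly check -/
theorem h60_word_eq (w : List ℕ) (L : List (List ℕ)) (h : h60_chk w L = true) :
    (Matrix.of fun i j => fc ((L.getD (ix i) []).getD (ix j) 0) : Matrix D.Idx D.Idx F) = (w.map A).prod := by
  ext i j
  rw [h60_entry ((w.map A).prod) i j, h60_prod_mulVec]
  simp only [h60_chk, List.all_eq_true, List.mem_range, beq_iff_eq] at h
  have := h (ix j) (h60_ix_lt j) (ix i) (h60_ix_lt i)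
  rw [Matrix.of_apply, ← this, h60_code, h60_fc_code]
  rfl

/-- a word is trivial, by a kernel-friendly check -/
theorem h60_word_one (w : List ℕ) (h : h60_chk1 w = true) : (w.map A).prod = 1 := by
  ext i j
  rw [h60_entry ((w.map A).prod) i j, h60_prod_mulVec]
  simp only [h60_chk1, List.all_eq_true, List.mem_range, beq_iff_eq] at h
  rw [h (ix j) (h60_ix_lt j), h60_unpack_basis]
  simp [Matrix.one_apply, Pi.single_apply]

end Cfsg.Agent.Helper60.G24
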