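import Mathlib
import Cfsg.Agent.Lib.Helper92.G24Defs
import Cfsg.Agent.Lib.Helper60.G24Pack

/-!
# G24 (XW): every root element table is the product of its word in the six matrices
(packed kernel check, see `G24Pack`).
-/

set_option autoImplicit false

namespace Cfsg.Agent.Helper60.G24

open Cfsg.Agent.Helper92.G24

theorem h60_xw_chk : ∀ r < 12, ∀ t < 4, 1 ≤ t →
    h60_chk (wd r t) (xmL.getD (3 * r + (t - 1)) []) = true := by
  decide +kernel

/-- (XW) every root element table is the product of its word in the six matrices. -/
theorem table_word : ∀ r < 12, ∀ t, 1 ≤ t → t ≤ 3 → XT r t = ((wd r t).map A).prod := by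
  intro r hr t h1 h3
  exact h60_word_eq (wd r t) (xmL.getD (3 * r + (t - 1)) []) (h60_xw_chk r hr t (by omega) h1)

end Cfsg.Agent.Helper60.G24
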