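import Mathlib

set_option autoImplicit false

namespace Cfsg.Agent.Helper60

/-- Abstract transfer of the prime graph along a split extension with elementary abelian
2-kernel on which elements with nontrivial fixed points are 2-elements. -/
theorem primeGraph_transfer2 {S H : Type*} [Group S] [Group H] [Finite S] [Finite H]
    (ι : S →* H) (π : H →* S) (hι : Function.Injective ι)
    (h1 : ∀ u : H, π u = 1 → u ^ 2 = 1)
    (h2 : ∀ h u : H, π u = 1 → u ≠ 1 → h * u = u * h → ∃ j : ℕ, (π h) ^ (2 ^ j) = 1)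
    (h3 : 2 ∣ Nat.card S) :
    (∀ p : ℕ, p.Prime → (p ∣ Nat.card S ↔ p ∣ Nat.card H)) ∧
    (∀ p q : ℕ, p.Prime → q.Prime → p ≠ q →
      ((∃ g : S, orderOf g = p * q) ↔ (∃ g : H, orderOf g = p * q))) := by
  have hcardSH : Nat.card S ∣ Nat.card H := Subgroup.card_dvd_of_injective ι hι
  have key2 : ∀ q : ℕ, q.Prime → q ≠ 2 → (∃ g : H, orderOf g = 2 * q) →
      ∃ g : S, orderOf g = 2 * q := by
    rintro q hq hq2 ⟨h, hh⟩
    set m := orderOf (π h) with hm
    have hmdvd : m ∣ 2 * q := hh ▸ orderOf_map_dvd π h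
    have hker : π (h ^ m) = 1 := by rw [map_pow, hm, pow_orderOf_eq_one]
    have h2m : (h ^ m) ^ 2 = 1 := h1 _ hker
    rw [← pow_mul] at h2m
    have hdvd2 : 2 * q ∣ m * 2 := hh ▸ orderOf_dvd_of_pow_eq_one h2m
    have hqm : q ∣ m := by
      have : q ∣ m * 2 := dvd_trans (dvd_mul_left q 2) hdvd2
      rcases (Nat.Prime.dvd_mul hq).mp this with h | h
      · exact h
      · exact absurd ((Nat.prime_dvd_prime_iff_eq hq Nat.prime_two).mp h) hq2
    by_cases hm2q : m = 2 * q
    · exact ⟨π h, hm2q⟩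
    · exfalso
      obtain ⟨d, hd⟩ := hqm
      have hq0 : 0 < q := hq.pos
      have hd2 : d ∣ 2 := by
        rw [hd, mul_comm 2 q] at hmdvd
        exact Nat.dvd_of_mul_dvd_mul_left hq0 hmdvd
      have hd1 : d = 1 := by
        rcases (Nat.dvd_prime Nat.prime_two).mp hd2 with h | h
        · exact h
        · exfalso; apply hm2q; rw [hd, h, mul_comm]
      rw [hd1, mul_one] at hd
      have hu : π (h ^ q) = 1 := by rw [← hd]; exact hker
      have hune : h ^ q ≠ 1 := by
        apply pow_ne_one_of_lt_orderOf hq.ne_zero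
        rw [hh]; omega
      have hcomm : h * h ^ q = h ^ q * h := by rw [← pow_succ', ← pow_succ]
      obtain ⟨j, hs2⟩ := h2 h (h ^ q) hu hune hcomm
      have : m ∣ 2 ^ j := orderOf_dvd_of_pow_eq_one hs2
      rw [hd] at this
      exact hq2 ((Nat.prime_dvd_prime_iff_eq hq Nat.prime_two).mp (hq.dvd_of_dvd_pow this))
  constructor
  · intro p hp
    constructor
    · intro h; exact dvd_trans h hcardSH
    · intro h
      by_cases hp2 : p = 2
      · rw [hp2]; exact h3
      · have := Fact.mk hp
        obtain ⟨g, hg⟩ := exists_prime_orderOf_dvd_card' p h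
        have hdvd : orderOf (π g) ∣ p := hg ▸ orderOf_map_dvd π g
        rcases (Nat.dvd_prime hp).mp hdvd with h1' | hp'
        · exfalso
          have : π g = 1 := orderOf_eq_one_iff.mp h1'
          have hg2 : g ^ 2 = 1 := h1 g this
          have : p ∣ 2 := hg ▸ orderOf_dvd_of_pow_eq_one hg2
          exact hp2 ((Nat.prime_dvd_prime_iff_eq hp Nat.prime_two).mp this)
        · rw [← hp']; exact orderOf_dvd_natCard _
  · intro p q hp hq hpq
    constructor
    · rintro ⟨g, hg⟩
      exact ⟨ι g, by rw [orderOf_injective ι hι, hg]⟩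
    · intro hex
      by_cases hp2 : p = 2
      · subst hp2
        exact key2 q hq (Ne.symm hpq) hex
      by_cases hq2 : q = 2
      · subst hq2
        obtain ⟨g, hg⟩ := hex
        obtain ⟨g', hg'⟩ := key2 p hp hpq ⟨g, by rw [hg, mul_comm]⟩
        exact ⟨g', by rw [hg', mul_comm]⟩
      · obtain ⟨h, hh⟩ := hex
        refine ⟨π h, ?_⟩
        set m := orderOf (π h) with hm
        have hmdvd : m ∣ p * q := hh ▸ orderOf_map_dvd π h
        have hker : π (h ^ m) = 1 := by rw [map_pow, hm, pow_orderOf_eq_one]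
        have h2m : (h ^ m) ^ 2 = 1 := h1 _ hker
        rw [← pow_mul] at h2m
        have hdvd2 : p * q ∣ m * 2 := hh ▸ orderOf_dvd_of_pow_eq_one h2m
        have hcop : Nat.Coprime (p * q) 2 := by
          apply Nat.Coprime.mul_left
          · exact (Nat.coprime_primes hp Nat.prime_two).mpr hp2
          · exact (Nat.coprime_primes hq Nat.prime_two).mpr hq2
        exact Nat.dvd_antisymm hmdvd (hcop.dvd_of_dvd_mul_right hdvd2)

theorem exists_small_model' (H₀ : Type*) [Group H₀] [Finite H₀] :
    ∃ (H : Type) (_ : Group H) (_ : Fintype H), Nonempty (H ≃* H₀) := by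
  let f : H₀ ≃ Fin (Nat.card H₀) := Finite.equivFin H₀
  let _ : Group (Fin (Nat.card H₀)) := f.symm.group
  exact ⟨Fin (Nat.card H₀), f.symm.group, inferInstance, ⟨f.symm.mulEquiv⟩⟩

open Matrix

/-- The split extension `(Fᵈ)ᵏ ⋊ S` for a matrix group `S ≤ GL(d,F)`, as pairs. -/
structure GExt {F : Type*} [Field F] {d : ℕ} (S : Subgroup (GL (Fin d) F)) (k : ℕ) where
  s : S
  v : Matrix (Fin d) (Fin k) F

namespace GExt

variable {F : Type*} [Field F] {d : ℕ} {S : Subgroup (GL (Fin d) F)} {k : ℕ}

/-- the underlying matrix -/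
def mat (a : S) : Matrix (Fin d) (Fin d) F := ((a : GL (Fin d) F) : Matrix (Fin d) (Fin d) F)

theorem mat_mul (a b : S) : mat (a * b) = mat a * mat b := by
  simp [mat]

theorem mat_one : mat (1 : S) = 1 := by simp [mat]

theorem mat_inv_mul (a : S) : mat a⁻¹ * mat a = 1 := by
  rw [← mat_mul, inv_mul_cancel, mat_one]

@[ext] theorem ext' {a b : GExt S k} (h1 : a.s = b.s) (h2 : a.v = b.v) : a = b := by
  cases a; cases b; simp_all

instance : Mul (GExt S k) := ⟨fun a b => ⟨a.s * b.s, a.v + mat a.s * b.v⟩⟩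
instance : One (GExt S k) := ⟨⟨1, 0⟩⟩
instance : Inv (GExt S k) := ⟨fun a => ⟨a.s⁻¹, -(mat a.s⁻¹ * a.v)⟩⟩

@[simp] theorem mul_s (a b : GExt S k) : (a * b).s = a.s * b.s := rfl
@[simp] theorem mul_v (a b : GExt S k) : (a * b).v = a.v + mat a.s * b.v := rfl
@[simp] theorem one_s : (1 : GExt S k).s = 1 := rfl
@[simp] theorem one_v : (1 : GExt S k).v = 0 := rfl
@[simp] theorem inv_s (a : GExt S k) : (a⁻¹).s = a.s⁻¹ := rfl
@[simp] theorem inv_v (a : GExt S k) : (a⁻¹).v = -(mat a.s⁻¹ * a.v) := rfl

instance : Group (GExt S k) where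
  mul_assoc a b c := by
    ext1
    · simp [mul_assoc]
    · simp [Matrix.mul_add, Matrix.mul_assoc, add_assoc, mat_mul]
  one_mul a := by
    ext1 <;> simp [mat_one]
  mul_one a := by
    ext1 <;> simp
  inv_mul_cancel a := by
    ext1
    · simp
    · simp only [mul_v, inv_v, inv_s, one_v]
      exact neg_add_cancel _

/-- the projection -/
def proj (S : Subgroup (GL (Fin d) F)) (k : ℕ) : GExt S k →* S where
  toFun a := a.s
  map_one' := rfl
  map_mul' _ _ := rfl

/-- the section -/
def sect (S : Subgroup (GL (Fin d) F)) (k : ℕ) : S →* GExt S k where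
  toFun s := ⟨s, 0⟩
  map_one' := rfl
  map_mul' a b := by ext1 <;> simp

theorem sect_injective : Function.Injective (sect S k) := by
  intro a b h
  exact congrArg GExt.s h

/-- as a type, `GExt S k` is a product -/
def equivProd (S : Subgroup (GL (Fin d) F)) (k : ℕ) :
    GExt S k ≃ S × Matrix (Fin d) (Fin k) F where
  toFun a := (a.s, a.v)
  invFun b := ⟨b.1, b.2⟩
  left_inv _ := rfl
  right_inv _ := rfl

instance [Finite F] : Finite (GExt S k) := Finite.of_equiv _ (equivProd S k).symm

theorem ker_sq [CharP F 2] (u : GExt S k) (hu : proj S k u = 1) : u ^ 2 = 1 := by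
  have hs : u.s = 1 := hu
  rw [pow_two]
  ext1
  · simp [hs]
  · simp only [mul_v, hs, mat_one, Matrix.one_mul, one_v]
    ext i j
    simp only [Matrix.add_apply, Matrix.zero_apply]
    exact CharTwo.add_self_eq_zero _

/-- an element commuting with a nontrivial kernel element fixes a nonzero vector -/
theorem exists_fixed (h u : GExt S k) (hu : proj S k u = 1) (hne : u ≠ 1)
    (hcomm : h * u = u * h) : ∃ x : Fin d → F, x ≠ 0 ∧ mat h.s *ᵥ x = x := by
  have hs : u.s = 1 := hu
  have hv : u.v ≠ 0 := by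
    intro hv
    apply hne
    ext1
    · exact hs
    · exact hv
  have hfix : mat h.s * u.v = u.v := by
    have := congrArg GExt.v hcomm
    simp only [mul_v, hs, mat_one, Matrix.one_mul] at this
    have h2 : h.v + mat h.s * u.v = h.v + u.v := by
      rw [this, add_comm]
    exact add_left_cancel h2
  obtain ⟨j, hj⟩ : ∃ j, (fun i => u.v i j) ≠ 0 := by
    by_contra hcon
    push Not at hcon
    apply hv
    ext i j
    exact congrFun (hcon j) i
  refine ⟨fun i => u.v i j, hj, ?_⟩
  ext i
  have := congrFun (congrFun hfix i) j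
  simpa [Matrix.mul_apply, Matrix.mulVec, dotProduct] using this

theorem card_gt [Fintype F] (S : Subgroup (GL (Fin d) F)) (hd : 0 < d) (N : ℕ) :
    N < Nat.card (GExt S N) := by
  rw [Nat.card_congr (equivProd S N), Nat.card_prod]
  have h1 : 0 < Nat.card S := Nat.card_pos
  have h2 : Nat.card (Matrix (Fin d) (Fin N) F) = Fintype.card F ^ (d * N) := by
    change Nat.card (Fin d → Fin N → F) = _
    rw [Nat.card_fun, Nat.card_fun, Nat.card_eq_fintype_card, Nat.card_eq_fintype_card,
      Nat.card_eq_fintype_card, Fintype.card_fin, Fintype.card_fin, ← pow_mul, mul_comm]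
  have hF : 2 ≤ Fintype.card F := Fintype.one_lt_card
  have h3 : N < Fintype.card F ^ (d * N) := by
    calc N < 2 ^ N := Nat.lt_two_pow_self
      _ ≤ 2 ^ (d * N) := Nat.pow_le_pow_right (by norm_num) (Nat.le_mul_of_pos_left N hd)
      _ ≤ Fintype.card F ^ (d * N) := Nat.pow_le_pow_left hF _
  rw [h2]
  nlinarith

end GExt

end Cfsg.Agent.Helper60
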