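import Mathlib
import Cfsg.Agent.S0143
import Cfsg.Agent.Lib.Helper1.Hall
import Cfsg.Agent.Lib.Helper70.Fitting

set_option autoImplicit false
set_option linter.style.haveILetI false
set_option linter.unusedVariables false

namespace Cfsg.Agent.Helper60

universe u

open Pointwise

/-- `H` has an abelian `p`-complement. -/
def AbC (p : ℕ) (H : Type*) [Group H] : Prop :=
  ∃ C : Subgroup H, (∀ a ∈ C, ∀ b ∈ C, a * b = b * a) ∧ (Nat.card C).Coprime p ∧
    ∃ k : ℕ, C.index = p ^ k

/-- Every `p`-regular element of `H` has a centralizer of `p`-power index. -/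
def PC (p : ℕ) (H : Type*) [Group H] : Prop :=
  ∀ x : H, (orderOf x).Coprime p →
    ∃ k : ℕ, (Subgroup.centralizer ({x} : Set H)).index = p ^ k

theorem classSize_eq_index {G : Type*} [Group G] (g : G) :
    (ConjClasses.mk g).carrier.ncard = (Subgroup.centralizer ({g} : Set G)).index := by
  have h0 : (Subgroup.centralizer ({g} : Set G)).index =
      (MulAction.stabilizer (ConjAct G) g).index := by
    rw [Subgroup.centralizer_eq_comap_stabilizer]
    exact Subgroup.index_comap_of_surjective (MulAction.stabilizer (ConjAct G) g)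
      (f := (ConjAct.toConjAct (G := G)).toMonoidHom) (ConjAct.toConjAct (G := G)).surjective
  rw [h0, MulAction.index_stabilizer, ConjAct.orbit_eq_carrier_conjClasses]

theorem index_conj_smul' {G : Type*} [Group G] (g : G) (C : Subgroup G) :
    (MulAut.conj g • C).index = C.index :=
  Subgroup.index_map_of_bijective (MulAction.bijective (MulAut.conj g)) C

theorem AbC.normal {H : Type*} [Group H] [Finite H] {p : ℕ} (hp : p.Prime) (h : AbC p H)
    (N : Subgroup H) [N.Normal] : AbC p ↥N := by
  obtain ⟨C, hC, hcop, k, hk⟩ := h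
  refine ⟨C.subgroupOf N, ?_, ?_, ?_⟩
  · intro a ha b hb
    exact Subtype.ext (hC a ha b hb)
  · have h1 : Nat.card (C.subgroupOf N) ∣ Nat.card C := by
      rw [← Subgroup.card_map_of_injective N.subtype_injective, Subgroup.subgroupOf_map_subtype]
      exact Subgroup.card_dvd_of_le inf_le_left
    exact Nat.Coprime.coprime_dvd_left h1 hcop
  · have h1 : (C.subgroupOf N).index ∣ C.index :=
      Helper70.relIndex_dvd_index_of_normal_right C N
    rw [hk] at h1
    obtain ⟨j, -, hj⟩ := (Nat.dvd_prime_pow hp).mp h1
    exact ⟨j, hj⟩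

theorem AbC.quotient {H : Type*} [Group H] [Finite H] {p : ℕ} (hp : p.Prime) (h : AbC p H)
    (N : Subgroup H) [N.Normal] : AbC p (H ⧸ N) := by
  obtain ⟨C, hC, hcop, k, hk⟩ := h
  refine ⟨C.map (QuotientGroup.mk' N), ?_, ?_, ?_⟩
  · rintro _ ⟨a, ha, rfl⟩ _ ⟨b, hb, rfl⟩
    rw [← map_mul, ← map_mul, hC a ha b hb]
  · exact Nat.Coprime.coprime_dvd_left (Subgroup.card_map_dvd _ _) hcop
  · have h1 : (C.map (QuotientGroup.mk' N)).index ∣ C.index :=
      Subgroup.index_map_dvd C (QuotientGroup.mk'_surjective N)
    rw [hk] at h1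
    obtain ⟨j, -, hj⟩ := (Nat.dvd_prime_pow hp).mp h1
    exact ⟨j, hj⟩

theorem isSolvable_of_card_prime_pow' {H : Type*} [Group H] [Finite H] {p k : ℕ} (hp : p.Prime)
    (h : Nat.card H = p ^ k) : Group.IsSolvable H := by
  haveI := Fact.mk hp
  haveI : Group.IsNilpotent H := (IsPGroup.of_card h).isNilpotent
  exact IsNilpotent.to_isSolvable

/-- Skeleton of the Burnside-type induction: a property inherited by normal subgroups and
quotients, and forcing simple groups to be solvable, forces solvability. -/
theorem isSolvable_of_inherited (P : ∀ (H : Type u) [Group H], Prop)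
    (hN : ∀ (H : Type u) [Group H] [Finite H], P H → ∀ (N : Subgroup H) [N.Normal], P ↥N)
    (hQ : ∀ (H : Type u) [Group H] [Finite H], P H → ∀ (N : Subgroup H) [N.Normal], P (H ⧸ N))
    (hS : ∀ (H : Type u) [Group H] [Finite H] [IsSimpleGroup H], P H → Group.IsSolvable H) :
    ∀ n : ℕ, ∀ (H : Type u) [Group H] [Finite H], Nat.card H = n → P H → Group.IsSolvable H := by
  intro n
  induction n using Nat.strong_induction_on with
  | _ n ih =>
    intro H _ _ hn hH
    by_cases hsub : Subsingleton H
    · exact Group.isSolvable_of_comm (fun a b => Subsingleton.elim _ _)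
    rw [not_subsingleton_iff_nontrivial] at hsub
    by_cases hsimple : IsSimpleGroup H
    · exact hS H hH
    · have hex : ∃ N : Subgroup H, N.Normal ∧ N ≠ ⊥ ∧ N ≠ ⊤ := by
        by_contra hcon
        push Not at hcon
        apply hsimple
        refine { toNontrivial := hsub, eq_bot_or_eq_top_of_normal := fun N hN => ?_ }
        by_cases hN0 : N = ⊥
        · exact Or.inl hN0
        · exact Or.inr (hcon N hN hN0)
      obtain ⟨N, hNn, hN0, hN1⟩ := hex
      haveI := hNn
      have hcardN : Nat.card N < n := by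
        rw [← hn]
        have hle := Subgroup.card_le_card_group N
        rcases hle.lt_or_eq with h | h
        · exact h
        · exact absurd (Subgroup.card_eq_iff_eq_top N |>.mp h) hN1
      have hcardQ : Nat.card (H ⧸ N) < n := by
        rw [← hn, ← Subgroup.card_mul_index N, ← Subgroup.index_eq_card]
        have h1 : 1 < Nat.card N := by
          rw [Subgroup.one_lt_card_iff_ne_bot]; exact hN0
        have h2 : 0 < N.index := Nat.pos_of_ne_zero Subgroup.index_ne_zero_of_finite
        nlinarith
      haveI s1 : Group.IsSolvable ↥N := ih _ hcardN ↥N rfl (hN H hH N)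
      haveI s2 : Group.IsSolvable (H ⧸ N) := ih _ hcardQ (H ⧸ N) rfl (hQ H hH N)
      exact Group.isSolvable_of_ker_le_range N.subtype (QuotientGroup.mk' N)
        (by rw [QuotientGroup.ker_mk', Subgroup.range_subtype])

theorem AbC.isSolvable {H : Type u} [Group H] [Finite H] {p : ℕ} (hp : p.Prime) (h : AbC p H) :
    Group.IsSolvable H := by
  refine isSolvable_of_inherited (fun H _ => AbC p H) (fun H _ _ hH N _ => hH.normal hp N)
    (fun H _ _ hH N _ => hH.quotient hp N) ?_ _ H rfl h
  intro H _ _ _ hH
  obtain ⟨C, hC, hcop, k, hk⟩ := hH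
  by_cases hC1 : C = ⊥
  · rw [hC1, Subgroup.index_bot] at hk
    exact isSolvable_of_card_prime_pow' hp hk
  · obtain ⟨x, hx1⟩ := (Subgroup.ne_bot_iff_exists_ne_one).mp hC1
    have hxC' : (x : H) ∈ C := x.2
    have hle : C ≤ Subgroup.centralizer ({(x : H)} : Set H) := by
      intro c hc
      rw [Subgroup.mem_centralizer_iff]
      intro y hy
      rw [Set.mem_singleton_iff] at hy
      subst hy
      exact hC _ hxC' c hc
    have h1 : (Subgroup.centralizer ({(x : H)} : Set H)).index ∣ C.index :=
      Subgroup.index_dvd_of_le hle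
    rw [hk] at h1
    obtain ⟨j, -, hj⟩ := (Nat.dvd_prime_pow hp).mp h1
    have hprime : (Nat.card H).Prime :=
      Cfsg.Agent.S0143.result p j hp (x : H) (by
        intro h; exact hx1 (Subtype.ext h)) hj
    exact isSolvable_of_card_prime_pow' (k := 1) hprime (pow_one _).symm

end Cfsg.Agent.Helper60
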