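import Mathlib
import Cfsg.Agent.Lib.Helper60.PRegA

set_option autoImplicit false
set_option linter.style.haveILetI false
set_option linter.unusedVariables false

namespace Cfsg.Agent.Helper60

universe u

open Pointwise

theorem AbC.exists_conj_le {H : Type u} [Group H] [Finite H] {p : ℕ} (hp : p.Prime)
    (C : Subgroup H) (hC : ∀ a ∈ C, ∀ b ∈ C, a * b = b * a) (hcop : (Nat.card C).Coprime p)
    (k : ℕ) (hk : C.index = p ^ k) (K : Subgroup H) (hK : (Nat.card K).Coprime p) :
    ∃ g : H, K ≤ MulAut.conj g • C := by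
  haveI : Group.IsSolvable H := AbC.isSolvable hp ⟨C, hC, hcop, k, hk⟩
  have hcard : Nat.card H = Nat.card C * p ^ k := by rw [← hk, Subgroup.card_mul_index]
  obtain ⟨H0, hH0, hdom⟩ :=
    Cfsg.Agent.Helper1.hall_exists_dominant (G := H) (Nat.card C) (p ^ k) hcard
      (Nat.Coprime.pow_right k hcop)
  obtain ⟨g, hg⟩ := hdom C (Nat.Coprime.pow_right k hcop)
  have hCeq : C = MulAut.conj g • H0 := by
    refine Subgroup.eq_of_le_of_card_ge hg ?_
    rw [Cfsg.Agent.Helper1.card_conj_smul, hH0]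
  obtain ⟨g', hg'⟩ := hdom K (Nat.Coprime.pow_right k hK)
  refine ⟨g' * g⁻¹, ?_⟩
  rw [hCeq, Cfsg.Agent.Helper1.conj_smul_conj_smul]
  simpa [mul_assoc] using hg'

theorem comm_of_mem_conj_smul {H : Type*} [Group H] (C : Subgroup H)
    (hC : ∀ a ∈ C, ∀ b ∈ C, a * b = b * a) (g : H) :
    ∀ a ∈ MulAut.conj g • C, ∀ b ∈ MulAut.conj g • C, a * b = b * a := by
  intro a ha b hb
  rw [Subgroup.mem_pointwise_smul_iff_inv_smul_mem] at ha hb
  have := hC _ ha _ hb
  rw [← smul_mul', ← smul_mul'] at this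
  exact (MulAction.injective (MulAut.conj g)⁻¹) this

theorem AbC.comm_of_coprime {H : Type u} [Group H] [Finite H] {p : ℕ} (hp : p.Prime)
    (h : AbC p H) (K : Subgroup H) (hK : (Nat.card K).Coprime p) :
    ∀ a ∈ K, ∀ b ∈ K, a * b = b * a := by
  obtain ⟨C, hC, hcop, k, hk⟩ := h
  obtain ⟨g, hg⟩ := AbC.exists_conj_le hp C hC hcop k hk K hK
  intro a ha b hb
  exact comm_of_mem_conj_smul C hC g a (hg ha) b (hg hb)

theorem AbC.pc {H : Type u} [Group H] [Finite H] {p : ℕ} (hp : p.Prime) (h : AbC p H) :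
    PC p H := by
  obtain ⟨C, hC, hcop, k, hk⟩ := h
  intro x hx
  have hK : (Nat.card (Subgroup.zpowers x)).Coprime p := by rwa [Nat.card_zpowers]
  obtain ⟨g, hg⟩ := AbC.exists_conj_le hp C hC hcop k hk (Subgroup.zpowers x) hK
  have hx' : x ∈ MulAut.conj g • C := hg (Subgroup.mem_zpowers x)
  have hle : MulAut.conj g • C ≤ Subgroup.centralizer ({x} : Set H) := by
    intro c hc
    rw [Subgroup.mem_centralizer_iff]
    intro y hy
    rw [Set.mem_singleton_iff] at hy
    subst hy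
    exact comm_of_mem_conj_smul C hC g y hx' c hc
  have h1 := Subgroup.index_dvd_of_le hle
  rw [index_conj_smul', hk] at h1
  obtain ⟨j, -, hj⟩ := (Nat.dvd_prime_pow hp).mp h1
  exact ⟨j, hj⟩

theorem PC.normal {H : Type*} [Group H] [Finite H] {p : ℕ} (hp : p.Prime) (h : PC p H)
    (N : Subgroup H) [N.Normal] : PC p ↥N := by
  intro x hx
  have hx' : (orderOf (x : H)).Coprime p := by rwa [Subgroup.orderOf_coe]
  obtain ⟨k, hk⟩ := h (x : H) hx'
  have heq : Subgroup.centralizer ({x} : Set N) =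
      (Subgroup.centralizer ({(x : H)} : Set H)).subgroupOf N := by
    ext y
    rw [Subgroup.mem_subgroupOf, Subgroup.mem_centralizer_iff, Subgroup.mem_centralizer_iff]
    simp only [Set.mem_singleton_iff, forall_eq]
    constructor
    · intro h; exact congrArg Subtype.val h
    · intro h; exact Subtype.ext h
  rw [heq]
  have h1 := Helper70.relIndex_dvd_index_of_normal_right
    (Subgroup.centralizer ({(x : H)} : Set H)) N
  rw [hk] at h1
  obtain ⟨j, -, hj⟩ := (Nat.dvd_prime_pow hp).mp h1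
  exact ⟨j, hj⟩

theorem exists_lift_coprime {H : Type*} [Group H] [Finite H] {p : ℕ} (hp : p.Prime)
    (N : Subgroup H) [N.Normal] (y : H ⧸ N) (hy : (orderOf y).Coprime p) :
    ∃ x : H, (QuotientGroup.mk' N) x = y ∧ (orderOf x).Coprime p := by
  obtain ⟨x0, rfl⟩ := QuotientGroup.mk'_surjective N y
  obtain ⟨e, m, hm, hxm⟩ :=
    Nat.exists_eq_pow_mul_and_not_dvd (orderOf_pos x0).ne' p hp.ne_one
  have hcop : (p ^ e).Coprime (orderOf (QuotientGroup.mk' N x0)) :=
    (Nat.Coprime.pow_right e hy).symm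
  obtain ⟨s, hs⟩ := exists_pow_eq_self_of_coprime hcop
  refine ⟨(x0 ^ (p ^ e)) ^ s, ?_, ?_⟩
  · rw [map_pow, map_pow]; exact hs
  · have h1 : orderOf (x0 ^ (p ^ e)) = m := by
      rw [orderOf_pow_of_dvd (pow_ne_zero _ hp.ne_zero) (hxm ▸ Dvd.intro _ rfl), hxm]
      exact Nat.mul_div_cancel_left _ (pow_pos hp.pos _)
    have h2 : orderOf ((x0 ^ (p ^ e)) ^ s) ∣ m := h1 ▸ orderOf_pow_dvd s
    exact Nat.Coprime.coprime_dvd_left h2 ((Nat.Prime.coprime_iff_not_dvd hp).2 hm).symm

theorem PC.quotient {H : Type*} [Group H] [Finite H] {p : ℕ} (hp : p.Prime) (h : PC p H)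
    (N : Subgroup H) [N.Normal] : PC p (H ⧸ N) := by
  intro y hy
  obtain ⟨x, rfl, hx⟩ := exists_lift_coprime hp N y hy
  obtain ⟨k, hk⟩ := h x hx
  have hle : (Subgroup.centralizer ({x} : Set H)).map (QuotientGroup.mk' N) ≤
      Subgroup.centralizer ({QuotientGroup.mk' N x} : Set (H ⧸ N)) := by
    rintro _ ⟨c, hc, rfl⟩
    rw [SetLike.mem_coe, Subgroup.mem_centralizer_iff] at hc
    rw [Subgroup.mem_centralizer_iff]
    intro z hz
    rw [Set.mem_singleton_iff] at hz
    subst hz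
    rw [← map_mul, ← map_mul, hc x rfl]
  have h1 := (Subgroup.index_dvd_of_le hle).trans
    (Subgroup.index_map_dvd _ (QuotientGroup.mk'_surjective N))
  rw [hk] at h1
  obtain ⟨j, -, hj⟩ := (Nat.dvd_prime_pow hp).mp h1
  exact ⟨j, hj⟩

theorem PC.isSolvable {H : Type u} [Group H] [Finite H] {p : ℕ} (hp : p.Prime) (h : PC p H) :
    Group.IsSolvable H := by
  refine isSolvable_of_inherited (fun H _ => PC p H) (fun H _ _ hH N _ => hH.normal hp N)
    (fun H _ _ hH N _ => hH.quotient hp N) ?_ _ H rfl h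
  intro H _ _ _ hH
  by_cases hpow : ∀ d : ℕ, d.Prime → d ∣ Nat.card H → d = p
  · have : Nat.card H = p ^ (Nat.card H).primeFactorsList.length :=
      Nat.eq_prime_pow_of_unique_prime_dvd Nat.card_pos.ne' (fun {d} hd hdvd => hpow d hd hdvd)
    exact isSolvable_of_card_prime_pow' hp this
  · push Not at hpow
    obtain ⟨q, hq, hqd, hqp⟩ := hpow
    haveI := Fact.mk hq
    obtain ⟨x, hx⟩ := exists_prime_orderOf_dvd_card' q hqd
    have hx1 : x ≠ 1 := by
      rintro rfl
      rw [orderOf_one] at hx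
      exact hq.one_lt.ne hx
    obtain ⟨j, hj⟩ := hH x (by rw [hx]; exact (Nat.coprime_primes hq hp).mpr hqp)
    have hprime : (Nat.card H).Prime := Cfsg.Agent.S0143.result p j hp x hx1 hj
    exact isSolvable_of_card_prime_pow' (k := 1) hprime (pow_one _).symm

end Cfsg.Agent.Helper60
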