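import Mathlib
import Cfsg.Agent.Lib.Helper60.PRegB

set_option autoImplicit false
set_option linter.style.haveILetI false
set_option linter.unusedVariables false

namespace Cfsg.Agent.Helper60

universe u

open Pointwise

/-- Iterated commutator subgroups of a subgroup, computed inside the ambient group. -/
def relDer {G : Type*} [Group G] (C : Subgroup G) : ℕ → Subgroup G
  | 0 => C
  | n + 1 => ⁅relDer C n, relDer C n⁆

theorem relDer_normal {G : Type*} [Group G] (C : Subgroup G) [hC : C.Normal] (n : ℕ) :
    (relDer C n).Normal := by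
  induction n with
  | zero => exact hC
  | succ n ih =>
    haveI := ih
    exact Subgroup.commutator_normal _ _

theorem relDer_le_derivedSeries {G : Type*} [Group G] (C : Subgroup G) (n : ℕ) :
    relDer C n ≤ derivedSeries G n := by
  induction n with
  | zero => exact le_top
  | succ n ih => exact Subgroup.commutator_mono ih ih

theorem relDer_le {G : Type*} [Group G] (C : Subgroup G) [hC : C.Normal] (n : ℕ) :
    relDer C n ≤ C := by
  induction n with
  | zero => exact le_rfl
  | succ n ih =>
    haveI := relDer_normal C n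
    exact (Subgroup.commutator_le_right _ _).trans ih

/-- A nontrivial normal subgroup of a finite solvable group contains a nontrivial normal
subgroup (of the whole group) of prime exponent. -/
theorem exists_normal_pgroup_le {H : Type*} [Group H] [Finite H] [Group.IsSolvable H]
    (C : Subgroup H) [hCn : C.Normal] (hC0 : C ≠ ⊥) :
    ∃ (s : ℕ) (N : Subgroup H), s.Prime ∧ N.Normal ∧ N ≠ ⊥ ∧ N ≤ C ∧ IsPGroup s N := by
  classical
  have hsol0 : ∃ n, derivedSeries H n = ⊥ := Group.IsSolvable.solvable
  have hsol : ∃ n, relDer C n = ⊥ := by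
    obtain ⟨n, hn⟩ := hsol0
    exact ⟨n, le_bot_iff.mp (hn ▸ relDer_le_derivedSeries C n)⟩
  have hn : relDer C (Nat.find hsol) = ⊥ := Nat.find_spec hsol
  have hn0 : Nat.find hsol ≠ 0 := by
    intro h0
    rw [h0] at hn
    exact hC0 hn
  obtain ⟨m, hm⟩ : ∃ m, Nat.find hsol = m + 1 := ⟨Nat.find hsol - 1, by omega⟩
  have hA : relDer C m ≠ ⊥ := Nat.find_min hsol (by omega)
  have hAA : ⁅relDer C m, relDer C m⁆ = ⊥ := by
    have : relDer C (m + 1) = ⊥ := by rw [← hm]; exact hn
    exact this
  have hAle : relDer C m ≤ C := relDer_le C m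
  have hAn : (relDer C m).Normal := relDer_normal C m
  set A := relDer C m with hAdef
  have hcomm : ∀ a ∈ A, ∀ b ∈ A, a * b = b * a := by
    intro a ha b hb
    have := Subgroup.commutator_eq_bot_iff_le_centralizer.mp hAA ha
    rw [Subgroup.mem_centralizer_iff] at this
    exact (this b hb).symm
  have hcard : Nat.card A ≠ 1 := by
    intro h
    exact hA (Subgroup.card_eq_one.mp h)
  set s := (Nat.card A).minFac with hs
  have hsp : s.Prime := Nat.minFac_prime hcard
  have hsdvd : s ∣ Nat.card A := Nat.minFac_dvd _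
  let N : Subgroup H :=
    { carrier := {g | g ∈ A ∧ g ^ s = 1}
      mul_mem' := by
        rintro a b ⟨ha, ha'⟩ ⟨hb, hb'⟩
        refine ⟨A.mul_mem ha hb, ?_⟩
        have hc : Commute a b := hcomm a ha b hb
        rw [hc.mul_pow, ha', hb', one_mul]
      one_mem' := ⟨A.one_mem, one_pow _⟩
      inv_mem' := by
        rintro a ⟨ha, ha'⟩
        exact ⟨A.inv_mem ha, by rw [inv_pow, ha', inv_one]⟩ }
  refine ⟨s, N, hsp, ⟨?_⟩, ?_, ?_, ?_⟩
  · rintro a ⟨ha, ha'⟩ g
    refine ⟨hAn.conj_mem a ha g, ?_⟩
    rw [conj_pow, ha', mul_one, mul_inv_cancel]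
  · have := Fact.mk hsp
    obtain ⟨g, hg⟩ := exists_prime_orderOf_dvd_card' s hsdvd
    intro hbot
    have hgN : (g : H) ∈ N := ⟨g.2, by
      have : (g : H) ^ s = ((g ^ s : A) : H) := by simp
      rw [this, ← hg, pow_orderOf_eq_one]; rfl⟩
    rw [hbot, Subgroup.mem_bot] at hgN
    have : g = 1 := Subtype.ext hgN
    rw [this, orderOf_one] at hg
    exact hsp.one_lt.ne hg
  · intro g hg
    exact hAle hg.1
  · intro g
    refine ⟨1, ?_⟩
    rw [pow_one]
    exact Subtype.ext g.2.2

end Cfsg.Agent.Helper60
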