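import Mathlib
import Cfsg.Agent.Lib.Helper60.GKA
import Cfsg.Agent.Lib.Helper60.PRegC
import Cfsg.Agent.Lib.Helper60.Solvable
import Cfsg.Agent.Lib.Helper71.FpfPGroup

set_option autoImplicit false
set_option linter.style.haveILetI false
set_option linter.unusedVariables false

namespace Cfsg.Agent.Helper60

universe u

open Pointwise

theorem card_sup_dvd_of_normal {X : Type*} [Group X] [Finite X] (M T : Subgroup X) [T.Normal] :
    Nat.card (M ⊔ T : Subgroup X) ∣ Nat.card M * Nat.card T := by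
  have h1 : (⊥ : Subgroup X).relIndex T * T.relIndex (M ⊔ T) = (⊥ : Subgroup X).relIndex (M ⊔ T) :=
    Subgroup.relIndex_mul_relIndex _ _ _ bot_le le_sup_right
  rw [Subgroup.relIndex_bot_left, Subgroup.relIndex_bot_left, Subgroup.relIndex_sup_right] at h1
  rw [← h1, mul_comm]
  exact Nat.mul_dvd_mul_right (Subgroup.relIndex_dvd_card T M) _

/-- A normal `π`-subgroup containing every normal `π`-subgroup. -/
theorem exists_max_normal_pi {X : Type*} [Group X] [Finite X] (A : Set ℕ) :
    ∃ M : Subgroup X, M.Normal ∧ PiNum A (Nat.card M) ∧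
      ∀ T : Subgroup X, T.Normal → PiNum A (Nat.card T) → T ≤ M := by
  classical
  let S := {M : Subgroup X // M.Normal ∧ PiNum A (Nat.card M)}
  haveI : Nonempty S := ⟨⟨⊥, inferInstance, by rw [Subgroup.card_bot]; exact PiNum.one A⟩⟩
  obtain ⟨⟨M, hMn, hMp⟩, hMmax⟩ := Finite.exists_max (fun M : S => Nat.card (M : Subgroup X))
  refine ⟨M, hMn, hMp, fun T hTn hTp => ?_⟩
  haveI := hMn
  haveI := hTn
  have hsup : PiNum A (Nat.card (M ⊔ T : Subgroup X)) :=
    (hMp.mul hTp).of_dvd (card_sup_dvd_of_normal M T)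
  have hle := hMmax ⟨M ⊔ T, inferInstance, hsup⟩
  simp only at hle
  have heq : M = M ⊔ T := Subgroup.eq_of_le_of_card_ge le_sup_left hle
  rw [heq]; exact le_sup_right

/-- A nontrivial normal subgroup of a finite solvable group contains a nontrivial
elementary abelian normal subgroup of the whole group. -/
theorem exists_normal_elementary_le {H : Type*} [Group H] [Finite H] [Group.IsSolvable H]
    (C : Subgroup H) [hCn : C.Normal] (hC0 : C ≠ ⊥) :
    ∃ (s : ℕ) (N : Subgroup H), s.Prime ∧ N.Normal ∧ N ≠ ⊥ ∧ N ≤ C ∧ (∀ g ∈ N, g ^ s = 1) ∧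
      ∀ a ∈ N, ∀ b ∈ N, a * b = b * a := by
  classical
  have hsol0 : ∃ n, derivedSeries H n = ⊥ := Group.IsSolvable.solvable
  have hsol : ∃ n, relDer C n = ⊥ := by
    obtain ⟨n, hn⟩ := hsol0
    exact ⟨n, le_bot_iff.mp (hn ▸ relDer_le_derivedSeries C n)⟩
  have hn : relDer C (Nat.find hsol) = ⊥ := Nat.find_spec hsol
  have hn0 : Nat.find hsol ≠ 0 := by
    intro h0
    rw [h0] at hn
    exact hC0 hn
  obtain ⟨m, hm⟩ : ∃ m, Nat.find hsol = m + 1 := ⟨Nat.find hsol - 1, by omega⟩
  have hA : relDer C m ≠ ⊥ := Nat.find_min hsol (by omega)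
  have hAA : ⁅relDer C m, relDer C m⁆ = ⊥ := by
    have : relDer C (m + 1) = ⊥ := by rw [← hm]; exact hn
    exact this
  have hAle : relDer C m ≤ C := relDer_le C m
  have hAn : (relDer C m).Normal := relDer_normal C m
  set A := relDer C m with hAdef
  have hcomm : ∀ a ∈ A, ∀ b ∈ A, a * b = b * a := by
    intro a ha b hb
    have := Subgroup.commutator_eq_bot_iff_le_centralizer.mp hAA ha
    rw [Subgroup.mem_centralizer_iff] at this
    exact (this b hb).symm
  have hcard : Nat.card A ≠ 1 := by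
    intro h
    exact hA (Subgroup.card_eq_one.mp h)
  set s := (Nat.card A).minFac with hs
  have hsp : s.Prime := Nat.minFac_prime hcard
  have hsdvd : s ∣ Nat.card A := Nat.minFac_dvd _
  let N : Subgroup H :=
    { carrier := {g | g ∈ A ∧ g ^ s = 1}
      mul_mem' := by
        rintro a b ⟨ha, ha'⟩ ⟨hb, hb'⟩
        refine ⟨A.mul_mem ha hb, ?_⟩
        have hc : Commute a b := hcomm a ha b hb
        rw [hc.mul_pow, ha', hb', one_mul]
      one_mem' := ⟨A.one_mem, one_pow _⟩
      inv_mem' := by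
        rintro a ⟨ha, ha'⟩
        exact ⟨A.inv_mem ha, by rw [inv_pow, ha', inv_one]⟩ }
  refine ⟨s, N, hsp, ⟨?_⟩, ?_, ?_, ?_, ?_⟩
  · rintro a ⟨ha, ha'⟩ g
    refine ⟨hAn.conj_mem a ha g, ?_⟩
    rw [conj_pow, ha', mul_one, mul_inv_cancel]
  · have := Fact.mk hsp
    obtain ⟨g, hg⟩ := exists_prime_orderOf_dvd_card' s hsdvd
    intro hbot
    have hgN : (g : H) ∈ N := ⟨g.2, by
      have : (g : H) ^ s = ((g ^ s : A) : H) := by simp
      rw [this, ← hg, pow_orderOf_eq_one]; rfl⟩
    rw [hbot, Subgroup.mem_bot] at hgN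
    have : g = 1 := Subtype.ext hgN
    rw [this, orderOf_one] at hg
    exact hsp.one_lt.ne hg
  · intro g hg
    exact hAle hg.1
  · intro g hg
    exact hg.2
  · intro a ha b hb
    exact hcomm a ha.1 b hb.1

end Cfsg.Agent.Helper60
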