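import Mathlib
import Cfsg.Agent.Lib.Helper60.GKB
import Cfsg.Agent.Lib.Helper1.Hall

set_option autoImplicit false
set_option linter.style.haveILetI false
set_option linter.unusedVariables false

namespace Cfsg.Agent.Helper60

universe u

open Pointwise

/-- An elementary abelian `s`-subgroup of `G ⧸ N₁` (with `s ∉ A`, `N₁` a nontrivial normal
`A`-subgroup, no `A`–`Aᶜ` edges) is cyclic. -/
theorem exists_generator_of_fpf {G : Type*} [Group G] [Finite G] (A : Set ℕ) (hne : NoEdge A G)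
    (N1 : Subgroup G) [N1.Normal] (hN1A : PiNum A (Nat.card N1)) (hN1 : N1 ≠ ⊥)
    (s : ℕ) (hs : s.Prime) (hsA : s ∉ A)
    (Nb : Subgroup (G ⧸ N1)) (hNb0 : Nb ≠ ⊥) (hexp : ∀ g ∈ Nb, g ^ s = 1)
    (hcomm : ∀ a ∈ Nb, ∀ b ∈ Nb, a * b = b * a) :
    ∃ z ∈ Nb, z ≠ 1 ∧ ∀ y ∈ Nb, y ∈ Subgroup.zpowers z := by
  classical
  haveI := Fact.mk hs
  have hNbp : IsPGroup s Nb := fun g => ⟨1, by rw [pow_one]; exact Subtype.ext (hexp g g.2)⟩
  obtain ⟨a, ha⟩ := IsPGroup.iff_card.mp hNbp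
  set P := Nb.comap (QuotientGroup.mk' N1) with hP
  have hPcard : Nat.card P = Nat.card N1 * s ^ a := by
    rw [hP, Cfsg.Agent.Helper1.card_comap_mk', ha]
  have hsN1 : ¬ s ∣ Nat.card N1 := fun hd => hsA (hN1A s hs hd)
  have hcop : (Nat.card N1).Coprime s := ((Nat.Prime.coprime_iff_not_dvd hs).mpr hsN1).symm
  let F : Sylow s ↥P := default
  have hFcard : Nat.card (F : Subgroup ↥P) = s ^ a := by
    rw [Sylow.card_eq_multiplicity, hPcard, Nat.factorization_mul Nat.card_pos.ne'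
      (pow_ne_zero _ hs.ne_zero), Nat.Prime.factorization_pow hs]
    simp only [Finsupp.coe_add, Pi.add_apply, Finsupp.single_eq_same]
    rw [Nat.factorization_eq_zero_of_not_dvd hsN1, zero_add]
  set F0 := (F : Subgroup ↥P).map P.subtype with hF0
  have hF0card : Nat.card F0 = s ^ a := by
    rw [hF0, Subgroup.card_map_of_injective P.subtype_injective, hFcard]
  have hF0P : F0 ≤ P := by rw [hF0]; exact Subgroup.map_subtype_le _
  have hdisj : ∀ x, x ∈ N1 → x ∈ F0 → x = 1 := by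
    intro x h1 h2
    have : N1 ⊓ F0 = ⊥ :=
      (Subgroup.disjoint_of_coprime_natCard (by rw [hF0card]; exact hcop.pow_right a)).eq_bot
    have hx : x ∈ N1 ⊓ F0 := ⟨h1, h2⟩
    rw [this] at hx; exact Subgroup.mem_bot.mp hx
  have himg : F0.map (QuotientGroup.mk' N1) = Nb := by
    apply Subgroup.eq_of_le_of_card_ge
    · rintro _ ⟨x, hx, rfl⟩; exact hF0P hx
    · rw [ha, ← hF0card]
      have hinj : Function.Injective ((QuotientGroup.mk' N1).comp F0.subtype) := by
        rw [injective_iff_map_eq_one]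
        intro x hx
        have : (x : G) ∈ N1 := (QuotientGroup.eq_one_iff _).mp hx
        exact Subtype.ext (hdisj _ this x.2)
      have hr : ((QuotientGroup.mk' N1).comp F0.subtype).range = F0.map (QuotientGroup.mk' N1) := by
        rw [MonoidHom.range_comp, Subgroup.range_subtype]
      rw [← hr]
      exact (Nat.card_congr (MonoidHom.ofInjective hinj).toEquiv).le
  -- F0 is elementary abelian
  have hF0comm : ∀ x ∈ F0, ∀ y ∈ F0, x * y = y * x := by
    intro x hx y hy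
    have h1 := hcomm _ (hF0P hx) _ (hF0P hy)
    rw [← map_mul, ← map_mul] at h1
    have h2 : (y * x)⁻¹ * (x * y) ∈ N1 := QuotientGroup.eq.mp h1.symm
    have h3 := hdisj _ h2 (F0.mul_mem (F0.inv_mem (F0.mul_mem hy hx)) (F0.mul_mem hx hy))
    exact (inv_mul_eq_one.mp h3).symm
  have hF0exp : ∀ x ∈ F0, x ^ s = 1 := by
    intro x hx
    have h1 := hexp _ (hF0P hx)
    rw [← map_pow] at h1
    exact hdisj _ ((QuotientGroup.eq_one_iff _).mp h1) (F0.pow_mem hx s)
  -- the action on N1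
  let ρ : ↥F0 →* MulAut ↥N1 := (MulAut.conjNormal (H := N1)).comp F0.subtype
  have hρ : ∀ (g : F0) (x : N1), ((ρ g x : N1) : G) = (g : G) * x * (g : G)⁻¹ :=
    fun g x => MulAut.conjNormal_apply _ _
  haveI : Nontrivial ↥N1 := (Subgroup.nontrivial_iff_ne_bot N1).mpr hN1
  have hPF0 : IsPGroup s ↥F0 := IsPGroup.of_card hF0card
  have hfpf : ∀ g : F0, g ≠ 1 → ∀ x : N1, ρ g x = x → x = 1 := by
    intro g hg x hx
    by_contra hx1
    have h1 : (g : G) * x * (g : G)⁻¹ = x := by rw [← hρ, hx]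
    have hc : Commute (x : G) (g : G) := by
      have : (g : G) * x = x * g := by
        calc (g : G) * x = ((g : G) * x * (g : G)⁻¹) * g := by group
          _ = x * g := by rw [h1]
      exact this.symm
    refine hne.not_commute (x := (x : G)) (y := (g : G)) (fun h => hx1 (Subtype.ext h))
      (fun h => hg (Subtype.ext h)) ?_ ?_ hc
    · exact hN1A.of_dvd (Subgroup.orderOf_dvd_natCard N1 x.2)
    · have : PiNum Aᶜ (Nat.card F0) := by rw [hF0card]; exact PiNum.prime_pow hs hsA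
      exact this.of_dvd (Subgroup.orderOf_dvd_natCard F0 g.2)
  have hF0ne : F0 ≠ ⊥ := by
    intro h
    have h1 : Nat.card F0 = 1 := by rw [h, Subgroup.card_bot]
    rw [hF0card, ← ha] at h1
    exact hNb0 (Subgroup.card_eq_one.mp h1)
  obtain ⟨z, hz1⟩ := (Subgroup.ne_bot_iff_exists_ne_one).mp hF0ne
  have hgen : ∀ y : F0, y ∈ Subgroup.zpowers z := by
    intro y
    refine Cfsg.Agent.Helper71.mem_zpowers_of_fpf s hPF0 hcop ρ hfpf y z ?_ ?_ ?_ hz1
    · exact Subtype.ext (hF0comm y y.2 z z.2)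
    · exact Subtype.ext (hF0exp y y.2)
    · exact Subtype.ext (hF0exp z z.2)
  refine ⟨QuotientGroup.mk' N1 (z : G), hF0P z.2, ?_, ?_⟩
  · intro h
    have : (z : G) ∈ N1 := (QuotientGroup.eq_one_iff _).mp h
    exact hz1 (Subtype.ext (hdisj _ this z.2))
  · intro y hy
    rw [← himg] at hy
    obtain ⟨y0, hy0, rfl⟩ := hy
    obtain ⟨i, hi⟩ := Subgroup.mem_zpowers_iff.mp (hgen ⟨y0, hy0⟩)
    rw [Subgroup.mem_zpowers_iff]
    refine ⟨i, ?_⟩
    rw [← map_zpow]
    congr 1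
    have := congrArg Subtype.val hi
    simpa using this

/-- With a cyclic normal subgroup of prime order `s ∉ A` inside the largest normal
`Aᶜ`-subgroup `Bb`, the index of `Bb` is an `A`-number. -/
theorem index_piNum_of_cyclic_normal {Q : Type*} [Group Q] [Finite Q] (A : Set ℕ)
    (hne : NoEdge A Q) (Bb : Subgroup Q) [hBbn : Bb.Normal] (hBbA : PiNum Aᶜ (Nat.card Bb))
    (hBbmax : ∀ T : Subgroup Q, T.Normal → PiNum Aᶜ (Nat.card T) → T ≤ Bb)
    (Nb : Subgroup Q) [hNbn : Nb.Normal] (s : ℕ) (hs : s.Prime) (hsA : s ∉ A)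
    (z : Q) (hz : z ∈ Nb) (hz1 : z ≠ 1) (hzs : z ^ s = 1)
    (hgen : ∀ y ∈ Nb, y ∈ Subgroup.zpowers z) : PiNum A Bb.index := by
  classical
  haveI := Fact.mk hs
  have hoz : orderOf z = s := orderOf_eq_prime hzs hz1
  set Cz := Subgroup.centralizer (Nb : Set Q) with hCz
  have hCzA : PiNum Aᶜ (Nat.card Cz) := by
    intro r hr hd
    by_contra hrA
    have hrA' : r ∈ A := not_not.mp hrA
    haveI := Fact.mk hr
    obtain ⟨x, hx⟩ := exists_prime_orderOf_dvd_card' r hd
    have hxc : Commute (x : Q) z := by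
      have hx2 : (x : Q) ∈ Subgroup.centralizer (Nb : Set Q) := x.2
      rw [Subgroup.mem_centralizer_iff] at hx2
      exact (hx2 z hz).symm
    refine hne.not_commute (x := (x : Q)) (y := z) ?_ hz1 ?_ ?_ hxc
    · intro h
      have : x = 1 := Subtype.ext h
      rw [this, orderOf_one] at hx
      exact hr.one_lt.ne hx
    · rw [Subgroup.orderOf_coe, hx]
      exact PiNum.prime_pow (a := 1) hr hrA' |> fun h => by simpa using h
    · rw [hoz]
      exact PiNum.prime_pow (a := 1) hs (show s ∈ Aᶜ from hsA) |> fun h => by simpa using h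
  have hCzB : Cz ≤ Bb := hBbmax Cz inferInstance hCzA
  -- commutators centralize z
  have hconj : ∀ g : Q, ∃ i : ℤ, z ^ i = g * z * g⁻¹ := by
    intro g
    exact Subgroup.mem_zpowers_iff.mp (hgen _ (hNbn.conj_mem z hz g))
  have hkey : ∀ g h : Q, Commute z ((h * g)⁻¹ * (g * h)) := by
    intro g h
    obtain ⟨i, hi⟩ := hconj g
    obtain ⟨j, hj⟩ := hconj h
    have e1 : (g * h) * z * (g * h)⁻¹ = z ^ (i * j) := by
      calc (g * h) * z * (g * h)⁻¹ = g * (h * z * h⁻¹) * g⁻¹ := by group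
        _ = g * z ^ j * g⁻¹ := by rw [hj]
        _ = (g * z * g⁻¹) ^ j := by rw [conj_zpow]
        _ = z ^ (i * j) := by rw [← hi, zpow_mul]
    have e2 : (h * g) * z * (h * g)⁻¹ = z ^ (i * j) := by
      calc (h * g) * z * (h * g)⁻¹ = h * (g * z * g⁻¹) * h⁻¹ := by group
        _ = h * z ^ i * h⁻¹ := by rw [hi]
        _ = (h * z * h⁻¹) ^ i := by rw [conj_zpow]
        _ = z ^ (i * j) := by rw [← hj, mul_comm i j, zpow_mul]
    have e3 : (g * h) * z * (g * h)⁻¹ = (h * g) * z * (h * g)⁻¹ := by rw [e1, e2]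
    show z * ((h * g)⁻¹ * (g * h)) = ((h * g)⁻¹ * (g * h)) * z
    have : z * ((h * g)⁻¹ * (g * h)) =
        (h * g)⁻¹ * ((h * g) * z * (h * g)⁻¹) * (g * h) := by group
    rw [this, ← e3]; group
  have hcommB : ∀ g h : Q, g * h * g⁻¹ * h⁻¹ ∈ Bb := by
    intro g h
    apply hCzB
    rw [hCz, Subgroup.mem_centralizer_iff]
    intro y hy
    obtain ⟨i, rfl⟩ := Subgroup.mem_zpowers_iff.mp (hgen y hy)
    have h1 := hkey g⁻¹ h⁻¹
    have h2 : (h⁻¹ * g⁻¹)⁻¹ * (g⁻¹ * h⁻¹) = g * h * g⁻¹ * h⁻¹ := by group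
    rw [h2] at h1
    exact (h1.zpow_left i).eq
  -- the index
  intro r hr hd
  by_contra hrA
  haveI := Fact.mk hr
  rw [Subgroup.index_eq_card] at hd
  obtain ⟨w, hw⟩ := exists_prime_orderOf_dvd_card' r hd
  set Zw := Subgroup.zpowers w with hZw
  have hZwn : Zw.Normal := by
    refine ⟨fun n hn g => ?_⟩
    have : g * n * g⁻¹ = n := by
      obtain ⟨g0, rfl⟩ := QuotientGroup.mk'_surjective Bb g
      obtain ⟨n0, rfl⟩ := QuotientGroup.mk'_surjective Bb n
      rw [← map_inv, ← map_mul, ← map_mul]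
      apply QuotientGroup.eq.mpr
      have h1 := hcommB g0 n0
      have h2 : (g0 * n0 * g0⁻¹)⁻¹ * n0 = (g0 * n0⁻¹ * g0⁻¹ * n0⁻¹⁻¹) := by group
      rw [h2]
      exact hcommB g0 n0⁻¹
    rw [this]; exact hn
  set T := Zw.comap (QuotientGroup.mk' Bb) with hT
  have hTcard : Nat.card T = Nat.card Bb * r := by
    rw [hT, Cfsg.Agent.Helper1.card_comap_mk', hZw, Nat.card_zpowers, hw]
  have hTA : PiNum Aᶜ (Nat.card T) := by
    rw [hTcard]
    refine hBbA.mul ?_
    have := PiNum.prime_pow (a := 1) hr (show r ∈ Aᶜ from hrA)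
    simpa using this
  have hTle := hBbmax T (hZwn.comap _) hTA
  have h1 := Subgroup.card_le_of_le hTle
  rw [hTcard] at h1
  have h2 : 0 < Nat.card Bb := Nat.card_pos
  have h3 := hr.two_le
  nlinarith

end Cfsg.Agent.Helper60
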