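import Mathlib
import Cfsg.Agent.Lib.Helper60.GKC

set_option autoImplicit false
set_option linter.style.haveILetI false
set_option linter.unusedVariables false

namespace Cfsg.Agent.Helper60

universe u

open Pointwise

/-- Fixed-point-freeness from the absence of `A`–`Aᶜ` edges. -/
theorem NoEdge.fpf {A : Set ℕ} {X : Type*} [Group X] [Finite X] (h : NoEdge A X)
    (K C : Subgroup X) (hK : PiNum A (Nat.card K)) (hC : PiNum Aᶜ (Nat.card C)) :
    ∀ c ∈ C, c ≠ 1 → ∀ k ∈ K, c * k = k * c → k = 1 := by
  intro c hc hc1 k hk hck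
  by_contra hk1
  exact h.not_commute (x := k) (y := c) hk1 hc1
    (hK.of_dvd (Subgroup.orderOf_dvd_natCard K hk))
    (hC.of_dvd (Subgroup.orderOf_dvd_natCard C hc)) hck.symm

theorem NoEdge.fpf' {A : Set ℕ} {X : Type*} [Group X] [Finite X] (h : NoEdge A X)
    (K C : Subgroup X) (hK : PiNum Aᶜ (Nat.card K)) (hC : PiNum A (Nat.card C)) :
    ∀ c ∈ C, c ≠ 1 → ∀ k ∈ K, c * k = k * c → k = 1 := by
  intro c hc hc1 k hk hck
  by_contra hk1
  exact h.not_commute (x := c) (y := k) hc1 hk1
    (hC.of_dvd (Subgroup.orderOf_dvd_natCard C hc))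
    (hK.of_dvd (Subgroup.orderOf_dvd_natCard K hk)) hck

theorem gk_core {G : Type u} [Group G] [Finite G] [Group.IsSolvable G] (A : Set ℕ)
    (hne : NoEdge A G) (hb : ∃ b ∉ A, b.Prime ∧ b ∣ Nat.card G)
    (hN : ∃ N : Subgroup G, N.Normal ∧ N ≠ ⊥ ∧ PiNum A (Nat.card N)) :
    (∃ C : Subgroup G, Cfsg.IsFrobeniusComplement C) ∨
    (∃ (H K : Subgroup G) (_ : H.Normal), K.Normal ∧ H < K ∧
      (∃ C : Subgroup ↥K, Cfsg.IsFrobeniusComplement C ∧
        Cfsg.frobeniusKernel C = (H.subgroupOf K : Set ↥K)) ∧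
      (∃ C : Subgroup (G ⧸ H), Cfsg.IsFrobeniusComplement C ∧
        Cfsg.frobeniusKernel C = (K.map (QuotientGroup.mk' H) : Set (G ⧸ H)))) := by
  classical
  obtain ⟨N1, hN1n, hN1A, hN1max⟩ := exists_max_normal_pi (X := G) A
  haveI := hN1n
  have hN1ne : N1 ≠ ⊥ := by
    obtain ⟨N, hNn, hN0, hNA⟩ := hN
    intro h
    apply hN0
    rw [eq_bot_iff, ← h]
    exact hN1max N hNn hNA
  have hneQ : NoEdge A (G ⧸ N1) := hne.quotient N1
  obtain ⟨Bb, hBbn, hBbA, hBbmax⟩ := exists_max_normal_pi (X := G ⧸ N1) Aᶜ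
  haveI := hBbn
  have hN1top : N1 ≠ ⊤ := by
    obtain ⟨b, hbA, hbp, hbd⟩ := hb
    intro h
    rw [h, Subgroup.card_top] at hN1A
    exact hbA (hN1A b hbp hbd)
  haveI hQnt : Nontrivial (G ⧸ N1) := by
    by_contra h
    rw [not_nontrivial_iff_subsingleton] at h
    exact hN1top (QuotientGroup.subsingleton_iff.mp h)
  have hBb0 : Bb ≠ ⊥ := by
    obtain ⟨s, N, hs, hNn, hN0, hNp⟩ := exists_normal_pgroup (H := G ⧸ N1)
    haveI := Fact.mk hs
    obtain ⟨a, ha⟩ := IsPGroup.iff_card.mp hNp
    have hsA : s ∉ A := by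
      intro hsA
      have hT : PiNum A (Nat.card (N.comap (QuotientGroup.mk' N1))) := by
        rw [Cfsg.Agent.Helper1.card_comap_mk', ha]
        exact hN1A.mul (PiNum.prime_pow hs hsA)
      have hle := hN1max _ (hNn.comap _) hT
      apply hN0
      rw [eq_bot_iff]
      intro y hy
      obtain ⟨x, rfl⟩ := QuotientGroup.mk'_surjective N1 y
      have : x ∈ N1 := hle (Subgroup.mem_comap.mpr hy)
      rw [Subgroup.mem_bot]
      exact (QuotientGroup.eq_one_iff x).mpr this
    intro h
    apply hN0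
    rw [eq_bot_iff, ← h]
    exact hBbmax N hNn (by rw [ha]; exact PiNum.prime_pow hs (show s ∈ Aᶜ from hsA))
  by_cases hBtop : Bb = ⊤
  · -- Frobenius
    left
    have hidx : PiNum Aᶜ N1.index := by
      rw [Subgroup.index_eq_card, ← Subgroup.card_top (G := G ⧸ N1), ← hBtop]
      exact hBbA
    obtain ⟨C, hC⟩ := Subgroup.exists_right_complement'_of_coprime (N := N1) (hN1A.coprime hidx)
    have hCcard : Nat.card C = N1.index := by
      have h1 := hC.card_mul_card
      have h2 := N1.card_mul_index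
      have h3 : 0 < Nat.card N1 := Nat.card_pos
      exact Nat.eq_of_mul_eq_mul_left h3 (h1.trans h2.symm)
    have hC0 : C ≠ ⊥ := by
      intro h
      rw [h, Subgroup.card_bot] at hCcard
      exact hN1top (Subgroup.index_eq_one.mp hCcard.symm)
    have := frobenius_of_fpf N1 C hC hN1ne hC0 (hne.fpf N1 C hN1A (hCcard ▸ hidx))
    exact ⟨C, this.1⟩
  · -- 2-Frobenius
    right
    set K := Bb.comap (QuotientGroup.mk' N1) with hK
    have hKn : K.Normal := hBbn.comap _
    have hN1K : N1 ≤ K := by
      intro x hx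
      rw [hK, Subgroup.mem_comap]
      have : QuotientGroup.mk' N1 x = 1 := (QuotientGroup.eq_one_iff x).mpr hx
      rw [this]; exact Bb.one_mem
    have hKcard : Nat.card K = Nat.card N1 * Nat.card Bb := by
      rw [hK, Cfsg.Agent.Helper1.card_comap_mk']
    have hBbcard1 : Nat.card Bb ≠ 1 := fun h => hBb0 (Subgroup.card_eq_one.mp h)
    have hlt : N1 < K := by
      refine lt_of_le_of_ne hN1K ?_
      intro h
      have h1 : Nat.card N1 = Nat.card N1 * Nat.card Bb := by rw [← hKcard, ← h]
      have h2 : 0 < Nat.card N1 := Nat.card_pos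
      have h3 : Nat.card Bb = 1 := by
        have : Nat.card N1 * 1 = Nat.card N1 * Nat.card Bb := by rw [mul_one]; exact h1
        exact (Nat.eq_of_mul_eq_mul_left h2 this).symm
      exact hBbcard1 h3
    refine ⟨N1, K, hN1n, hKn, hlt, ?_, ?_⟩
    · -- K is Frobenius with kernel N1
      set K' := N1.subgroupOf K with hK'
      haveI : K'.Normal := Subgroup.normal_subgroupOf
      have hK'card : Nat.card K' = Nat.card N1 := by
        rw [hK', ← Subgroup.card_map_of_injective K.subtype_injective,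
          Subgroup.subgroupOf_map_subtype, inf_eq_left.mpr hN1K]
      have hK'idx : K'.index = Nat.card Bb := by
        have h1 := K'.card_mul_index
        rw [hK'card, hKcard] at h1
        exact Nat.eq_of_mul_eq_mul_left Nat.card_pos h1
      have hK'A : PiNum A (Nat.card K') := hK'card ▸ hN1A
      obtain ⟨C, hC⟩ := Subgroup.exists_right_complement'_of_coprime (N := K')
        (hK'A.coprime (hK'idx ▸ hBbA))
      have hCcard : Nat.card C = Nat.card Bb := by
        have h1 := hC.card_mul_card
        have h2 := K'.card_mul_index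
        have h3 : 0 < Nat.card K' := Nat.card_pos
        rw [← hK'idx]
        exact Nat.eq_of_mul_eq_mul_left h3 (h1.trans h2.symm)
      have hC0 : C ≠ ⊥ := by
        intro h
        rw [h, Subgroup.card_bot] at hCcard
        exact hBbcard1 hCcard.symm
      have hK'0 : K' ≠ ⊥ := by
        intro h
        rw [h, Subgroup.card_bot] at hK'card
        exact hN1ne (Subgroup.card_eq_one.mp hK'card.symm)
      have := frobenius_of_fpf K' C hC hK'0 hC0
        ((hne.subgroup K).fpf K' C hK'A (hCcard ▸ hBbA))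
      exact ⟨C, this.1, this.2⟩
    · -- G/N1 is Frobenius with kernel Bb
      have hmap : K.map (QuotientGroup.mk' N1) = Bb :=
        Subgroup.map_comap_eq_self_of_surjective (QuotientGroup.mk'_surjective N1) Bb
      rw [hmap]
      -- a cyclic normal subgroup of prime order inside Bb
      obtain ⟨s, Nb, hs, hNbn, hNb0, hNble, hexp, hcomm⟩ := exists_normal_elementary_le Bb hBb0
      haveI := hNbn
      have hsA : s ∉ A := by
        intro hsA
        haveI := Fact.mk hs
        have hNbp : IsPGroup s Nb := fun g => ⟨1, by rw [pow_one]; exact Subtype.ext (hexp g g.2)⟩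
        obtain ⟨a, ha⟩ := IsPGroup.iff_card.mp hNbp
        have ha0 : a ≠ 0 := by
          rintro rfl
          rw [pow_zero] at ha
          exact hNb0 (Subgroup.card_eq_one.mp ha)
        have h1 : s ∣ Nat.card Bb :=
          (dvd_pow_self s ha0).trans (ha ▸ Subgroup.card_dvd_of_le hNble)
        exact hBbA s hs h1 hsA
      obtain ⟨z, hz, hz1, hgen⟩ :=
        exists_generator_of_fpf A hne N1 hN1A hN1ne s hs hsA Nb hNb0 hexp hcomm
      have hidxA : PiNum A Bb.index :=
        index_piNum_of_cyclic_normal A hneQ Bb hBbA hBbmax Nb s hs hsA z hz hz1 (hexp z hz) hgen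
      -- Hall subgroup
      have hcardQ : Nat.card (G ⧸ N1) = Bb.index * Nat.card Bb := by
        rw [mul_comm, Subgroup.card_mul_index]
      obtain ⟨D, hD, -⟩ := Cfsg.Agent.Helper1.hall_exists_dominant (G := G ⧸ N1) Bb.index
        (Nat.card Bb) hcardQ (hidxA.coprime hBbA)
      have hcompl : Subgroup.IsComplement' Bb D := by
        apply Subgroup.isComplement'_of_coprime
        · rw [hD, Subgroup.card_mul_index]
        · rw [hD]; exact (hidxA.coprime hBbA).symm
      have hD0 : D ≠ ⊥ := by
        intro h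
        rw [h, Subgroup.card_bot] at hD
        exact hBtop (Subgroup.index_eq_one.mp hD.symm)
      have := frobenius_of_fpf Bb D hcompl hBb0 hD0 (hneQ.fpf' Bb D hBbA (hD ▸ hidxA))
      exact ⟨D, this.1, this.2⟩

end Cfsg.Agent.Helper60
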