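import Mathlib
import Cfsg.Agent.Lib.Helper14.GLIDefs

/-!
# GLI server piece GTRANSIT (`exists_gl_map_decomp`), for helper14 (S5958)
-/

set_option autoImplicit false
set_option linter.unusedVariables false
set_option linter.style.haveILetI false

namespace Cfsg.Agent.Helper60.GLI

open Module Polynomial Cfsg.Agent.Helper14.GLI

/-- (GTRANSIT) `GL_n(F)` is transitive on ordered decompositions (bases of the parts). -/
theorem exists_gl_map_decomp {F : Type*} [Field F] (n a t : ℕ)
    (D D' : Fin t → Submodule F (Fin n → F)) (hD : Cfsg.Geo.IsMDecomposition a D)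
    (hD' : Cfsg.Geo.IsMDecomposition a D') :
    ∃ g : GL (Fin n) F, ∀ j,
      (D j).map (Matrix.toLin' (g : Matrix (Fin n) (Fin n) F)) = D' j := by
  classical
  have hI : DirectSum.IsInternal D :=
    DirectSum.isInternal_submodule_of_iSupIndep_of_iSup_eq_top hD.indep hD.iSup_eq_top
  have hI' : DirectSum.IsInternal D' :=
    DirectSum.isInternal_submodule_of_iSupIndep_of_iSup_eq_top hD'.indep hD'.iSup_eq_top
  let v : ∀ j, Basis (Fin a) F (D j) := fun j => Module.finBasisOfFinrankEq F (D j) (hD.finrank_eq j)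
  let v' : ∀ j, Basis (Fin a) F (D' j) :=
    fun j => Module.finBasisOfFinrankEq F (D' j) (hD'.finrank_eq j)
  let b := hI.collectedBasis v
  let b' := hI'.collectedBasis v'
  let e : (Fin n → F) ≃ₗ[F] (Fin n → F) := b.equiv b' (Equiv.refl _)
  have he : ∀ j k, e (v j k : Fin n → F) = (v' j k : Fin n → F) := by
    intro j k
    have h1 : b ⟨j, k⟩ = (v j k : Fin n → F) := by
      simp only [b, DirectSum.IsInternal.collectedBasis_coe]
    have h2 : b' ⟨j, k⟩ = (v' j k : Fin n → F) := by
      simp only [b', DirectSum.IsInternal.collectedBasis_coe]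
    rw [← h1, ← h2]
    simp only [e, Basis.equiv_apply, Equiv.refl_apply]
  have hspan : ∀ (E : Submodule F (Fin n → F)) (w : Basis (Fin a) F E),
      E = Submodule.span F (Set.range (fun k => (w k : Fin n → F))) := by
    intro E w
    have h1 := w.span_eq
    have h2 : Submodule.map E.subtype ⊤ = E := Submodule.map_subtype_top _
    calc E = Submodule.map E.subtype ⊤ := h2.symm
      _ = Submodule.map E.subtype (Submodule.span F (Set.range ⇑w)) := by rw [h1]
      _ = Submodule.span F (E.subtype '' Set.range ⇑w) := Submodule.map_span _ _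
      _ = Submodule.span F (Set.range (E.subtype ∘ ⇑w)) := by rw [Set.range_comp]
      _ = _ := rfl
  have hmap : ∀ j, (D j).map (e : (Fin n → F) →ₗ[F] (Fin n → F)) = D' j := by
    intro j
    conv_lhs => rw [hspan (D j) (v j)]
    conv_rhs => rw [hspan (D' j) (v' j)]
    rw [Submodule.map_span, ← Set.range_comp]
    congr 2
    funext k
    exact he j k
  let A : Matrix (Fin n) (Fin n) F := LinearMap.toMatrix' (e : (Fin n → F) →ₗ[F] (Fin n → F))
  let A' : Matrix (Fin n) (Fin n) F := LinearMap.toMatrix' (e.symm : (Fin n → F) →ₗ[F] (Fin n → F))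
  have hAA' : A * A' = 1 := by
    rw [← LinearMap.toMatrix'_comp]
    have : (e : (Fin n → F) →ₗ[F] (Fin n → F)) ∘ₗ (e.symm : (Fin n → F) →ₗ[F] (Fin n → F)) =
        LinearMap.id := by
      ext x; simp
    rw [this, LinearMap.toMatrix'_id]
  have hA'A : A' * A = 1 := by
    rw [← LinearMap.toMatrix'_comp]
    have : (e.symm : (Fin n → F) →ₗ[F] (Fin n → F)) ∘ₗ (e : (Fin n → F) →ₗ[F] (Fin n → F)) =
        LinearMap.id := by
      ext x; simp
    rw [this, LinearMap.toMatrix'_id]
  refine ⟨⟨A, A', hAA', hA'A⟩, fun j => ?_⟩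
  show (D j).map (Matrix.toLin' A) = D' j
  rw [Matrix.toLin'_toMatrix']
  exact hmap j

end Cfsg.Agent.Helper60.GLI
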