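import Mathlib
import Cfsg.Prelude.Def_Sporadic
import Cfsg.Prelude.Def_Sporadic_a
import Cfsg.Prelude.Def_Spor_Mathieu
import Cfsg.Agent.Lib.Helper7.M11UDefs
import Cfsg.Agent.Lib.Helper7.NSEDefs

/-!
NSE piece (M1) `spor_iso` for helper7's lemma server (row S3592).
-/

set_option autoImplicit false

namespace Cfsg.Agent.Helper60.NSE

open Subgroup Cfsg.Agent.Helper7.M11U Cfsg.Agent.Helper7.NSE
open scoped Pointwise

/-- (M1) -/
theorem spor_iso : (some 0 : Cfsg.GolayPt) ∈ Cfsg.Spor.squareDodecad ∧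
    Nonempty (↥(MulAction.stabilizer Cfsg.M24 Cfsg.Spor.squareDodecad ⊓
      MulAction.stabilizer Cfsg.M24 (some 0 : Cfsg.GolayPt)) ≃* ↥Cfsg.Spor.M11) := by
  refine ⟨?_, ?_⟩
  · decide
  · set K : Subgroup ↥Cfsg.M24 := MulAction.stabilizer Cfsg.M24 Cfsg.Spor.squareDodecad ⊓
      MulAction.stabilizer Cfsg.M24 (some 0 : Cfsg.GolayPt) with hK
    have hmap : K.map Cfsg.M24.subtype = Cfsg.Spor.M11 := by
      ext g
      simp only [hK, Subgroup.mem_map, Cfsg.Spor.M11, Cfsg.Spor.M12, Subgroup.mem_inf,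
        MulAction.mem_stabilizer_iff]
      constructor
      · rintro ⟨x, ⟨hx1, hx2⟩, rfl⟩
        exact ⟨⟨x.2, hx1⟩, hx2⟩
      · rintro ⟨⟨h1, h2⟩, h3⟩
        exact ⟨⟨g, h1⟩, ⟨h2, h3⟩, rfl⟩
    exact ⟨(Subgroup.equivMapOfInjective K _ (Subgroup.subtype_injective _)).trans
      (MulEquiv.subgroupCongr hmap)⟩

end Cfsg.Agent.Helper60.NSE
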