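import Mathlib
import Cfsg.Agent.Lib.Helper7.M11UDefs
import Cfsg.Agent.Lib.Helper7.NSEDefs

/-!
NSE piece (M2b) `cent_le_of_three` for helper7's lemma server (row S3592).
-/

set_option autoImplicit false

namespace Cfsg.Agent.Helper60.NSE

open Subgroup Cfsg.Agent.Helper7.M11U Cfsg.Agent.Helper7.NSE
open scoped Pointwise

section M

variable {H : Type*} [Group H] [Finite H]

/-- (M2b) -/
theorem cent_le_of_three (B : Base H) (L : Loc H) (g : H) (h : 3 ∣ orderOf g) (h3 : orderOf g ≠ 3) :
    Nat.card (centralizer ({g} : Set H)) ≤ 9 := by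
  have hpos : 0 < orderOf g := orderOf_pos g
  obtain ⟨m, hm⟩ := h
  have hm0 : m ≠ 0 := by
    intro h0
    rw [h0, mul_zero] at hm
    omega
  set z : H := g ^ m with hz
  have hzo : orderOf z = 3 := by
    rw [hz, orderOf_pow_of_dvd hm0 ⟨3, by rw [hm, mul_comm]⟩, hm]
    exact Nat.mul_div_cancel _ (Nat.pos_of_ne_zero hm0)
  have h18 := L.c18 z hzo
  have hle : centralizer ({g} : Set H) ≤ centralizer ({z} : Set H) := by
    intro x hx
    rw [mem_centralizer_iff] at hx ⊢
    intro y hy
    rw [Set.mem_singleton_iff] at hy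
    have h1 : g * x = x * g := hx g rfl
    have h2 : Commute g x := h1
    rw [hy, hz]
    exact (h2.pow_left m).eq
  have hdvd : Nat.card (centralizer ({g} : Set H)) ∣ 18 := by
    rw [← h18]
    exact Subgroup.card_dvd_of_le hle
  have hne : Nat.card (centralizer ({g} : Set H)) ≠ 18 := by
    intro h18'
    have heq : centralizer ({g} : Set H) = centralizer ({z} : Set H) :=
      Subgroup.eq_of_le_of_card_ge hle (by rw [h18, h18'])
    have hzp : IsPGroup 3 (zpowers z) :=
      IsPGroup.of_card (n := 1) (by rw [Nat.card_zpowers, hzo, pow_one])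
    obtain ⟨R, hR⟩ := hzp.exists_le_sylow
    have hzR : z ∈ (R : Subgroup H) := hR (mem_zpowers z)
    have hgR : g ∈ (R : Subgroup H) := by
      apply L.cent R
      rw [mem_centralizer_iff]
      intro x hx
      have hxz : x ∈ centralizer ({z} : Set H) := by
        rw [mem_centralizer_iff]
        intro y hy
        rw [Set.mem_singleton_iff] at hy
        rw [hy]
        exact L.comm R z hzR x hx
      rw [← heq, mem_centralizer_iff] at hxz
      exact (hxz g rfl).symm
    have hg3 : g ^ 3 = 1 := L.exp3 R g hgR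
    have hd : orderOf g ∣ 3 := orderOf_dvd_of_pow_eq_one hg3
    exact h3 (Nat.dvd_antisymm hd ⟨m, hm⟩)
  have hmem : Nat.card (centralizer ({g} : Set H)) ∈ Nat.divisors 18 :=
    Nat.mem_divisors.mpr ⟨hdvd, by norm_num⟩
  have hdiv : Nat.divisors 18 = {1, 2, 3, 6, 9, 18} := by decide
  rw [hdiv] at hmem
  simp only [Finset.mem_insert, Finset.mem_singleton] at hmem
  omega

end M

end Cfsg.Agent.Helper60.NSE
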