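import Mathlib
import Cfsg.Agent.Lib.Helper55.O2520Defs

/-!
# O2520 server (helper55, S0984), helper40's split of (S3C), piece (K1): a four-group `T` with `N(P) = P T`
-/

set_option autoImplicit false

namespace Cfsg.Agent.Helper60.O2520

open Cfsg Cfsg.Agent.Helper55.O2520
open scoped Classical

universe u

theorem klein_sub {G : Type u} [Group G] [Finite G] (P : Subgroup G) (hP : Nat.card P = 9)
    (hN : Nat.card (Subgroup.normalizer (P : Set G)) = 36)
    (hno4 : ∀ u ∈ Subgroup.normalizer (P : Set G), orderOf u ≠ 4) :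
    ∃ T : Subgroup G, T ≤ Subgroup.normalizer (P : Set G) ∧ Nat.card T = 4 ∧ (∀ t ∈ T, t ^ 2 = 1) ∧
      ∀ n ∈ Subgroup.normalizer (P : Set G), ∃ p ∈ P, ∃ t ∈ T, n = p * t := by
  have hf2 : Fact (Nat.Prime 2) := ⟨by norm_num⟩
  set N := Subgroup.normalizer (P : Set G) with hNdef
  obtain ⟨K, hK⟩ := Sylow.exists_subgroup_card_pow_prime (G := ↥N) 2 (n := 2)
    (by rw [hN]; norm_num)
  set T : Subgroup G := K.map N.subtype with hTdef
  have hTN : T ≤ N := Subgroup.map_subtype_le K
  have hT4 : Nat.card T = 4 := by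
    rw [hTdef, Subgroup.card_map_of_injective (Subgroup.subtype_injective N), hK]
    norm_num
  have hT2 : ∀ t ∈ T, t ^ 2 = 1 := by
    intro t ht
    have hd : orderOf t ∣ 4 := by
      have := orderOf_dvd_natCard (⟨t, ht⟩ : T)
      rw [hT4, ← Subgroup.orderOf_coe] at this
      exact this
    have hmem : orderOf t ∈ Nat.divisors 4 := Nat.mem_divisors.mpr ⟨hd, by norm_num⟩
    have hdivs : Nat.divisors 4 = {1, 2, 4} := by decide
    rw [hdivs] at hmem
    simp only [Finset.mem_insert, Finset.mem_singleton] at hmem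
    have h2 : orderOf t ∣ 2 := by
      rcases hmem with h | h | h
      · rw [h]; norm_num
      · rw [h]
      · exact (hno4 t (hTN ht) h).elim
    exact orderOf_dvd_iff_pow_eq_one.mp h2
  refine ⟨T, hTN, hT4, hT2, ?_⟩
  have hPN : P ≤ N := Subgroup.le_normalizer
  let φ : ↥P × ↥T → ↥N := fun q => ⟨(q.1 : G) * (q.2 : G), N.mul_mem (hPN q.1.2) (hTN q.2.2)⟩
  have hinj : Function.Injective φ := by
    intro q q' h
    have h1 : (q.1 : G) * (q.2 : G) = (q'.1 : G) * (q'.2 : G) := congrArg Subtype.val h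
    set c : G := (q'.1 : G)⁻¹ * (q.1 : G) with hc
    have hc2 : c = (q'.2 : G) * (q.2 : G)⁻¹ := by
      rw [hc]
      have : (q.1 : G) = (q'.1 : G) * (q'.2 : G) * (q.2 : G)⁻¹ := by rw [← h1]; group
      rw [this]; group
    have hcP : c ∈ P := P.mul_mem (P.inv_mem q'.1.2) q.1.2
    have hcT : c ∈ T := by rw [hc2]; exact T.mul_mem q'.2.2 (T.inv_mem q.2.2)
    have h9 : c ^ 9 = 1 := by
      have := pow_card_eq_one' (G := ↥P) (x := ⟨c, hcP⟩)
      rw [hP] at this
      exact congrArg Subtype.val this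
    have hc1 : c = 1 := by
      calc c = c ^ 9 * ((c ^ 2) ^ 4)⁻¹ := by group
        _ = 1 := by rw [h9, hT2 c hcT]; simp
    have e1 : (q.1 : G) = (q'.1 : G) := by
      have : (q'.1 : G)⁻¹ * (q.1 : G) = 1 := hc1
      exact (inv_mul_eq_one.mp this).symm
    have e2 : (q.2 : G) = (q'.2 : G) := by
      rw [e1] at h1
      exact mul_left_cancel h1
    exact Prod.ext (Subtype.ext e1) (Subtype.ext e2)
  have hfinN : Finite ↥N := inferInstance
  have hbij : Function.Bijective φ := by
    apply hinj.bijective_of_nat_card_le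
    rw [Nat.card_prod, hP, hT4, hN]
  intro n hn
  obtain ⟨q, hq⟩ := hbij.2 ⟨n, hn⟩
  exact ⟨q.1, q.1.2, q.2, q.2.2, (congrArg Subtype.val hq).symm⟩

end Cfsg.Agent.Helper60.O2520
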