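import Mathlib
import Cfsg.Agent.Lib.Helper55.O2520Defs
import Cfsg.Agent.Lib.Helper87.O2520S3C_Q1

/-!
# O2520 server (helper55, S0984), helper40's split of (S3C), piece (K2): a basis of `P` adapted to the
four-group `T`.  The core is helper87's `h87_q1_core` (Lib/Helper87/O2520S3C_Q1.lean), restated so that the
second involution is visibly `b` or `a * b`; it uses helper87's decomposition lemmas `h87_dec*`.
-/

set_option autoImplicit false

namespace Cfsg.Agent.Helper60.O2520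

open Cfsg Cfsg.Agent.Helper55.O2520 Cfsg.Agent.Helper87.O2520
open scoped Classical

universe u

/-- helper87's core of (Q1), keeping track of the second involution -/
theorem h60_q1_core {G : Type u} [Group G] (P : Subgroup G) (hP : Nat.card P = 9)
    (hexp : ∀ x ∈ P, x ^ 3 = 1) (hC : Subgroup.centralizer (P : Set G) = P)
    (a b : G) (ha : a ∈ Subgroup.normalizer (P : Set G)) (hb : b ∈ Subgroup.normalizer (P : Set G))
    (ha2 : a * a = 1) (hb2 : b * b = 1) (ha1 : a ≠ 1) (hb1 : b ≠ 1) (hne : a ≠ b)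
    (hab : a * b = b * a) (hninv : ¬ ∀ z ∈ P, a * z * a⁻¹ = z⁻¹) :
    ∃ x x' b' : G, (b' = b ∨ b' = a * b) ∧ x ∈ P ∧ x' ∈ P ∧ x ≠ 1 ∧ x' ≠ 1 ∧
      a * x * a⁻¹ = x ∧ a * x' * a⁻¹ = x'⁻¹ ∧ b' * x * b'⁻¹ = x⁻¹ ∧ b' * x' * b'⁻¹ = x' := by
  have hcomm : ∀ x ∈ P, ∀ y ∈ P, x * y = y * x := by
    intro x hx y hy
    have hx' : x ∈ Subgroup.centralizer (P : Set G) := by rw [hC]; exact hx
    exact (Subgroup.mem_centralizer_iff.mp hx' y hy).symm
  have hainv : a⁻¹ = a := inv_eq_of_mul_eq_one_left ha2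
  have hbinv : b⁻¹ = b := inv_eq_of_mul_eq_one_left hb2
  have hψaP : ∀ x ∈ P, MulAut.conj a x ∈ P := fun x hx => by
    rw [MulAut.conj_apply]; exact (Subgroup.mem_normalizer_iff.mp ha x).mp hx
  have hψbP : ∀ x ∈ P, MulAut.conj b x ∈ P := fun x hx => by
    rw [MulAut.conj_apply]; exact (Subgroup.mem_normalizer_iff.mp hb x).mp hx
  have hψaa : ∀ x, MulAut.conj a (MulAut.conj a x) = x := by
    intro x
    rw [← MulAut.mul_apply, ← map_mul, ha2, map_one, MulAut.one_apply]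
  have hψab : ∀ x, MulAut.conj a (MulAut.conj b x) = MulAut.conj b (MulAut.conj a x) := by
    intro x
    rw [← MulAut.mul_apply, ← MulAut.mul_apply, ← map_mul, ← map_mul, hab]
  have hex : ∃ z ∈ P, a * z * a⁻¹ ≠ z⁻¹ := by
    by_contra h
    push Not at h
    exact hninv h
  obtain ⟨z0, hz0, hz0ne⟩ := hex
  obtain ⟨x, hxdef⟩ : ∃ x : G, x = z0 * MulAut.conj a z0 := ⟨_, rfl⟩
  have hxP : x ∈ P := by rw [hxdef]; exact P.mul_mem hz0 (hψaP z0 hz0)
  have hx1 : x ≠ 1 := by
    intro h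
    rw [hxdef] at h
    apply hz0ne
    rw [← MulAut.conj_apply]
    exact eq_inv_of_mul_eq_one_right h
  have hax : MulAut.conj a x = x := by
    rw [hxdef, map_mul, hψaa]
    exact hcomm _ (hψaP z0 hz0) _ hz0
  have hey : ∃ y ∈ P, a * y * a⁻¹ ≠ y := by
    by_contra h
    push Not at h
    exact h87_faithful P hexp hC a ha2 ha1 h
  obtain ⟨y0, hy0, hy0ne⟩ := hey
  obtain ⟨x', hx'def⟩ : ∃ x' : G, x' = y0⁻¹ * MulAut.conj a y0 := ⟨_, rfl⟩
  have hx'P : x' ∈ P := by rw [hx'def]; exact P.mul_mem (P.inv_mem hy0) (hψaP y0 hy0)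
  have hx'1 : x' ≠ 1 := by
    intro h
    rw [hx'def] at h
    apply hy0ne
    rw [← MulAut.conj_apply]
    exact (inv_mul_eq_one.mp h).symm
  have hax' : MulAut.conj a x' = x'⁻¹ := by
    rw [hx'def, map_mul, map_inv, hψaa, mul_inv_rev, inv_inv]
  have hbx_fixed : MulAut.conj a (MulAut.conj b x) = MulAut.conj b x := by
    rw [hψab, hax]
  have hbx'_inv : MulAut.conj a (MulAut.conj b x') = (MulAut.conj b x')⁻¹ := by
    rw [hψab, hax', map_inv]
  obtain ⟨i, hi⟩ := h87_dec_fixed P hP hexp hcomm (MulAut.conj a) x x' hxP hx'P hx1 hx'1 hax hax'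
    (MulAut.conj b x) (hψbP x hxP) hbx_fixed
  obtain ⟨j, hj⟩ := h87_dec_inverted P hP hexp hcomm (MulAut.conj a) x x' hxP hx'P hx1 hx'1 hax hax'
    (MulAut.conj b x') (hψbP x' hx'P) hbx'_inv
  have hbx_ne : MulAut.conj b x ≠ 1 := by
    intro h
    apply hx1
    exact EmbeddingLike.map_eq_one_iff.mp h
  have hbx'_ne : MulAut.conj b x' ≠ 1 := by
    intro h
    apply hx'1
    exact EmbeddingLike.map_eq_one_iff.mp h
  have hbx_cases : MulAut.conj b x = x ∨ MulAut.conj b x = x⁻¹ := by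
    rcases h87_pow_cases x (hexp x hxP) i with h | h | h
    · exact absurd (hi.trans h) hbx_ne
    · left; exact hi.trans h
    · right; exact hi.trans h
  have hbx'_cases : MulAut.conj b x' = x' ∨ MulAut.conj b x' = x'⁻¹ := by
    rcases h87_pow_cases x' (hexp x' hx'P) j with h | h | h
    · exact absurd (hj.trans h) hbx'_ne
    · left; exact hj.trans h
    · right; exact hj.trans h
  have hab2 : (a * b) * (a * b) = 1 := by
    calc (a * b) * (a * b) = a * (b * a) * b := by group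
      _ = a * (a * b) * b := by rw [hab]
      _ = (a * a) * (b * b) := by group
      _ = 1 := by rw [ha2, hb2, one_mul]
  have hab1 : a * b ≠ 1 := by
    intro h
    apply hne
    have : a = b⁻¹ := eq_inv_of_mul_eq_one_left h
    rw [this, hbinv]
  have hconj : MulAut.conj (a * b) = MulAut.conj a * MulAut.conj b := map_mul _ _ _
  have hdec := h87_dec P hP hexp hcomm (MulAut.conj a) x x' hxP hx'P hx1 hx'1 hax hax'
  rcases hbx_cases with hbx | hbx <;> rcases hbx'_cases with hbx' | hbx'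
  · exfalso
    apply h87_faithful P hexp hC b hb2 hb1
    intro z hz
    obtain ⟨i, j, rfl⟩ := hdec z hz
    rw [← MulAut.conj_apply, map_mul, map_pow, map_pow, hbx, hbx']
  · exfalso
    apply h87_faithful P hexp hC (a * b) hab2 hab1
    intro z hz
    obtain ⟨i, j, rfl⟩ := hdec z hz
    rw [← MulAut.conj_apply, hconj, MulAut.mul_apply, map_mul, map_pow, map_pow, hbx, hbx',
      map_mul, map_pow, map_pow, hax, map_inv, hax', inv_inv]
  · exact ⟨x, x', b, Or.inl rfl, hxP, hx'P, hx1, hx'1,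
      by rw [← MulAut.conj_apply]; exact hax, by rw [← MulAut.conj_apply]; exact hax',
      by rw [← MulAut.conj_apply]; exact hbx, by rw [← MulAut.conj_apply]; exact hbx'⟩
  · refine ⟨x, x', a * b, Or.inr rfl, hxP, hx'P, hx1, hx'1,
      by rw [← MulAut.conj_apply]; exact hax, by rw [← MulAut.conj_apply]; exact hax', ?_, ?_⟩
    · rw [← MulAut.conj_apply, hconj, MulAut.mul_apply, hbx, map_inv, hax]
    · rw [← MulAut.conj_apply, hconj, MulAut.mul_apply, hbx', map_inv, hax', inv_inv]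

/-- a group of order 4 is exhausted by two distinct non-identity elements and their product -/
theorem h60_four {G : Type u} [Group G] (T : Subgroup G) (hT : Nat.card T = 4) (a b : G)
    (ha : a ∈ T) (hb : b ∈ T) (ha1 : a ≠ 1) (hb1 : b ≠ 1) (hab : a ≠ b) (hab1 : a * b ≠ 1) :
    ∀ t ∈ T, t = 1 ∨ t = a ∨ t = b ∨ t = a * b := by
  intro t ht
  by_contra hcon
  push Not at hcon
  obtain ⟨h1, h2, h3, h4⟩ := hcon
  have hfin : Finite T := Nat.finite_of_card_ne_zero (by rw [hT]; norm_num)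
  have e1 : a * b ≠ a := fun h => hb1 (by simpa using h)
  have e2 : a * b ≠ b := fun h => ha1 (by simpa using h)
  set S : Finset G := {t, a * b, b, a, 1} with hS
  have hcard : S.card = 5 := by
    rw [hS, Finset.card_insert_of_notMem, Finset.card_insert_of_notMem,
      Finset.card_insert_of_notMem, Finset.card_insert_of_notMem, Finset.card_singleton]
    · simpa using ha1
    · simp only [Finset.mem_insert, Finset.mem_singleton, not_or]
      exact ⟨fun h => hab h.symm, hb1⟩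
    · simp only [Finset.mem_insert, Finset.mem_singleton, not_or]
      exact ⟨e2, e1, hab1⟩
    · simp only [Finset.mem_insert, Finset.mem_singleton, not_or]
      exact ⟨h4, h3, h2, h1⟩
  have hsub : (S : Set G) ⊆ (T : Set G) := by
    intro z hz
    rw [hS] at hz
    simp only [Finset.coe_insert, Finset.coe_singleton, Set.mem_insert_iff,
      Set.mem_singleton_iff] at hz
    rcases hz with rfl | rfl | rfl | rfl | rfl
    · exact ht
    · exact T.mul_mem ha hb
    · exact hb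
    · exact ha
    · exact T.one_mem
  have h5 : S.card ≤ Nat.card T := by
    have := Set.ncard_le_ncard hsub (Set.toFinite _)
    rw [Set.ncard_coe_finset] at this
    rw [← Nat.card_coe_set_eq] at this
    exact this
  rw [hcard, hT] at h5
  omega

theorem klein_basis {G : Type u} [Group G] [Finite G] (P : Subgroup G) (hP : Nat.card P = 9)
    (hexp : ∀ x ∈ P, x ^ 3 = 1) (hC : Subgroup.centralizer (P : Set G) = P)
    (T : Subgroup G) (hTN : T ≤ Subgroup.normalizer (P : Set G)) (hT : Nat.card T = 4)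
    (hT2 : ∀ t ∈ T, t ^ 2 = 1) :
    ∃ a b x y : G, a ∈ T ∧ b ∈ T ∧ x ∈ P ∧ y ∈ P ∧ x ≠ 1 ∧ y ≠ 1 ∧
      a * x * a⁻¹ = x ∧ a * y * a⁻¹ = y⁻¹ ∧ b * x * b⁻¹ = x⁻¹ ∧ b * y * b⁻¹ = y ∧
      ∀ t ∈ T, t = 1 ∨ t = a ∨ t = b ∨ t = a * b := by
  have hsq : ∀ t ∈ T, t * t = 1 := fun t ht => by rw [← pow_two]; exact hT2 t ht
  have hinv : ∀ t ∈ T, t⁻¹ = t := fun t ht => inv_eq_of_mul_eq_one_left (hsq t ht)
  -- T is abelian
  have hTcomm : ∀ s ∈ T, ∀ t ∈ T, s * t = t * s := by
    intro s hs t ht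
    have h1 := hsq (s * t) (T.mul_mem hs ht)
    have h2 : s * t = (s * t)⁻¹ := eq_inv_of_mul_eq_one_right h1
    rw [h2, mul_inv_rev, hinv s hs, hinv t ht]
  -- two distinct non-identity elements
  have hTbot : T ≠ ⊥ := by
    intro h
    rw [h, Subgroup.card_bot] at hT
    omega
  obtain ⟨s₁, hs₁1⟩ := (Subgroup.ne_bot_iff_exists_ne_one.mp hTbot)
  have hs₁T' : (s₁ : G) ∈ T := s₁.2
  have hs₁ne : (s₁ : G) ≠ 1 := fun h => hs₁1 (Subtype.ext h)
  have hz2 : Nat.card (Subgroup.zpowers (s₁ : G)) = 2 := by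
    rw [Nat.card_zpowers]
    exact orderOf_eq_prime (hT2 _ hs₁T') hs₁ne
  have hzle : Subgroup.zpowers (s₁ : G) ≤ T := by
    rw [Subgroup.zpowers_le]; exact hs₁T'
  have hzlt : Subgroup.zpowers (s₁ : G) < T := by
    refine lt_of_le_of_ne hzle ?_
    intro h
    rw [h, hT] at hz2
    omega
  obtain ⟨s₂, hs₂T, hs₂z⟩ := SetLike.exists_of_lt hzlt
  have hs₂1 : s₂ ≠ 1 := fun h => hs₂z (h ▸ Subgroup.one_mem _)
  have hs₂ne : s₂ ≠ (s₁ : G) := fun h => hs₂z (h ▸ Subgroup.mem_zpowers _)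
  -- one of them does not invert P
  have hchoice : ∃ a t : G, a ∈ T ∧ t ∈ T ∧ a ≠ 1 ∧ t ≠ 1 ∧ a ≠ t ∧
      ¬ ∀ z ∈ P, a * z * a⁻¹ = z⁻¹ := by
    by_cases h1 : ∀ z ∈ P, (s₁ : G) * z * (s₁ : G)⁻¹ = z⁻¹
    · refine ⟨s₂, s₁, hs₂T, hs₁T', hs₂1, hs₁ne, hs₂ne, ?_⟩
      intro h2
      -- then s₁ * s₂ centralizes P
      have hprod1 : (s₁ : G) * s₂ ≠ 1 := by
        intro h
        apply hs₂ne
        have : s₂ = (s₁ : G)⁻¹ := (eq_inv_of_mul_eq_one_right h)
        rw [this, hinv _ hs₁T']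
      apply h87_faithful P hexp hC ((s₁ : G) * s₂) (hsq _ (T.mul_mem hs₁T' hs₂T)) hprod1
      intro z hz
      have hz' : s₂ * z * s₂⁻¹ ∈ P :=
        (Subgroup.mem_normalizer_iff.mp (hTN hs₂T) z).mp hz
      calc (s₁ : G) * s₂ * z * ((s₁ : G) * s₂)⁻¹
          = (s₁ : G) * (s₂ * z * s₂⁻¹) * (s₁ : G)⁻¹ := by group
        _ = (s₂ * z * s₂⁻¹)⁻¹ := h1 _ hz'
        _ = z := by rw [h2 z hz, inv_inv]
    · exact ⟨s₁, s₂, hs₁T', hs₂T, hs₁ne, hs₂1, fun h => hs₂ne h.symm, h1⟩
  obtain ⟨a, t, haT, htT, ha1, ht1, hat, hninv⟩ := hchoice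
  obtain ⟨x, y, b, hb, hxP, hyP, hx1, hy1, hax, hay, hbx, hby⟩ :=
    h60_q1_core P hP hexp hC a t (hTN haT) (hTN htT) (hsq a haT) (hsq t htT) ha1 ht1 hat
      (hTcomm a haT t htT) hninv
  have hbT : b ∈ T := by
    rcases hb with rfl | rfl
    · exact htT
    · exact T.mul_mem haT htT
  have hb1 : b ≠ 1 := by
    rcases hb with rfl | rfl
    · exact ht1
    · intro h
      apply hat
      have : a = t⁻¹ := eq_inv_of_mul_eq_one_left h
      rw [this, hinv t htT]
  have hab : a ≠ b := by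
    rcases hb with rfl | rfl
    · exact hat
    · intro h
      apply ht1
      have : a * 1 = a * t := by rw [mul_one]; exact h
      exact (mul_left_cancel this).symm
  have hab1 : a * b ≠ 1 := by
    intro h
    apply hab
    have : a = b⁻¹ := eq_inv_of_mul_eq_one_left h
    rw [this, hinv b hbT]
  exact ⟨a, b, x, y, haT, hbT, hxP, hyP, hx1, hy1, hax, hay, hbx, hby,
    h60_four T hT a b haT hbT ha1 hb1 hab hab1⟩

end Cfsg.Agent.Helper60.O2520
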