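import Mathlib
import Cfsg.Agent.Lib.Helper18.O3K1
import Cfsg.Agent.S1064

/-!
# S2363 server piece (E7) (helper60, server helper18)
-/

set_option autoImplicit false

namespace Cfsg.Agent.Helper60.O3K

open Cfsg Cfsg.Agent.Helper18.O3K

theorem h60_concl_e7_core {p : ℕ} (hp : p.Prime) (F : Type) [Field F] [Fintype F] [CharP F p]
    (hc : Nat.gcd 2 (Fintype.card F - 1) * Nat.card ↥(Lie.chevE7.group F) =
      (Fintype.card F) ^ 63 * ((Fintype.card F) ^ 2 - 1) *
      ((Fintype.card F) ^ 6 - 1) * ((Fintype.card F) ^ 8 - 1) * ((Fintype.card F) ^ 10 - 1) *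
      ((Fintype.card F) ^ 12 - 1) * ((Fintype.card F) ^ 14 - 1) * ((Fintype.card F) ^ 18 - 1)) :
    Concl p ↥(Lie.chevE7.group F) := by
  obtain ⟨f, hf, hq⟩ := card_eq_pow hp F
  set q : ℕ := Fintype.card F
  have hq1 : 1 ≤ q := by
    rw [hq]
    exact pow_pos hp.pos f
  refine concl_of_q hp q f 63 70 ((q ^ 2 - 1) * (q ^ 6 - 1) * (q ^ 8 - 1) * (q ^ 10 - 1) *
    (q ^ 12 - 1) * (q ^ 14 - 1) * (q ^ 18 - 1)) (Nat.gcd 2 (q - 1)) hq ?_ ?_ ?_ ?_ (by norm_num)
  · rw [hc]
    ring
  · intro h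
    have h1 : p ∣ q - 1 := h.trans (Nat.gcd_dvd_right 2 (q - 1))
    have h2 := not_dvd_pow_sub_one hp hq hf (e := 1) (by norm_num)
    rw [pow_one] at h2
    exact h2 h1
  · intro h
    rcases (Nat.Prime.dvd_mul hp).mp h with h | h
    · rcases (Nat.Prime.dvd_mul hp).mp h with h | h
      · rcases (Nat.Prime.dvd_mul hp).mp h with h | h
        · rcases (Nat.Prime.dvd_mul hp).mp h with h | h
          · rcases (Nat.Prime.dvd_mul hp).mp h with h | h
            · rcases (Nat.Prime.dvd_mul hp).mp h with h | h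
              · exact not_dvd_pow_sub_one hp hq hf (e := 2) (by norm_num) h
              · exact not_dvd_pow_sub_one hp hq hf (e := 6) (by norm_num) h
            · exact not_dvd_pow_sub_one hp hq hf (e := 8) (by norm_num) h
          · exact not_dvd_pow_sub_one hp hq hf (e := 10) (by norm_num) h
        · exact not_dvd_pow_sub_one hp hq hf (e := 12) (by norm_num) h
      · exact not_dvd_pow_sub_one hp hq hf (e := 14) (by norm_num) h
    · exact not_dvd_pow_sub_one hp hq hf (e := 18) (by norm_num) h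
  · have h2 : (q ^ 2 - 1) * (q ^ 6 - 1) < q ^ (2 + 6) :=
      mul_lt_pow hq1 (pow_sub_one_lt hq1 2) (pow_sub_one_le q 6)
    have h3 := mul_lt_pow hq1 h2 (pow_sub_one_le q 8)
    have h4 := mul_lt_pow hq1 h3 (pow_sub_one_le q 10)
    have h5 := mul_lt_pow hq1 h4 (pow_sub_one_le q 12)
    have h6 := mul_lt_pow hq1 h5 (pow_sub_one_le q 14)
    exact mul_lt_pow hq1 h6 (pow_sub_one_le q 18)

theorem concl_e7 {p : ℕ} (hp : p.Prime) (F : Type) [Field F] [Fintype F] [CharP F p] :
    Concl p ↥(Lie.chevE7.group F) :=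
  h60_concl_e7_core hp F (Cfsg.Agent.S1064.result (F := F) (q := Fintype.card F) rfl)

end Cfsg.Agent.Helper60.O3K
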