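import Mathlib
import Cfsg.Agent.Lib.Helper18.O3K1
import Cfsg.Agent.S1065

/-!
# S2363 server piece (E8) (helper60, server helper18)
-/

set_option autoImplicit false

namespace Cfsg.Agent.Helper60.O3K

open Cfsg Cfsg.Agent.Helper18.O3K

theorem h60_concl_e8_core {p : ℕ} (hp : p.Prime) (F : Type) [Field F] [Fintype F] [CharP F p]
    (hc : Nat.card ↥(Lie.chevE8.group F) = (Fintype.card F) ^ 120 * ((Fintype.card F) ^ 2 - 1) *
      ((Fintype.card F) ^ 8 - 1) * ((Fintype.card F) ^ 12 - 1) * ((Fintype.card F) ^ 14 - 1) *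
      ((Fintype.card F) ^ 18 - 1) * ((Fintype.card F) ^ 20 - 1) * ((Fintype.card F) ^ 24 - 1) *
      ((Fintype.card F) ^ 30 - 1)) :
    Concl p ↥(Lie.chevE8.group F) := by
  obtain ⟨f, hf, hq⟩ := card_eq_pow hp F
  set q : ℕ := Fintype.card F
  have hq1 : 1 ≤ q := by
    rw [hq]
    exact pow_pos hp.pos f
  refine concl_of_q hp q f 120 128 ((q ^ 2 - 1) * (q ^ 8 - 1) * (q ^ 12 - 1) * (q ^ 14 - 1) *
    (q ^ 18 - 1) * (q ^ 20 - 1) * (q ^ 24 - 1) * (q ^ 30 - 1)) 1 hq ?_ ?_ ?_ ?_ (by norm_num)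
  · rw [one_mul, hc]
    ring
  · intro h
    exact hp.one_lt.ne' (Nat.dvd_one.mp h)
  · intro h
    rcases (Nat.Prime.dvd_mul hp).mp h with h | h
    · rcases (Nat.Prime.dvd_mul hp).mp h with h | h
      · rcases (Nat.Prime.dvd_mul hp).mp h with h | h
        · rcases (Nat.Prime.dvd_mul hp).mp h with h | h
          · rcases (Nat.Prime.dvd_mul hp).mp h with h | h
            · rcases (Nat.Prime.dvd_mul hp).mp h with h | h
              · rcases (Nat.Prime.dvd_mul hp).mp h with h | h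
                · exact not_dvd_pow_sub_one hp hq hf (e := 2) (by norm_num) h
                · exact not_dvd_pow_sub_one hp hq hf (e := 8) (by norm_num) h
              · exact not_dvd_pow_sub_one hp hq hf (e := 12) (by norm_num) h
            · exact not_dvd_pow_sub_one hp hq hf (e := 14) (by norm_num) h
          · exact not_dvd_pow_sub_one hp hq hf (e := 18) (by norm_num) h
        · exact not_dvd_pow_sub_one hp hq hf (e := 20) (by norm_num) h
      · exact not_dvd_pow_sub_one hp hq hf (e := 24) (by norm_num) h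
    · exact not_dvd_pow_sub_one hp hq hf (e := 30) (by norm_num) h
  · have h2 : (q ^ 2 - 1) * (q ^ 8 - 1) < q ^ (2 + 8) :=
      mul_lt_pow hq1 (pow_sub_one_lt hq1 2) (pow_sub_one_le q 8)
    have h3 := mul_lt_pow hq1 h2 (pow_sub_one_le q 12)
    have h4 := mul_lt_pow hq1 h3 (pow_sub_one_le q 14)
    have h5 := mul_lt_pow hq1 h4 (pow_sub_one_le q 18)
    have h6 := mul_lt_pow hq1 h5 (pow_sub_one_le q 20)
    have h7 := mul_lt_pow hq1 h6 (pow_sub_one_le q 24)
    exact mul_lt_pow hq1 h7 (pow_sub_one_le q 30)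

theorem concl_e8 {p : ℕ} (hp : p.Prime) (F : Type) [Field F] [Fintype F] [CharP F p] :
    Concl p ↥(Lie.chevE8.group F) :=
  h60_concl_e8_core hp F (Cfsg.Agent.S1065.result (F := F) (q := Fintype.card F) rfl)

end Cfsg.Agent.Helper60.O3K
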