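import Mathlib
import Cfsg.Agent.Lib.Helper18.O3K1
import Cfsg.Agent.S1067

/-!
# S2363 server piece (TD4) (helper60, server helper18)
-/

set_option autoImplicit false

namespace Cfsg.Agent.Helper60.O3K

open Cfsg Cfsg.Agent.Helper18.O3K

/-- a prime power `q` with `card K = q ^ e` is a power of the characteristic -/
theorem h60_q_pow {p : ℕ} (hp : p.Prime) (K : Type) [Field K] [Fintype K] [CharP K p] (q e : ℕ)
    (he : 1 ≤ e) (hq : IsPrimePow q) (hK : Fintype.card K = q ^ e) : ∃ f, 1 ≤ f ∧ q = p ^ f := by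
  obtain ⟨n, hn, hcard⟩ := card_eq_pow hp K
  obtain ⟨r, k, hr, hk, rfl⟩ := (isPrimePow_nat_iff q).1 hq
  have h1 : r ∣ p ^ n := by
    rw [← hcard, hK]
    exact dvd_pow (dvd_pow_self r hk.ne') (by omega)
  have hrp : r = p := (Nat.prime_dvd_prime_iff_eq hr hp).mp (hr.dvd_of_dvd_pow h1)
  exact ⟨k, hk, by rw [hrp]⟩

theorem h60_concl_td4_core {p : ℕ} (hp : p.Prime) (K : Type) [Field K] [Fintype K] [CharP K p] (q : ℕ)
    (hq : IsPrimePow q) (hK : Fintype.card K = q ^ 3)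
    (hc : Nat.card ↥(Lie.twistedD4 K q) = q ^ 12 * (q ^ 2 - 1) * (q ^ 6 - 1) * (q ^ 8 + q ^ 4 + 1)) :
    Concl p ↥(Lie.twistedD4 K q) := by
  obtain ⟨f, hf, hqf⟩ := h60_q_pow hp K q 3 (by norm_num) hq hK
  have hpq : p ∣ q := by
    rw [hqf]
    exact dvd_pow_self p (by omega)
  have hq2 : 2 ≤ q := by
    have h1 : p ≤ q := Nat.le_of_dvd (by rw [hqf]; exact pow_pos hp.pos f) hpq
    exact hp.two_le.trans h1
  have hq1 : 1 ≤ q := by omega
  refine concl_of_q hp q f 12 17 ((q ^ 2 - 1) * (q ^ 6 - 1) * (q ^ 8 + q ^ 4 + 1)) 1 hqf ?_ ?_ ?_ ?_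
    (by norm_num)
  · rw [one_mul, hc]
    ring
  · intro h
    exact hp.one_lt.ne' (Nat.dvd_one.mp h)
  · intro h
    rcases (Nat.Prime.dvd_mul hp).mp h with h | h
    · rcases (Nat.Prime.dvd_mul hp).mp h with h | h
      · exact not_dvd_pow_sub_one hp hqf hf (e := 2) (by norm_num) h
      · exact not_dvd_pow_sub_one hp hqf hf (e := 6) (by norm_num) h
    · have h2 : p ∣ q ^ 8 + q ^ 4 :=
        dvd_add (dvd_pow hpq (by norm_num)) (dvd_pow hpq (by norm_num))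
      have h3 : p ∣ 1 := (Nat.dvd_add_right h2).mp h
      exact hp.one_lt.ne' (Nat.dvd_one.mp h3)
  · have h2 : (q ^ 2 - 1) * (q ^ 6 - 1) < q ^ (2 + 6) :=
      mul_lt_pow hq1 (pow_sub_one_lt hq1 2) (pow_sub_one_le q 6)
    have h4 : 16 ≤ q ^ 4 := by
      have := Nat.pow_le_pow_left hq2 4
      norm_num at this
      exact this
    have h8 : q ^ 4 + 1 ≤ q ^ 8 := by
      have e8 : q ^ 8 = q ^ 4 * q ^ 4 := by ring
      rw [e8]
      nlinarith
    have h9 : q ^ 8 + q ^ 4 + 1 ≤ q ^ 9 := by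
      have e9 : q ^ 9 = q * q ^ 8 := by ring
      rw [e9]
      nlinarith
    exact mul_lt_pow hq1 h2 h9

theorem concl_td4 {p : ℕ} (hp : p.Prime) (K : Type) [Field K] [Fintype K] [CharP K p] (q : ℕ)
    (hq : IsPrimePow q) (hK : Fintype.card K = q ^ 3) : Concl p ↥(Lie.twistedD4 K q) :=
  h60_concl_td4_core hp K q hq hK (Cfsg.Agent.S1067.result hq hK)

end Cfsg.Agent.Helper60.O3K
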