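import Mathlib
import Cfsg.Agent.Lib.Helper18.O3K1
import Cfsg.Agent.S1066

/-!
# S2363 server piece (TE6) (helper60, server helper18)
-/

set_option autoImplicit false

namespace Cfsg.Agent.Helper60.O3K

open Cfsg Cfsg.Agent.Helper18.O3K

/-- a prime power `q` with `card K = q ^ e` is a power of the characteristic -/
theorem h60_q_pow_te6 {p : ℕ} (hp : p.Prime) (K : Type) [Field K] [Fintype K] [CharP K p] (q e : ℕ)
    (he : 1 ≤ e) (hq : IsPrimePow q) (hK : Fintype.card K = q ^ e) : ∃ f, 1 ≤ f ∧ q = p ^ f := by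
  obtain ⟨n, hn, hcard⟩ := card_eq_pow hp K
  obtain ⟨r, k, hr, hk, rfl⟩ := (isPrimePow_nat_iff q).1 hq
  have h1 : r ∣ p ^ n := by
    rw [← hcard, hK]
    exact dvd_pow (dvd_pow_self r hk.ne') (by omega)
  have hrp : r = p := (Nat.prime_dvd_prime_iff_eq hr hp).mp (hr.dvd_of_dvd_pow h1)
  exact ⟨k, hk, by rw [hrp]⟩


theorem h60_concl_te6_core {p : ℕ} (hp : p.Prime) (K : Type) [Field K] [Fintype K] [CharP K p] (q : ℕ)
    (hq : IsPrimePow q) (hK : Fintype.card K = q ^ 2)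
    (hc : Nat.gcd 3 (q + 1) * Nat.card ↥(Lie.twistedE6 K q) =
      q ^ 36 * (q ^ 2 - 1) * (q ^ 5 + 1) * (q ^ 6 - 1) * (q ^ 8 - 1) * (q ^ 9 + 1) * (q ^ 12 - 1)) :
    Concl p ↥(Lie.twistedE6 K q) := by
  obtain ⟨f, hf, hqf⟩ := h60_q_pow_te6 hp K q 2 (by norm_num) hq hK
  have hpq : p ∣ q := by
    rw [hqf]
    exact dvd_pow_self p (by omega)
  have hq2 : 2 ≤ q := by
    have h1 : p ≤ q := Nat.le_of_dvd (by rw [hqf]; exact pow_pos hp.pos f) hpq
    exact hp.two_le.trans h1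
  have hq1 : 1 ≤ q := by omega
  refine concl_of_q hp q f 36 44 ((q ^ 2 - 1) * (q ^ 5 + 1) * (q ^ 6 - 1) * (q ^ 8 - 1) *
    (q ^ 9 + 1) * (q ^ 12 - 1)) (Nat.gcd 3 (q + 1)) hqf ?_ ?_ ?_ ?_ (by norm_num)
  · rw [hc]
    ring
  · intro h
    have h1 : p ∣ q + 1 := h.trans (Nat.gcd_dvd_right 3 (q + 1))
    have h2 := not_dvd_pow_add_one hp hqf hf (e := 1) (by norm_num)
    rw [pow_one] at h2
    exact h2 h1
  · intro h
    rcases (Nat.Prime.dvd_mul hp).mp h with h | h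
    · rcases (Nat.Prime.dvd_mul hp).mp h with h | h
      · rcases (Nat.Prime.dvd_mul hp).mp h with h | h
        · rcases (Nat.Prime.dvd_mul hp).mp h with h | h
          · rcases (Nat.Prime.dvd_mul hp).mp h with h | h
            · exact not_dvd_pow_sub_one hp hqf hf (e := 2) (by norm_num) h
            · exact not_dvd_pow_add_one hp hqf hf (e := 5) (by norm_num) h
          · exact not_dvd_pow_sub_one hp hqf hf (e := 6) (by norm_num) h
        · exact not_dvd_pow_sub_one hp hqf hf (e := 8) (by norm_num) h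
      · exact not_dvd_pow_add_one hp hqf hf (e := 9) (by norm_num) h
    · exact not_dvd_pow_sub_one hp hqf hf (e := 12) (by norm_num) h
  · have h2 : (q ^ 2 - 1) * (q ^ 5 + 1) < q ^ (2 + (5 + 1)) :=
      mul_lt_pow hq1 (pow_sub_one_lt hq1 2) (pow_add_one_le hq2 5)
    have h3 := mul_lt_pow hq1 h2 (pow_sub_one_le q 6)
    have h4 := mul_lt_pow hq1 h3 (pow_sub_one_le q 8)
    have h5 := mul_lt_pow hq1 h4 (pow_add_one_le hq2 9)
    exact mul_lt_pow hq1 h5 (pow_sub_one_le q 12)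

theorem concl_te6 {p : ℕ} (hp : p.Prime) (K : Type) [Field K] [Fintype K] [CharP K p] (q : ℕ)
    (hq : IsPrimePow q) (hK : Fintype.card K = q ^ 2) : Concl p ↥(Lie.twistedE6 K q) :=
  h60_concl_te6_core hp K q hq hK (Cfsg.Agent.S1066.result hq hK)

end Cfsg.Agent.Helper60.O3K
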