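import Mathlib
import Cfsg.Agent.S1017

/-!
# O5760X (A6) `a_central` (helper60, for helper50's O5760X server, S0980)
-/

set_option autoImplicit false
set_option linter.style.haveILetI false
set_option linter.unusedVariables false
set_option linter.unusedSectionVars false

namespace Cfsg.Agent.Helper60.O5760X

open Cfsg MulAction
open scoped ComplexConjugate

universe u

section GT

variable {G : Type u} [Group G] [Finite G] [IsSimpleGroup G]

/-- (A6) -/
theorem a_central (hG : Nat.card G = 5760) :
    ∃ z : G, orderOf z = 2 ∧ 128 ∣ Nat.card (Subgroup.centralizer ({z} : Set G)) := by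
  classical
  haveI : Fact (Nat.Prime 2) := ⟨Nat.prime_two⟩
  obtain ⟨S⟩ : Nonempty (Sylow 2 G) := inferInstance
  have hS : Nat.card (S : Subgroup G) = 2 ^ 7 :=
    Cfsg.Agent.S1017.sylow_card_eq S 7 45 (by rw [hG]; norm_num) (by norm_num)
  have hSp : IsPGroup 2 ↥(S : Subgroup G) := S.isPGroup'
  haveI : Nontrivial ↥(S : Subgroup G) := by
    rw [← Finite.one_lt_card_iff_nontrivial, hS]; norm_num
  haveI hZnt : Nontrivial ↥(Subgroup.center ↥(S : Subgroup G)) := hSp.center_nontrivial
  have hZp : IsPGroup 2 ↥(Subgroup.center ↥(S : Subgroup G)) := hSp.to_subgroup _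
  have h2 : 2 ∣ Nat.card ↥(Subgroup.center ↥(S : Subgroup G)) := by
    rcases hZp.card_eq_or_dvd with h | h
    · exfalso
      have := Finite.one_lt_card_iff_nontrivial.mpr hZnt
      omega
    · exact h
  obtain ⟨z₀, hz₀⟩ := exists_prime_orderOf_dvd_card' 2 h2
  refine ⟨((z₀ : ↥(S : Subgroup G)) : G), ?_, ?_⟩
  · rw [Subgroup.orderOf_coe, Subgroup.orderOf_coe]
    exact hz₀
  · have hle : (S : Subgroup G) ≤
        Subgroup.centralizer ({((z₀ : ↥(S : Subgroup G)) : G)} : Set G) := by
      intro s hs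
      rw [Subgroup.mem_centralizer_singleton_iff]
      have h1 : (⟨s, hs⟩ : ↥(S : Subgroup G)) * (z₀ : ↥(S : Subgroup G)) =
          (z₀ : ↥(S : Subgroup G)) * ⟨s, hs⟩ := Subgroup.mem_center_iff.mp z₀.2 ⟨s, hs⟩
      exact congrArg Subtype.val h1
    have := Subgroup.card_dvd_of_le hle
    rw [hS] at this
    norm_num at this
    exact this

end GT

end Cfsg.Agent.Helper60.O5760X
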