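import Mathlib

/-!
# O5760X (A7) `a_bound` (helper60, for helper50's O5760X server, S0980)
-/

set_option autoImplicit false
set_option linter.unusedVariables false

namespace Cfsg.Agent.Helper60.O5760X

universe u

/-- (A7) `(d - b)^2 ≤ 4 d^2`, so `T^2 x ≤ 4608 d ≤ 4608 (x + 1)`, `T^2 ≤ 6912 < 128^2`. -/
theorem a_bound (x d : ℕ) (hx : 1 < x) (hd : 0 < d) (hxd : x = d + 1 ∨ d = x + 1) (b : ℤ)
    (hb : |b| ≤ (d : ℤ)) (T : ℕ)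
    (h : (5 * (T : ℚ) ^ 2) * (x : ℚ) * (d : ℚ) = 5760 * ((d : ℚ) - (b : ℚ)) ^ 2) : T < 128 := by
  by_contra hcon
  push Not at hcon
  have hT : (128 : ℚ) ≤ (T : ℚ) := by exact_mod_cast hcon
  have hx2 : (2 : ℚ) ≤ (x : ℚ) := by exact_mod_cast hx
  have hd1 : (1 : ℚ) ≤ (d : ℚ) := by exact_mod_cast hd
  have hdx : (d : ℚ) ≤ (x : ℚ) + 1 := by
    rcases hxd with h1 | h1
    · have : (x : ℚ) = (d : ℚ) + 1 := by exact_mod_cast h1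
      linarith
    · have : (d : ℚ) = (x : ℚ) + 1 := by exact_mod_cast h1
      linarith
  have hb' := abs_le.mp hb
  have hb1 : -(d : ℚ) ≤ (b : ℚ) := by exact_mod_cast hb'.1
  have hb2 : (b : ℚ) ≤ (d : ℚ) := by exact_mod_cast hb'.2
  have h1 : ((d : ℚ) - (b : ℚ)) ^ 2 ≤ 4 * (d : ℚ) ^ 2 := by
    nlinarith [mul_nonneg (show (0 : ℚ) ≤ (d : ℚ) + (b : ℚ) by linarith)
      (show (0 : ℚ) ≤ 3 * (d : ℚ) - (b : ℚ) by linarith)]
  have hT2 : (16384 : ℚ) ≤ (T : ℚ) ^ 2 := by nlinarith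
  have hxd0 : (0 : ℚ) ≤ (x : ℚ) * (d : ℚ) := by positivity
  have h2 : 5 * 16384 * ((x : ℚ) * (d : ℚ)) ≤ 5760 * (4 * (d : ℚ) ^ 2) := by
    calc 5 * 16384 * ((x : ℚ) * (d : ℚ)) ≤ 5 * (T : ℚ) ^ 2 * ((x : ℚ) * (d : ℚ)) := by
          apply mul_le_mul_of_nonneg_right _ hxd0
          linarith
      _ = (5 * (T : ℚ) ^ 2) * (x : ℚ) * (d : ℚ) := by ring
      _ = 5760 * ((d : ℚ) - (b : ℚ)) ^ 2 := h
      _ ≤ 5760 * (4 * (d : ℚ) ^ 2) := by linarith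
  have h3 : 81920 * (x : ℚ) ≤ 23040 * (d : ℚ) := by
    have hd0 : (0 : ℚ) < (d : ℚ) := by linarith
    have : (81920 * (x : ℚ)) * (d : ℚ) ≤ (23040 * (d : ℚ)) * (d : ℚ) := by nlinarith
    exact le_of_mul_le_mul_right this hd0
  linarith

end Cfsg.Agent.Helper60.O5760X
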