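import Mathlib
import Cfsg.Agent.S1017
import Cfsg.Agent.S0111
import Cfsg.Agent.Lib.Helper17.Simple
import Cfsg.Agent.Lib.Helper17.Sieve
import Cfsg.Agent.Lib.Helper17.SylowInter
import Cfsg.Agent.Lib.Helper17.SylowInter2
import Cfsg.Agent.Lib.Helper17.Orbits
import Cfsg.Agent.Lib.Helper17.EmbedNormalizer
import Cfsg.Agent.Lib.Helper75.FixKill

/-!
# O6232 (N5400): no simple group of order `5400 = 2^3 * 3^3 * 5^2` (helper17's server, S0983)

`n_5 = 36`, `|N(P)| = 150`.  For Sylow 5-subgroups `P ≠ R` with `F = P ∩ R ≠ 1` the group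
`M = N_G(F)` contains `P, R`, has index `≥ 10`, so `|M| ∈ {150, 300, 450}` with `6` Sylow 5-subgroups;
`450 = 2 * 225` is impossible (Thompson transfer gives a normal subgroup of order `225`, which has a
normal Sylow 5-subgroup).  Hence `3 ∤ |N(P) ∩ N(F)|`.  An element `y` of order `3` of `N(P)` therefore acts
without fixed points on `A = {R ≠ P : P ∩ R ≠ 1}`, so `3 ∣ |A|`; but `P` acts semiregularly on
`{R : P ∩ R = 1}`, so `|A| = 35 - 25 j ∈ {10, 35}`.
-/

set_option autoImplicit false
set_option linter.deprecated false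

namespace Cfsg.Agent.Helper60.O6232

universe u

open MulAction Cfsg.Agent.Helper17 Cfsg.Agent.Helper17.Sieve

section Generic

variable {G : Type u} [Group G] [Finite G]

/-- the number of Sylow `p`-subgroups of `G` inside a subgroup `H ≥ P` is `1` mod `p` -/
theorem h60_card_sylow_le_mod (p : ℕ) [Fact p.Prime] (P : Sylow p G)
    (H : Subgroup G) (hPH : (P : Subgroup G) ≤ H) :
    Nat.card {Q : Sylow p G // (Q : Subgroup G) ≤ H} ≡ 1 [MOD p] := by
  classical
  let X : SubMulAction (P : Subgroup G) (Sylow p G) :=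
    { carrier := {Q | (Q : Subgroup G) ≤ H}
      smul_mem' := by
        rintro ⟨g, hg⟩ Q hQ
        show ((⟨g, hg⟩ : (P : Subgroup G)) • Q : Sylow p G).1 ≤ H
        intro x hx
        have hx' : x ∈ (g • Q : Sylow p G).1 := hx
        rw [Sylow.coe_subgroup_smul] at hx'
        obtain ⟨s, hs, rfl⟩ := (Subgroup.mem_smul_pointwise_iff_exists _ _ _).mp hx'
        have h1 : s ∈ H := hQ hs
        have hgH : g ∈ H := hPH hg
        have h3 : MulAut.conj g • s = g * s * g⁻¹ := rfl
        rw [h3]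
        exact H.mul_mem (H.mul_mem hgH h1) (H.inv_mem hgH) }
  have hmod := P.2.card_modEq_card_fixedPoints ↥X
  have e1 : Nat.card ↥X = Nat.card {Q : Sylow p G // (Q : Subgroup G) ≤ H} := rfl
  have hfix : ∀ x : ↥X, x ∈ fixedPoints (P : Subgroup G) ↥X ↔ x = ⟨P, hPH⟩ := by
    intro x
    constructor
    · intro hx
      have h1 : (x : Sylow p G) ∈ fixedPoints (P : Subgroup G) (Sylow p G) := by
        intro g
        have := hx g
        exact congrArg (fun t : ↥X => (t : Sylow p G)) this
      have h2 : (P : Subgroup G) ≤ (x : Sylow p G) := P.2.sylow_mem_fixedPoints_iff.mp h1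
      have h3 : ((x : Sylow p G) : Subgroup G) = P := P.3 (x : Sylow p G).2 h2
      apply Subtype.ext
      exact Sylow.ext h3
    · rintro rfl g
      apply Subtype.ext
      show g • P = P
      have : P ∈ fixedPoints (P : Subgroup G) (Sylow p G) :=
        P.2.sylow_mem_fixedPoints_iff.mpr le_rfl
      exact this g
  have e2 : Nat.card (fixedPoints (P : Subgroup G) ↥X) = 1 := by
    rw [Nat.card_eq_one_iff_unique]
    refine ⟨⟨?_⟩, ⟨⟨⟨P, hPH⟩, (hfix _).2 rfl⟩⟩⟩
    rintro ⟨a, ha⟩ ⟨b, hb⟩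
    apply Subtype.ext
    exact ((hfix a).1 ha).trans ((hfix b).1 hb).symm
  rw [e1, e2] at hmod
  exact hmod

/-- counting a subgroup that contains two different Sylow 5-subgroups of order 25 -/
theorem h60_cnt (H : Subgroup G) (P R : Sylow 5 G) [Fact (Nat.Prime 5)]
    (hP25 : Nat.card (P : Subgroup G) = 25)
    (hP : (P : Subgroup G) ≤ H) (hR : (R : Subgroup G) ≤ H) (hne : P ≠ R) :
    ∃ s b : ℕ, Nat.card H = s * (25 * b) ∧ s % 5 = 1 ∧ 2 ≤ s ∧
      Nat.card ↥(Subgroup.normalizer ((P : Subgroup G) : Set G) ⊓ H) = 25 * b := by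
  have h1 := Cfsg.Agent.S1017.card_eq_card_mul H P hP
  have h2 := h60_card_sylow_le_mod 5 P H hP
  have h3 : (P : Subgroup G) ≤ Subgroup.normalizer ((P : Subgroup G) : Set G) ⊓ H :=
    le_inf Subgroup.le_normalizer hP
  have h4 : 25 ∣ Nat.card ↥(Subgroup.normalizer ((P : Subgroup G) : Set G) ⊓ H) := by
    rw [← hP25]
    exact Subgroup.card_dvd_of_le h3
  obtain ⟨b, hb⟩ := h4
  refine ⟨Nat.card {Q : Sylow 5 G // (Q : Subgroup G) ≤ H}, b, ?_, ?_, ?_, hb⟩
  · rw [h1, hb]
  · have := h2
    unfold Nat.ModEq at this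
    omega
  · have hnt : Nontrivial {Q : Sylow 5 G // (Q : Subgroup G) ≤ H} :=
      ⟨⟨⟨P, hP⟩, ⟨R, hR⟩, fun h => hne (congrArg Subtype.val h)⟩⟩
    have := (Finite.one_lt_card_iff_nontrivial).2 hnt
    omega

/-- a subgroup of order `450` cannot contain two different Sylow 5-subgroups of order `25` -/
theorem h60_no450 (H : Subgroup G) (P R : Sylow 5 G) [Fact (Nat.Prime 5)]
    (hP25 : Nat.card (P : Subgroup G) = 25) (hR25 : Nat.card (R : Subgroup G) = 25)
    (hH : Nat.card H = 450)
    (hP : (P : Subgroup G) ≤ H) (hR : (R : Subgroup G) ≤ H) (hne : P ≠ R) : False := by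
  have : Fact (Nat.Prime 2) := ⟨Nat.prime_two⟩
  obtain ⟨P2⟩ : Nonempty (Sylow 2 ↥H) := inferInstance
  have hP2 : Nat.card (P2 : Subgroup ↥H) = 2 ^ 1 :=
    sylow_card_eq P2 (k := 1) (m := 225) (by rw [hH]; norm_num) (by norm_num)
  rw [pow_one] at hP2
  obtain ⟨u, hu⟩ := exists_prime_orderOf_dvd_card' (G := ↥(P2 : Subgroup ↥H)) 2
    (by rw [hP2])
  have hu' : orderOf (u : ↥H) = 2 := by rw [Subgroup.orderOf_coe]; exact hu
  have hu1 : (u : ↥H) ≠ 1 := by
    intro h
    rw [h, orderOf_one] at hu'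
    omega
  have hres := Cfsg.Agent.S0111.result P2 ⊥ bot_le
    (by rw [Subgroup.relIndex_bot_left, hP2]) (u : ↥H) hu' u.2
    (by rw [Subgroup.mem_bot]; exact hu1)
  rcases hres with ⟨M0, hM0n, hM0i, -⟩ | ⟨g, hg⟩
  · -- the normal subgroup of index 2
    have hM0c : Nat.card M0 = 225 := by
      have := M0.card_mul_index
      rw [hM0i, hH] at this
      omega
    have hmapc : Nat.card ↥(M0.map H.subtype) = 225 := by
      rw [Subgroup.card_map_of_injective H.subtype_injective, hM0c]
    have hle : ∀ Q : Sylow 5 G, Nat.card (Q : Subgroup G) = 25 → (Q : Subgroup G) ≤ H →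
        (Q : Subgroup G) ≤ M0.map H.subtype := by
      intro Q hQ25 hQH x hx
      have hx25 : x ^ 25 = 1 := by
        have h := pow_card_eq_one' (G := ↥(Q : Subgroup G)) (x := ⟨x, hx⟩)
        rw [hQ25] at h
        exact congrArg Subtype.val h
      have hsq := Subgroup.sq_mem_of_index_two hM0i ((⟨x, hQH hx⟩ : ↥H) ^ 13)
      refine ⟨((⟨x, hQH hx⟩ : ↥H) ^ 13) ^ 2, hsq, ?_⟩
      show ((((⟨x, hQH hx⟩ : ↥H) ^ 13) ^ 2 : ↥H) : G) = x
      rw [Subgroup.coe_pow, Subgroup.coe_pow]
      show (x ^ 13) ^ 2 = x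
      calc (x ^ 13) ^ 2 = x ^ 25 * x := by rw [← pow_mul, ← pow_succ]
        _ = x := by rw [hx25, one_mul]
    obtain ⟨s, b, h1, h2, h3, -⟩ := h60_cnt (M0.map H.subtype) P R hP25
      (hle P hP25 hP) (hle R hR25 hR) hne
    rw [hmapc] at h1
    have hb0 : 0 < b := by
      rcases Nat.eq_zero_or_pos b with h | h
      · rw [h] at h1; omega
      · exact h
    have hs25 : s * 25 ≤ s * (25 * b) := Nat.mul_le_mul_left s (by omega)
    have hb25 : 2 * (25 * b) ≤ s * (25 * b) := Nat.mul_le_mul_right (25 * b) h3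
    have hs : s ≤ 9 := by omega
    have hb : b ≤ 9 := by omega
    interval_cases s <;> interval_cases b <;> omega
  · rw [Subgroup.mem_bot] at hg
    apply hu1
    calc (u : ↥H) = g⁻¹ * (g * u * g⁻¹) * g := by group
      _ = 1 := by rw [hg]; group

end Generic

section Simple

variable {G : Type u} [Group G] [Finite G] [IsSimpleGroup G]

/-- every proper subgroup has order at most `540` (index at least `10`) -/
theorem h60_card_le (hG : Nat.card G = 5400) (hna : ¬ IsMulCommutative G) (H : Subgroup G)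
    (hH : H ≠ ⊤) : Nat.card H ≤ 540 := by
  have h1 := two_mul_card_dvd_factorial hna H hH
  have h2 := H.card_mul_index
  rw [hG] at h1 h2
  have h0 : H.index ≠ 0 := Subgroup.index_ne_zero_of_finite
  by_contra hcon
  push Not at hcon
  have hi : H.index < 10 := by
    by_contra h10
    push Not at h10
    have : Nat.card H * 10 ≤ Nat.card H * H.index := Nat.mul_le_mul_left _ h10
    omega
  interval_cases hidx : H.index <;> simp_all (config := {decide := true})

/-- (K) if `P ≠ R` meet nontrivially then `3 ∤ |N(P) ∩ N(P ∩ R)|` -/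
theorem h60_key (hG : Nat.card G = 5400) (hna : ¬ IsMulCommutative G) [Fact (Nat.Prime 5)]
    (P R : Sylow 5 G) (hne : P ≠ R) (hF : (P : Subgroup G) ⊓ (R : Subgroup G) ≠ ⊥) :
    ¬ 3 ∣ Nat.card ↥(Subgroup.normalizer ((P : Subgroup G) : Set G) ⊓
        Subgroup.normalizer (((P : Subgroup G) ⊓ (R : Subgroup G) : Subgroup G) : Set G)) := by
  have hP25 : Nat.card (P : Subgroup G) = 25 := by
    have := sylow_card_eq P (k := 2) (m := 216) (by rw [hG]; norm_num) (by norm_num)
    simpa using this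
  have hR25 : Nat.card (R : Subgroup G) = 25 := by
    have := sylow_card_eq R (k := 2) (m := 216) (by rw [hG]; norm_num) (by norm_num)
    simpa using this
  have hPc : ∀ a ∈ (P : Subgroup G), ∀ b ∈ (P : Subgroup G), a * b = b * a := by
    intro a ha b hb
    have := IsPGroup.commutative_of_card_eq_prime_sq (p := 5) (G := ↥(P : Subgroup G))
      (by rw [hP25]; norm_num) ⟨a, ha⟩ ⟨b, hb⟩
    exact congrArg Subtype.val this
  have hRc : ∀ a ∈ (R : Subgroup G), ∀ b ∈ (R : Subgroup G), a * b = b * a := by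
    intro a ha b hb
    have := IsPGroup.commutative_of_card_eq_prime_sq (p := 5) (G := ↥(R : Subgroup G))
      (by rw [hR25]; norm_num) ⟨a, ha⟩ ⟨b, hb⟩
    exact congrArg Subtype.val this
  have hPM : (P : Subgroup G) ≤
      Subgroup.normalizer (((P : Subgroup G) ⊓ (R : Subgroup G) : Subgroup G) : Set G) := by
    refine le_trans ?_ (Subgroup.centralizer_le_normalizer _)
    intro x hx
    rw [Subgroup.mem_centralizer_iff]
    intro g hg
    exact hPc g hg.1 x hx
  have hRM : (R : Subgroup G) ≤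
      Subgroup.normalizer (((P : Subgroup G) ⊓ (R : Subgroup G) : Subgroup G) : Set G) := by
    refine le_trans ?_ (Subgroup.centralizer_le_normalizer _)
    intro x hx
    rw [Subgroup.mem_centralizer_iff]
    intro g hg
    exact hRc g hg.2 x hx
  have hMtop : Subgroup.normalizer (((P : Subgroup G) ⊓ (R : Subgroup G) : Subgroup G) : Set G) ≠ ⊤ := by
    intro h
    have hn : ((P : Subgroup G) ⊓ (R : Subgroup G)).Normal := Subgroup.normalizer_eq_top_iff.1 h
    apply normal_card_absurd _ hn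
    · intro h1
      exact hF (Subgroup.card_eq_one.1 h1)
    · intro h2
      have : Nat.card ↥((P : Subgroup G) ⊓ (R : Subgroup G)) ≤ 25 := by
        rw [← hP25]; exact Subgroup.card_le_of_le inf_le_left
      omega
  have hle := h60_card_le hG hna _ hMtop
  obtain ⟨s, b, h1, h2, h3, h4⟩ := h60_cnt _ P R hP25 hPM hRM hne
  rw [h4]
  intro h3b
  have hdiv : Nat.card ↥(Subgroup.normalizer
      (((P : Subgroup G) ⊓ (R : Subgroup G) : Subgroup G) : Set G)) ∣ 5400 := by
    rw [← hG]; exact Subgroup.card_subgroup_dvd_card _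
  have h450 : Nat.card ↥(Subgroup.normalizer
      (((P : Subgroup G) ⊓ (R : Subgroup G) : Subgroup G) : Set G)) = 450 := by
    rw [h1] at hle hdiv ⊢
    obtain ⟨c, hc⟩ := hdiv
    have hb0 : 0 < b := by
      rcases Nat.eq_zero_or_pos b with h | h
      · rw [h] at hc; omega
      · exact h
    have hs25 : s * 25 ≤ s * (25 * b) := Nat.mul_le_mul_left s (by omega)
    have hb25 : 2 * (25 * b) ≤ s * (25 * b) := Nat.mul_le_mul_right (25 * b) h3
    have hs : s ≤ 21 := by omega
    have hb : b ≤ 10 := by omega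
    interval_cases s <;> omega
  exact h60_no450 _ P R hP25 hR25 h450 hPM hRM hne

/-- the admissible Sylow 5 numbers -/
theorem h60_adm : ∀ d ∈ List.range (216 + 1), d ∣ 216 → d % 5 = 1 →
    ¬ Bad (5 ^ 2 * 216) 5 2 216 d → d = 36 := by
  decide +kernel

omit [IsSimpleGroup G] in
/-- (O1) `P` acts semiregularly on the Sylow 5-subgroups meeting it trivially -/
theorem h60_orbits [Fact (Nat.Prime 5)] (P : Sylow 5 G) (hP25 : Nat.card (P : Subgroup G) = 25) :
    Nat.card {R : Sylow 5 G // R = P ∨ (P : Subgroup G) ⊓ (R : Subgroup G) = ⊥} ≡ 1 [MOD 25] := by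
  classical
  let X : SubMulAction (P : Subgroup G) (Sylow 5 G) :=
    { carrier := {R | R = P ∨ (P : Subgroup G) ⊓ (R : Subgroup G) = ⊥}
      smul_mem' := by
        rintro ⟨g, hg⟩ R hR
        rcases hR with rfl | hR
        · left
          show g • R = R
          rw [Sylow.smul_eq_iff_mem_normalizer]
          exact Subgroup.le_normalizer hg
        · right
          show (P : Subgroup G) ⊓ ((g • R : Sylow 5 G) : Subgroup G) = ⊥
          rw [eq_bot_iff]
          rintro x ⟨hxP, hxR⟩
          rw [Subgroup.mem_bot]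
          have hxR' : x ∈ ((g • R : Sylow 5 G) : Subgroup G) := hxR
          rw [Sylow.coe_subgroup_smul] at hxR'
          obtain ⟨r, hr, rfl⟩ := (Subgroup.mem_smul_pointwise_iff_exists _ _ _).mp hxR'
          have h3 : MulAut.conj g • r = g * r * g⁻¹ := rfl
          rw [h3] at hxP ⊢
          have hrP : r ∈ (P : Subgroup G) := by
            have := (P : Subgroup G).mul_mem ((P : Subgroup G).mul_mem ((P : Subgroup G).inv_mem hg) hxP) hg
            have e : g⁻¹ * (g * r * g⁻¹) * g = r := by group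
            rwa [e] at this
          have hr1 : r ∈ (P : Subgroup G) ⊓ (R : Subgroup G) := ⟨hrP, hr⟩
          rw [hR, Subgroup.mem_bot] at hr1
          rw [hr1]; group }
  have e1 : Nat.card ↥X =
      Nat.card {R : Sylow 5 G // R = P ∨ (P : Subgroup G) ⊓ (R : Subgroup G) = ⊥} := rfl
  rw [← e1]
  apply card_modEq_one_of_stabilizer_index (H := ↥(P : Subgroup G)) 25 (⟨P, Or.inl rfl⟩ : ↥X)
  · rintro ⟨g, hg⟩
    apply Subtype.ext
    show g • P = P
    rw [Sylow.smul_eq_iff_mem_normalizer]
    exact Subgroup.le_normalizer hg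
  · rintro ⟨R, hR⟩ hne
    rw [SubMulAction.stabilizer_of_subMul]
    show 25 ∣ (stabilizer (↥(P : Subgroup G)) R).index
    rw [sylow_stabilizer_eq]
    have hRP : (P : Subgroup G) ⊓ (R : Subgroup G) = ⊥ := by
      rcases hR with rfl | hR
      · exact absurd rfl hne
      · exact hR
    have h := card_inf_mul_relIndex (R : Subgroup G) (P : Subgroup G)
    rw [inf_comm, hRP, Subgroup.card_bot, one_mul, hP25] at h
    show 25 ∣ (R : Subgroup G).relIndex (P : Subgroup G)
    rw [h]

/-- (N5400) -/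
theorem no_5400 {G : Type u} [Group G] [Finite G] [IsSimpleGroup G] : Nat.card G ≠ 5400 := by
  classical
  intro hG
  have hna : ¬ IsMulCommutative G := not_comm_of_not_prime (by rw [hG]; norm_num)
  have : Fact (Nat.Prime 5) := ⟨by norm_num⟩
  have hG' : Nat.card G = 5 ^ 2 * 216 := by rw [hG]; norm_num
  have hnb := Cfsg.Agent.Helper75.FixKill.not_bad hna 5 2 216 (by norm_num) (by norm_num) hG'
    (by norm_num)
  obtain ⟨hd1, hd2⟩ := sylow_count (G := G) hG' (by norm_num)
  have h36 : Nat.card (Sylow 5 G) = 36 := by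
    apply h60_adm _ _ hd1 hd2 hnb
    rw [List.mem_range]
    have := Nat.le_of_dvd (by norm_num) hd1
    omega
  obtain ⟨P⟩ : Nonempty (Sylow 5 G) := inferInstance
  have hP25 : Nat.card (P : Subgroup G) = 25 := by
    have := sylow_card_eq P (k := 2) (m := 216) hG' (by norm_num)
    simpa using this
  have hN := card_normalizer_mul_sylow_count P
  rw [h36, hG] at hN
  have hN150 : Nat.card ↥(Subgroup.normalizer ((P : Subgroup G) : Set G)) = 150 := by omega
  have : Fact (Nat.Prime 3) := ⟨Nat.prime_three⟩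
  obtain ⟨y, hy⟩ := exists_prime_orderOf_dvd_card'
    (G := ↥(Subgroup.normalizer ((P : Subgroup G) : Set G))) 3 (by rw [hN150]; norm_num)
  have hy3 : orderOf (y : G) = 3 := by rw [Subgroup.orderOf_coe]; exact hy
  have hyP : (y : G) • P = P := Sylow.smul_eq_iff_mem_normalizer.2 y.2
  have hy3' : (y : G) ^ 3 = 1 := by rw [← hy3]; exact pow_orderOf_eq_one _
  -- the set `A`
  haveI : Fintype (Sylow 5 G) := Fintype.ofFinite _
  let pX : Sylow 5 G → Prop := fun R => R = P ∨ (P : Subgroup G) ⊓ (R : Subgroup G) = ⊥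
  have hmem : ∀ R : {R : Sylow 5 G // ¬ pX R}, ¬ pX ((y : G) • R.1) := by
    rintro ⟨R, hR⟩ hcon
    apply hR
    rcases hcon with h | h
    · left
      have : (y : G) • R = (y : G) • P := by rw [h, hyP]
      exact smul_left_cancel _ this
    · right
      rw [eq_bot_iff]
      rintro x ⟨hxP, hxR⟩
      rw [Subgroup.mem_bot]
      have h1 : (y : G) * x * (y : G)⁻¹ ∈ (P : Subgroup G) :=
        (Subgroup.mem_normalizer_iff.1 y.2 x).1 hxP
      have h2 : (y : G) * x * (y : G)⁻¹ ∈ (((y : G) • R : Sylow 5 G) : Subgroup G) := by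
        rw [Sylow.coe_subgroup_smul]
        exact (Subgroup.mem_smul_pointwise_iff_exists _ _ _).mpr ⟨x, hxR, rfl⟩
      have h3 : (y : G) * x * (y : G)⁻¹ ∈
          (P : Subgroup G) ⊓ (((y : G) • R : Sylow 5 G) : Subgroup G) := ⟨h1, h2⟩
      rw [h, Subgroup.mem_bot] at h3
      calc x = (y : G)⁻¹ * ((y : G) * x * (y : G)⁻¹) * (y : G) := by group
        _ = 1 := by rw [h3]; group
  let f : Function.End {R : Sylow 5 G // ¬ pX R} := fun R => ⟨(y : G) • R.1, hmem R⟩
  have hf : f ^ 3 ^ 1 = 1 := by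
    rw [pow_one, pow_succ, pow_two]
    funext R
    apply Subtype.ext
    show (y : G) • ((y : G) • ((y : G) • R.1)) = R.1
    rw [smul_smul, smul_smul, ← pow_two, ← pow_succ, hy3', one_smul]
  have hmod := Equiv.Perm.card_fixedPoints_modEq (p := 3) (n := 1) hf
  have hfix : Fintype.card (Function.fixedPoints f) = 0 := by
    rw [Fintype.card_eq_zero_iff]
    refine ⟨?_⟩
    rintro ⟨⟨R, hR⟩, hfx⟩
    have hyR : (y : G) • R = R := congrArg Subtype.val hfx
    have hyNR : (y : G) ∈ Subgroup.normalizer ((R : Subgroup G) : Set G) :=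
      Sylow.smul_eq_iff_mem_normalizer.1 hyR
    have hPR : P ≠ R := fun h => hR (Or.inl h.symm)
    have hF : (P : Subgroup G) ⊓ (R : Subgroup G) ≠ ⊥ := fun h => hR (Or.inr h)
    apply h60_key hG hna P R hPR hF
    have hyM : (y : G) ∈ Subgroup.normalizer ((P : Subgroup G) : Set G) ⊓
        Subgroup.normalizer (((P : Subgroup G) ⊓ (R : Subgroup G) : Subgroup G) : Set G) := by
      have hyF : (y : G) ∈ Subgroup.normalizer
          (((P : Subgroup G) ⊓ (R : Subgroup G) : Subgroup G) : Set G) := by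
        rw [Subgroup.mem_normalizer_iff]
        intro h
        rw [Subgroup.mem_inf, Subgroup.mem_inf, ← Subgroup.mem_normalizer_iff.1 y.2 h,
          ← Subgroup.mem_normalizer_iff.1 hyNR h]
      exact ⟨y.2, hyF⟩
    have := orderOf_dvd_natCard (⟨(y : G), hyM⟩ : ↥(Subgroup.normalizer ((P : Subgroup G) : Set G) ⊓
        Subgroup.normalizer (((P : Subgroup G) ⊓ (R : Subgroup G) : Subgroup G) : Set G)))
    rwa [← Subgroup.orderOf_coe, hy3] at this
  rw [hfix] at hmod
  have hcompl := Fintype.card_subtype_compl pX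
  have hX := h60_orbits P hP25
  rw [Nat.card_eq_fintype_card] at hX h36
  have hXle : Fintype.card {R : Sylow 5 G // pX R} ≤ Fintype.card (Sylow 5 G) :=
    Fintype.card_subtype_le _
  have hX' : Fintype.card {R : Sylow 5 G // pX R} ≡ 1 [MOD 25] := by
    convert hX using 2
  unfold Nat.ModEq at hmod hX'
  omega

end Simple

end Cfsg.Agent.Helper60.O6232
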