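import Mathlib
import Cfsg.Agent.Lib.Helper28.TC

/-!
# ONS server piece (D) `center_le_subH`, for helper37 (S1699)
-/

set_option autoImplicit false
set_option linter.unusedVariables false

namespace Cfsg.Agent.Helper60.ONS
universe u

open Cfsg.Agent.Helper28 in
/-- (D) -/
theorem center_le_subH {α Ω : Type} (rels : Set (FreeGroup α)) (S : Set (FreeGroup α))
    (fwd inv : α → Ω → Ω) (o : Ω)
    (hfi : ∀ x p, inv x (fwd x p) = p) (hif : ∀ x p, fwd x (inv x p) = p)
    (hrel : ∀ r ∈ rels, FreeGroup.lift (permOf fwd inv hfi hif) r = 1)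
    (hS : ∀ s ∈ S, FreeGroup.lift (permOf fwd inv hfi hif) s o = o)
    (rep : Ω → Word α) (hrep0 : rep o = [])
    (hrep : ∀ p, act fwd inv (rep p) o = p)
    (hE : ∀ x p, (PresentedGroup.mk rels (FreeGroup.mk (rep (fwd x p))))⁻¹ *
      (PresentedGroup.of x * PresentedGroup.mk rels (FreeGroup.mk (rep p))) ∈ subH rels S)
    (hfix : ∀ p, (∀ s ∈ S, FreeGroup.lift (permOf fwd inv hfi hif) s p = p) → p = o) :
    Subgroup.center (PresentedGroup rels) ≤ subH rels S := by
  intro z hz
  have hzc : ∀ g, g * z = z * g := fun g => Subgroup.mem_center_iff.mp hz g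
  have hp : phi rels fwd inv hfi hif hrel z o = o := by
    apply hfix
    intro s hs
    rw [← phi_mk rels fwd inv hfi hif hrel s, ← Equiv.Perm.mul_apply, ← map_mul, hzc, map_mul,
      Equiv.Perm.mul_apply]
    congr 1
    rw [phi_mk]
    exact hS s hs
  have h1 : theta rels S fwd inv o hfi hif hrel hS (z : PresentedGroup rels ⧸ subH rels S) =
      theta rels S fwd inv o hfi hif hrel hS
        ((1 : PresentedGroup rels) : PresentedGroup rels ⧸ subH rels S) := by
    rw [theta_mk, theta_mk, map_one, Equiv.Perm.one_apply]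
    exact hp
  have h2 : (z : PresentedGroup rels ⧸ subH rels S) =
      ((1 : PresentedGroup rels) : PresentedGroup rels ⧸ subH rels S) :=
    (cosetEquiv rels S fwd inv o hfi hif hrel hS rep hrep0 hrep hE).injective
      (show (cosetEquiv rels S fwd inv o hfi hif hrel hS rep hrep0 hrep hE) _ =
        (cosetEquiv rels S fwd inv o hfi hif hrel hS rep hrep0 hrep hE) _ from h1)
  have h3 := QuotientGroup.eq.mp h2.symm
  simpa using h3

end Cfsg.Agent.Helper60.ONS
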