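import Mathlib
import Cfsg.Agent.Lib.Helper60.PRegC

set_option autoImplicit false
set_option linter.style.haveILetI false
set_option linter.unusedVariables false

namespace Cfsg.Agent.Helper60

universe u

open Pointwise

/-- Case (β): no nontrivial normal `p`-subgroup. -/
theorem PC.abC_of_no_normal_p {G : Type u} [Group G] [Finite G] [Group.IsSolvable G] {p : ℕ}
    (hp : p.Prime) (h : PC p G)
    (hβ : ∀ N : Subgroup G, N.Normal → IsPGroup p N → N = ⊥) : AbC p G := by
  classical
  haveI := Fact.mk hp
  -- a normal `p'`-subgroup of maximal order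
  let S := {M : Subgroup G // M.Normal ∧ (Nat.card M).Coprime p}
  haveI : Nonempty S := ⟨⟨⊥, inferInstance, by simp⟩⟩
  obtain ⟨⟨M, hMn, hMp⟩, hMmax⟩ := Finite.exists_max (fun M : S => Nat.card (M : Subgroup G))
  haveI := hMn
  -- `M` centralizes every `p`-regular element
  have hMcent : ∀ x : G, (orderOf x).Coprime p → M ≤ Subgroup.centralizer ({x} : Set G) := by
    intro x hx
    obtain ⟨k, hk⟩ := h x hx
    have h1 := Helper70.relIndex_dvd_index_of_normal_right
      (Subgroup.centralizer ({x} : Set G)) M
    rw [hk] at h1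
    obtain ⟨j, -, hj⟩ := (Nat.dvd_prime_pow hp).mp h1
    have h2 : (Subgroup.centralizer ({x} : Set G)).relIndex M ∣ Nat.card M :=
      Subgroup.index_dvd_card _
    rw [hj] at h2
    have h3 : p ^ j = 1 := Nat.Coprime.eq_one_of_dvd (Nat.Coprime.pow_left j hMp.symm) h2
    rw [h3] at hj
    exact Subgroup.relIndex_eq_one.mp hj
  have hMord : ∀ a ∈ M, (orderOf a).Coprime p := by
    intro a ha
    exact Nat.Coprime.coprime_dvd_left (Subgroup.orderOf_dvd_natCard M ha) hMp
  have hMab : ∀ a ∈ M, ∀ b ∈ M, a * b = b * a := by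
    intro a ha b hb
    have := hMcent a (hMord a ha) hb
    rw [Subgroup.mem_centralizer_iff] at this
    exact this a rfl
  set Cm := Subgroup.centralizer (M : Set G) with hCm
  have hMC : M ≤ Cm := by
    intro a ha
    rw [hCm, Subgroup.mem_centralizer_iff]
    intro b hb
    exact hMab b hb a ha
  have hreg : ∀ x : G, (orderOf x).Coprime p → x ∈ Cm := by
    intro x hx
    rw [hCm, Subgroup.mem_centralizer_iff]
    intro m hm
    have := hMcent x hx hm
    rw [Subgroup.mem_centralizer_iff] at this
    exact (this x rfl).symm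
  -- the self-centralizing step
  have hCM : Cm ≤ M := by
    by_contra hnot
    set Cbar := Cm.map (QuotientGroup.mk' M) with hCbar
    haveI : Cbar.Normal :=
      Subgroup.Normal.map inferInstance _ (QuotientGroup.mk'_surjective M)
    have hCbar0 : Cbar ≠ ⊥ := by
      intro h0
      rw [hCbar, Subgroup.map_eq_bot_iff, QuotientGroup.ker_mk'] at h0
      exact hnot h0
    obtain ⟨s, Nb, hs, hNbn, hNb0, hNble, hNbp⟩ := exists_normal_pgroup_le Cbar hCbar0
    haveI := Fact.mk hs
    obtain ⟨a, ha⟩ := IsPGroup.iff_card.mp hNbp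
    have ha0 : a ≠ 0 := by
      rintro rfl
      rw [pow_zero] at ha
      exact hNb0 (Subgroup.card_eq_one.mp ha)
    set K := Nb.comap (QuotientGroup.mk' M) with hK
    haveI hKn : K.Normal := hNbn.comap _
    have hMK : M ≤ K := by
      intro x hx
      rw [hK, Subgroup.mem_comap]
      have : QuotientGroup.mk' M x = 1 := (QuotientGroup.eq_one_iff x).mpr hx
      rw [this]; exact Nb.one_mem
    have hKcard : Nat.card K = Nat.card M * s ^ a := by
      rw [hK, Cfsg.Agent.Helper1.card_comap_mk', ha]
    have hKC : K ≤ Cm := by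
      have h1 : K ≤ (Cm.map (QuotientGroup.mk' M)).comap (QuotientGroup.mk' M) :=
        Subgroup.comap_mono hNble
      rw [Subgroup.comap_map_eq, QuotientGroup.ker_mk', sup_eq_left.mpr hMC] at h1
      exact h1
    have hgt : Nat.card M < Nat.card K := by
      rw [hKcard]
      have h1 : 1 < s ^ a := Nat.one_lt_pow ha0 hs.one_lt
      have h2 : 0 < Nat.card M := Nat.card_pos
      nlinarith
    by_cases hsp : s = p
    · subst hsp
      -- Sylow `s`-subgroup of `K` is normal in `G`
      let P : Sylow s ↥K := default
      have hPcard : Nat.card (P : Subgroup ↥K) = s ^ a := by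
        rw [Sylow.card_eq_multiplicity, hKcard, Nat.factorization_mul Nat.card_pos.ne'
          (pow_ne_zero _ hs.ne_zero), Nat.Prime.factorization_pow hs]
        simp only [Finsupp.coe_add, Pi.add_apply, Finsupp.single_eq_same]
        rw [Nat.factorization_eq_zero_of_not_dvd
          (fun hd => hs.one_lt.ne' (Nat.Coprime.eq_one_of_dvd hMp.symm hd |>.symm ▸ rfl)), zero_add]
      have hMcenK : M.subgroupOf K ≤ Subgroup.center ↥K := by
        intro m hm
        rw [Subgroup.mem_subgroupOf] at hm
        rw [Subgroup.mem_center_iff]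
        intro k
        have hk : (k : G) ∈ Cm := hKC k.2
        rw [hCm, Subgroup.mem_centralizer_iff] at hk
        exact Subtype.ext (hk _ hm).symm
      have hPn : (P : Subgroup ↥K).Normal := by
        rw [← Subgroup.normalizer_eq_top_iff]
        apply Subgroup.eq_top_of_le_card
        have d1 : Nat.card (P : Subgroup ↥K) ∣
            Nat.card (Subgroup.normalizer ((P : Subgroup ↥K) : Set ↥K)) :=
          Subgroup.card_dvd_of_le Subgroup.le_normalizer
        have hMnorm : M.subgroupOf K ≤ Subgroup.normalizer ((P : Subgroup ↥K) : Set ↥K) := by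
          rw [Subgroup.le_normalizer_iff]
          intro m hm k hk
          have hmc := hMcenK hm
          rw [Subgroup.mem_center_iff] at hmc
          have : m * k * m⁻¹ = k := by rw [← hmc k, mul_inv_cancel_right]
          rw [this]; exact hk
        have d2 : Nat.card (M.subgroupOf K) ∣
            Nat.card (Subgroup.normalizer ((P : Subgroup ↥K) : Set ↥K)) :=
          Subgroup.card_dvd_of_le hMnorm
        rw [hPcard] at d1
        have hMsub : Nat.card (M.subgroupOf K) = Nat.card M := by
          rw [← Subgroup.card_map_of_injective K.subtype_injective,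
            Subgroup.subgroupOf_map_subtype, inf_eq_left.mpr hMK]
        rw [hMsub] at d2
        have d3 : Nat.card M * s ^ a ∣
            Nat.card (Subgroup.normalizer ((P : Subgroup ↥K) : Set ↥K)) :=
          Nat.Coprime.mul_dvd_of_dvd_of_dvd (Nat.Coprime.pow_right a hMp) d2 d1
        rw [← hKcard] at d3
        exact Nat.le_of_dvd Nat.card_pos d3
      haveI hPchar : (P : Subgroup ↥K).Characteristic := Sylow.characteristic_of_normal P hPn
      have hPG : ((P : Subgroup ↥K).map K.subtype).Normal :=
        ConjAct.normal_of_characteristic_of_normal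
      have hPp : IsPGroup s ((P : Subgroup ↥K).map K.subtype) := P.isPGroup'.map _
      have hbot := hβ _ hPG hPp
      have hc1 : Nat.card ((P : Subgroup ↥K).map K.subtype) = s ^ a := by
        rw [Subgroup.card_map_of_injective K.subtype_injective, hPcard]
      rw [hbot, Subgroup.card_bot] at hc1
      have h1 : 1 < s ^ a := Nat.one_lt_pow ha0 hs.one_lt
      omega
    · have hKp : (Nat.card K).Coprime p := by
        rw [hKcard]
        exact Nat.Coprime.mul_left hMp (Nat.Coprime.pow_left a ((Nat.coprime_primes hs hp).mpr hsp))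
      have := hMmax ⟨K, hKn, hKp⟩
      simp only at this
      omega
  -- conclusion
  refine ⟨M, hMab, hMp, ?_⟩
  have hq : ∀ {d : ℕ}, d.Prime → d ∣ M.index → d = p := by
    intro d hd hdvd
    by_contra hne
    haveI := Fact.mk hd
    rw [Subgroup.index_eq_card] at hdvd
    obtain ⟨y, hy⟩ := exists_prime_orderOf_dvd_card' d hdvd
    obtain ⟨x, hxy, hx⟩ := exists_lift_coprime hp M y
      (by rw [hy]; exact (Nat.coprime_primes hd hp).mpr hne)
    have hxM : x ∈ M := hCM (hreg x hx)
    have : y = 1 := by rw [← hxy]; exact (QuotientGroup.eq_one_iff x).mpr hxM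
    rw [this, orderOf_one] at hy
    exact hd.one_lt.ne hy
  exact ⟨_, Nat.eq_prime_pow_of_unique_prime_dvd Subgroup.index_ne_zero_of_finite hq⟩

theorem PC.abC_aux {p : ℕ} (hp : p.Prime) : ∀ n : ℕ, ∀ (G : Type u) [Group G] [Finite G],
    Nat.card G = n → PC p G → AbC p G := by
  intro n
  induction n using Nat.strong_induction_on with
  | _ n ih =>
    intro G _ _ hn h
    haveI : Group.IsSolvable G := h.isSolvable hp
    by_cases hβ : ∀ N : Subgroup G, N.Normal → IsPGroup p N → N = ⊥
    · exact h.abC_of_no_normal_p hp hβ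
    · push Not at hβ
      obtain ⟨N, hNn, hNp, hN0⟩ := hβ
      haveI := hNn
      haveI := Fact.mk hp
      have hcardQ : Nat.card (G ⧸ N) < n := by
        rw [← hn, ← Subgroup.card_mul_index N, ← Subgroup.index_eq_card]
        have h1 : 1 < Nat.card N := by
          rw [Subgroup.one_lt_card_iff_ne_bot]; exact hN0
        have h2 : 0 < N.index := Nat.pos_of_ne_zero Subgroup.index_ne_zero_of_finite
        nlinarith
      have hQ : AbC p (G ⧸ N) := ih _ hcardQ (G ⧸ N) rfl (h.quotient hp N)
      set Nn := Nat.card G with hNn'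
      have hNn0 : Nn ≠ 0 := Nat.card_pos.ne'
      set e := Nn.factorization p with he
      set m := Nn / p ^ e with hm
      have hmn : Nat.card G = m * p ^ e := by
        rw [mul_comm]; exact (Nat.ordProj_mul_ordCompl_eq_self Nn p).symm
      have hmp : m.Coprime p := (Nat.coprime_ordCompl hp hNn0).symm
      obtain ⟨H0, hH0, -⟩ :=
        Cfsg.Agent.Helper1.hall_exists_dominant (G := G) m (p ^ e) hmn (hmp.pow_right e)
      refine ⟨H0, ?_, hH0 ▸ hmp, e, ?_⟩
      · intro a ha b hb
        have hK : (Nat.card (H0.map (QuotientGroup.mk' N))).Coprime p :=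
          Nat.Coprime.coprime_dvd_left (Subgroup.card_map_dvd _ _) (hH0 ▸ hmp)
        have hcomm := hQ.comm_of_coprime hp (H0.map (QuotientGroup.mk' N)) hK
          _ ⟨a, ha, rfl⟩ _ ⟨b, hb, rfl⟩
        rw [← map_mul, ← map_mul] at hcomm
        have hmem : (b * a)⁻¹ * (a * b) ∈ N := by
          have := QuotientGroup.eq.mp hcomm.symm
          exact this
        have hmem2 : (b * a)⁻¹ * (a * b) ∈ H0 :=
          H0.mul_mem (H0.inv_mem (H0.mul_mem hb ha)) (H0.mul_mem ha hb)
        obtain ⟨f, hf⟩ := IsPGroup.iff_card.mp hNp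
        have hdisj : N ⊓ H0 = ⊥ := by
          apply Disjoint.eq_bot
          apply Subgroup.disjoint_of_coprime_natCard
          rw [hf, hH0]
          exact Nat.Coprime.pow_left f hmp.symm
        have : (b * a)⁻¹ * (a * b) ∈ N ⊓ H0 := ⟨hmem, hmem2⟩
        rw [hdisj, Subgroup.mem_bot] at this
        have h3 := congrArg (fun t => (b * a) * t) this
        simp only [mul_inv_cancel_left, mul_one] at h3
        exact h3
      · have h1 : Nat.card H0 * H0.index = m * p ^ e := by rw [Subgroup.card_mul_index, hmn]
        rw [hH0] at h1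
        have hm0 : 0 < m := by
          rcases Nat.eq_zero_or_pos m with h0 | h0
          · rw [h0, zero_mul] at hmn; exact absurd hmn hNn0
          · exact h0
        exact Nat.eq_of_mul_eq_mul_left hm0 h1

theorem PC.abC {G : Type u} [Group G] [Finite G] {p : ℕ} (hp : p.Prime) (h : PC p G) :
    AbC p G :=
  PC.abC_aux hp _ G rfl h

end Cfsg.Agent.Helper60
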