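import Mathlib

set_option autoImplicit false
set_option linter.style.haveILetI false

/-!
# Sylow 2-subgroups `Q × R` with `Q` generalized quaternion

An isolated involution in a Sylow 2-subgroup `S = Q × R` (internal direct product) where `Q` is
generalized quaternion and all involutions of `R` are central in `R`; conditional on the
`Z*`-theorem this shows that the ambient group is not simple.
-/

namespace Cfsg.Agent.Helper60.QuatSyl

open QuaternionGroup

theorem zmod_add_self_eq_zero {m : ℕ} (hm : 1 ≤ m) (i : ZMod (2 * m)) (h : i + i = 0) :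
    i = 0 ∨ i = (m : ZMod (2 * m)) := by
  haveI : NeZero (2 * m) := ⟨by omega⟩
  have hv : (i + i).val = 0 := by rw [h]; exact ZMod.val_zero
  rw [ZMod.val_add] at hv
  have hlt := ZMod.val_lt i
  obtain ⟨k, hk⟩ := Nat.dvd_of_mod_eq_zero hv
  have hk2 : k = 0 ∨ k = 1 := by
    have : 2 * m * k < 2 * m * 2 := by rw [← hk]; omega
    have : k < 2 := lt_of_mul_lt_mul_left this (Nat.zero_le _)
    omega
  rcases hk2 with rfl | rfl
  · left
    have : i.val = 0 := by omega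
    exact (ZMod.val_eq_zero i).mp this
  · right
    have : i.val = m := by omega
    rw [← ZMod.natCast_zmod_val i, this]

theorem natCast_ne_zero_zmod {m : ℕ} (hm : 1 ≤ m) : (m : ZMod (2 * m)) ≠ 0 := by
  intro h
  rw [ZMod.natCast_eq_zero_iff] at h
  have := Nat.le_of_dvd (by omega) h
  omega

/-- the involution of the generalized quaternion group -/
theorem quat_z_ne_one {m : ℕ} (hm : 1 ≤ m) : (a (m : ZMod (2 * m)) : QuaternionGroup m) ≠ 1 := by
  rw [one_def]
  intro h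
  exact natCast_ne_zero_zmod hm (a.inj h)

theorem quat_z_sq {m : ℕ} : (a (m : ZMod (2 * m)) : QuaternionGroup m) * a (m : ZMod (2 * m)) = 1 := by
  rw [a_mul_a, one_def]
  congr 1
  have : ((m : ZMod (2 * m)) + m) = ((2 * m : ℕ) : ZMod (2 * m)) := by push_cast; ring
  rw [this]
  exact ZMod.natCast_self _

theorem quat_sq_eq_one {m : ℕ} (hm : 1 ≤ m) (g : QuaternionGroup m) (h : g * g = 1) :
    g = 1 ∨ g = a (m : ZMod (2 * m)) := by
  cases g with
  | a i =>
    rw [a_mul_a, one_def] at h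
    rcases zmod_add_self_eq_zero hm i (a.inj h) with rfl | rfl
    · left; exact a_zero
    · right; rfl
  | xa i =>
    rw [xa_mul_xa, one_def] at h
    have := a.inj h
    simp at this
    exact absurd this (natCast_ne_zero_zmod hm)

theorem quat_three_roots {m : ℕ} (hm : 2 ≤ m) :
    3 ≤ Nat.card {g : QuaternionGroup m // g * g = a (m : ZMod (2 * m))} := by
  haveI : NeZero (2 * m) := ⟨by omega⟩
  haveI : NeZero m := ⟨by omega⟩
  have hroot : ∀ i : ZMod (2 * m), (xa i : QuaternionGroup m) * xa i = a (m : ZMod (2 * m)) := by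
    intro i; rw [xa_mul_xa]; congr 1; ring
  let f : Fin 3 → {g : QuaternionGroup m // g * g = a (m : ZMod (2 * m))} :=
    fun k => ⟨xa ((k : ℕ) : ZMod (2 * m)), hroot _⟩
  have hf : Function.Injective f := by
    intro j k hjk
    have h1 : (xa ((j : ℕ) : ZMod (2 * m)) : QuaternionGroup m) = xa ((k : ℕ) : ZMod (2 * m)) :=
      congrArg Subtype.val hjk
    have h2 := xa.inj h1
    have h3 := congrArg ZMod.val h2
    rw [ZMod.val_natCast, ZMod.val_natCast, Nat.mod_eq_of_lt (by omega), Nat.mod_eq_of_lt (by omega)] at h3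
    exact Fin.ext h3
  have := Nat.card_le_card_of_injective f hf
  simpa using this

theorem quat_not_comm {m : ℕ} (hm : 2 ≤ m) :
    (a 1 : QuaternionGroup m) * xa 0 ≠ xa 0 * a 1 := by
  haveI : NeZero (2 * m) := ⟨by omega⟩
  rw [a_mul_xa, xa_mul_a]
  intro h
  have h2 := xa.inj h
  have h3 : (1 : ZMod (2 * m)) + 1 = 0 := by
    have : (0 : ZMod (2 * m)) - 1 = 0 + 1 := h2
    linear_combination -this
  have h4 : ((2 : ℕ) : ZMod (2 * m)) = 0 := by push_cast; rw [← h3]; ring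
  rw [ZMod.natCast_eq_zero_iff] at h4
  have := Nat.le_of_dvd (by omega) h4
  omega


section Decomp

variable {G : Type*} [Group G]

/-- elements of the join of two elementwise commuting subgroups are products -/
theorem exists_mul_of_mem_sup (Q R : Subgroup G) (hc : ∀ a ∈ Q, ∀ b ∈ R, a * b = b * a)
    {s : G} (hs : s ∈ Q ⊔ R) : ∃ q ∈ Q, ∃ r ∈ R, s = q * r := by
  let T : Subgroup G :=
    { carrier := {s | ∃ q ∈ Q, ∃ r ∈ R, s = q * r}
      mul_mem' := by
        rintro _ _ ⟨q, hq, r, hr, rfl⟩ ⟨q', hq', r', hr', rfl⟩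
        refine ⟨q * q', Q.mul_mem hq hq', r * r', R.mul_mem hr hr', ?_⟩
        have := hc q' hq' r hr
        calc q * r * (q' * r') = q * (r * q') * r' := by group
          _ = q * (q' * r) * r' := by rw [← this]
          _ = q * q' * (r * r') := by group
      one_mem' := ⟨1, Q.one_mem, 1, R.one_mem, by simp⟩
      inv_mem' := by
        rintro _ ⟨q, hq, r, hr, rfl⟩
        refine ⟨q⁻¹, Q.inv_mem hq, r⁻¹, R.inv_mem hr, ?_⟩
        have := hc q⁻¹ (Q.inv_mem hq) r⁻¹ (R.inv_mem hr)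
        rw [mul_inv_rev, this] }
  have hle : Q ⊔ R ≤ T := by
    refine sup_le ?_ ?_
    · intro q hq; exact ⟨q, hq, 1, R.one_mem, by simp⟩
    · intro r hr; exact ⟨1, Q.one_mem, r, hr, by simp⟩
  exact hle hs

theorem decomp_unique (Q R : Subgroup G) (hinf : Q ⊓ R = ⊥) {q q' r r' : G}
    (hq : q ∈ Q) (hq' : q' ∈ Q) (hr : r ∈ R) (hr' : r' ∈ R) (h : q * r = q' * r') :
    q = q' ∧ r = r' := by
  have h1 : q'⁻¹ * q = r' * r⁻¹ := by
    have : q'⁻¹ * (q * r) * r⁻¹ = q'⁻¹ * (q' * r') * r⁻¹ := by rw [h]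
    calc q'⁻¹ * q = q'⁻¹ * (q * r) * r⁻¹ := by group
      _ = q'⁻¹ * (q' * r') * r⁻¹ := this
      _ = r' * r⁻¹ := by group
  have h2 : q'⁻¹ * q ∈ Q ⊓ R :=
    ⟨Q.mul_mem (Q.inv_mem hq') hq, by rw [h1]; exact R.mul_mem hr' (R.inv_mem hr)⟩
  rw [hinf, Subgroup.mem_bot] at h2
  have hqq : q = q' := by
    have := congrArg (fun x => q' * x) h2
    simpa using this
  refine ⟨hqq, ?_⟩
  subst hqq
  exact mul_left_cancel h

theorem sq_mul_of_comm {q r : G} (h : q * r = r * q) : (q * r) * (q * r) = (q * q) * (r * r) := by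
  calc (q * r) * (q * r) = q * (r * q) * r := by group
    _ = q * (q * r) * r := by rw [h]
    _ = (q * q) * (r * r) := by group

end Decomp

/-- number of square roots of `t` inside `S` -/
noncomputable def rho {G : Type*} [Group G] (S : Subgroup G) (t : G) : ℕ :=
  Nat.card {s : G // s ∈ S ∧ s * s = t}

theorem rho_conj {G : Type*} [Group G] (S : Subgroup G) (m : G)
    (hm : m ∈ Subgroup.normalizer (S : Set G)) (t : G) : rho S (m * t * m⁻¹) = rho S t := by
  unfold rho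
  refine Nat.card_congr ?_
  refine
    { toFun := fun s => ⟨m⁻¹ * s.1 * m, ?_, ?_⟩
      invFun := fun s => ⟨m * s.1 * m⁻¹, ?_, ?_⟩
      left_inv := fun s => by ext; simp [mul_assoc]
      right_inv := fun s => by ext; simp [mul_assoc] }
  · have := (Subgroup.mem_normalizer_iff.mp (Subgroup.inv_mem _ hm) s.1).mp s.2.1
    simpa using this
  · have h := s.2.2
    calc m⁻¹ * s.1 * m * (m⁻¹ * s.1 * m) = m⁻¹ * (s.1 * s.1) * m := by group
      _ = m⁻¹ * (m * t * m⁻¹) * m := by rw [h]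
      _ = t := by group
  · exact (Subgroup.mem_normalizer_iff.mp hm s.1).mp s.2.1
  · have h := s.2.2
    calc m * s.1 * m⁻¹ * (m * s.1 * m⁻¹) = m * (s.1 * s.1) * m⁻¹ := by group
      _ = m * t * m⁻¹ := by rw [h]


section QR

variable {G : Type*} [Group G] (S Q R : Subgroup G)
  (hQS : Q ≤ S) (hRS : R ≤ S) (hc : ∀ a ∈ Q, ∀ b ∈ R, a * b = b * a) (hinf : Q ⊓ R = ⊥)
  (hsup : Q ⊔ R = S)
  (z : G) (hzQ : z ∈ Q) (hz1 : z ≠ 1) (hz2 : z * z = 1)
  (hzu : ∀ q ∈ Q, q * q = 1 → q = 1 ∨ q = z)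
  (hR : ∀ r ∈ R, r * r = 1 → ∀ s ∈ R, r * s = s * r)

include hzQ hz1 hz2 hzu in
theorem z_central_Q : ∀ q ∈ Q, q * z = z * q := by
  intro q hq
  have hw : q * z * q⁻¹ ∈ Q := Q.mul_mem (Q.mul_mem hq hzQ) (Q.inv_mem hq)
  have hw2 : (q * z * q⁻¹) * (q * z * q⁻¹) = 1 := by
    calc (q * z * q⁻¹) * (q * z * q⁻¹) = q * (z * z) * q⁻¹ := by group
      _ = 1 := by rw [hz2]; group
  rcases hzu _ hw hw2 with h | h
  · exfalso
    apply hz1
    have : q⁻¹ * (q * z * q⁻¹) * q = q⁻¹ * 1 * q := by rw [h]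
    calc z = q⁻¹ * (q * z * q⁻¹) * q := by group
      _ = q⁻¹ * 1 * q := this
      _ = 1 := by group
  · calc q * z = (q * z * q⁻¹) * q := by group
      _ = z * q := by rw [h]

include hc hinf hsup hzu in
/-- decomposition of an element of `S` of square one -/
theorem invol_decomp {t : G} (ht : t ∈ S) (ht2 : t * t = 1) :
    ∃ q ∈ Q, ∃ r ∈ R, t = q * r ∧ (q = 1 ∨ q = z) ∧ r * r = 1 := by
  obtain ⟨q, hq, r, hr, rfl⟩ := exists_mul_of_mem_sup Q R hc (hsup ▸ ht)
  rw [sq_mul_of_comm (hc q hq r hr)] at ht2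
  have h1 : (q * q) * (r * r) = 1 * 1 := by rw [ht2, one_mul]
  obtain ⟨hqq, hrr⟩ := decomp_unique Q R hinf (Q.mul_mem hq hq) Q.one_mem (R.mul_mem hr hr)
    R.one_mem h1
  exact ⟨q, hq, r, hr, rfl, hzu q hq hqq, hrr⟩

include hc hinf hsup hzQ hz1 hz2 hzu hR in
/-- every element of square one of `S` is central in `S` -/
theorem invol_central {t : G} (ht : t ∈ S) (ht2 : t * t = 1) : ∀ s ∈ S, t * s = s * t := by
  intro s hs
  obtain ⟨q, hq, r, hr, rfl, hq1, hr2⟩ :=
    invol_decomp S Q R hc hinf hsup z hzu ht ht2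
  obtain ⟨q', hq', r', hr', rfl⟩ := exists_mul_of_mem_sup Q R hc (hsup ▸ hs)
  have hqc : q * q' = q' * q := by
    rcases hq1 with h | h
    · rw [h]; simp
    · rw [h]; exact (z_central_Q Q z hzQ hz1 hz2 hzu q' hq').symm
  have hrc : r * r' = r' * r := hR r hr hr2 r' hr'
  have h1 := hc q hq r' hr'
  have h2 := hc q' hq' r hr
  calc q * r * (q' * r') = q * (r * q') * r' := by group
    _ = q * (q' * r) * r' := by rw [← h2]
    _ = (q * q') * (r * r') := by group
    _ = (q' * q) * (r' * r) := by rw [hqc, hrc]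
    _ = q' * (q * r') * r := by group
    _ = q' * (r' * q) * r := by rw [h1]
    _ = q' * r' * (q * r) := by group

include hQS hRS hc hinf hsup in
/-- the number of square roots in `S` is multiplicative -/
theorem rho_mul {q₀ r₀ : G} (hq₀ : q₀ ∈ Q) (hr₀ : r₀ ∈ R) :
    rho S (q₀ * r₀) = Nat.card {q : G // q ∈ Q ∧ q * q = q₀} *
      Nat.card {r : G // r ∈ R ∧ r * r = r₀} := by
  unfold rho
  rw [← Nat.card_prod]
  symm
  let f : {q : G // q ∈ Q ∧ q * q = q₀} × {r : G // r ∈ R ∧ r * r = r₀} →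
      {s : G // s ∈ S ∧ s * s = q₀ * r₀} := fun x =>
    ⟨x.1.1 * x.2.1, S.mul_mem (hQS x.1.2.1) (hRS x.2.2.1), by
      rw [sq_mul_of_comm (hc _ x.1.2.1 _ x.2.2.1), x.1.2.2, x.2.2.2]⟩
  have hf : Function.Bijective f := by
    constructor
    · rintro ⟨⟨q, hq, hq2⟩, ⟨r, hr, hr2⟩⟩ ⟨⟨q', hq', hq2'⟩, ⟨r', hr', hr2'⟩⟩ h
      have h' : q * r = q' * r' := congrArg Subtype.val h
      obtain ⟨rfl, rfl⟩ := decomp_unique Q R hinf hq hq' hr hr' h'
      rfl
    · rintro ⟨s, hs, hs2⟩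
      obtain ⟨q, hq, r, hr, rfl⟩ := exists_mul_of_mem_sup Q R hc (hsup ▸ hs)
      rw [sq_mul_of_comm (hc q hq r hr)] at hs2
      obtain ⟨hqq, hrr⟩ := decomp_unique Q R hinf (Q.mul_mem hq hq) hq₀ (R.mul_mem hr hr) hr₀ hs2
      exact ⟨⟨⟨q, hq, hqq⟩, ⟨r, hr, hrr⟩⟩, rfl⟩
  exact Nat.card_congr (Equiv.ofBijective f hf)

include hzu in
theorem card_sq_one_le [Finite G] : Nat.card {q : G // q ∈ Q ∧ q * q = 1} ≤ 2 := by
  classical
  let f : {q : G // q ∈ Q ∧ q * q = 1} → Bool := fun q => decide (q.1 = 1)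
  have hf : Function.Injective f := by
    rintro ⟨q, hq, hq2⟩ ⟨q', hq', hq2'⟩ h
    simp only [f, decide_eq_decide] at h
    apply Subtype.ext
    show q = q'
    by_cases hq1 : q = 1
    · rw [hq1, h.mp hq1]
    · have hq1' : ¬ q' = 1 := fun h' => hq1 (h.mpr h')
      rcases hzu q hq hq2 with h1 | h1
      · exact absurd h1 hq1
      · rcases hzu q' hq' hq2' with h2 | h2
        · exact absurd h2 hq1'
        · rw [h1, h2]
  have := Nat.card_le_card_of_injective f hf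
  simpa using this


include hQS hRS hc hinf hsup hzQ hzu in
theorem rho_lt [Finite G] (h3 : 3 ≤ Nat.card {q : G // q ∈ Q ∧ q * q = z}) {r₀ : G} (hr₀ : r₀ ∈ R)
    (hpos : 0 < rho S r₀) : rho S r₀ < rho S (z * r₀) := by
  have h1 : rho S r₀ = Nat.card {q : G // q ∈ Q ∧ q * q = 1} *
      Nat.card {r : G // r ∈ R ∧ r * r = r₀} := by
    have := rho_mul S Q R hQS hRS hc hinf hsup Q.one_mem hr₀
    rwa [one_mul] at this
  have h2 := rho_mul S Q R hQS hRS hc hinf hsup hzQ hr₀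
  have hle := card_sq_one_le Q z hzu
  have hc0 : 0 < Nat.card {r : G // r ∈ R ∧ r * r = r₀} := by
    rcases Nat.eq_zero_or_pos (Nat.card {r : G // r ∈ R ∧ r * r = r₀}) with h | h
    · rw [h1, h, mul_zero] at hpos; exact absurd hpos (lt_irrefl 0)
    · exact h
  rw [h1, h2]
  calc Nat.card {q : G // q ∈ Q ∧ q * q = 1} * Nat.card {r : G // r ∈ R ∧ r * r = r₀}
      ≤ 2 * Nat.card {r : G // r ∈ R ∧ r * r = r₀} := Nat.mul_le_mul_right _ hle
    _ < 3 * Nat.card {r : G // r ∈ R ∧ r * r = r₀} := by omega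
    _ ≤ Nat.card {q : G // q ∈ Q ∧ q * q = z} * Nat.card {r : G // r ∈ R ∧ r * r = r₀} :=
        Nat.mul_le_mul_right _ h3

include hQS hRS hc hinf hsup hzQ hz2 hzu in
/-- a maximizer of the number of square roots among the elements of square one lies in `z R` -/
theorem maximizer_mem [Finite G] (h3 : 3 ≤ Nat.card {q : G // q ∈ Q ∧ q * q = z}) {t : G}
    (ht : t ∈ S) (ht2 : t * t = 1) (hmax : ∀ t' ∈ S, t' * t' = 1 → rho S t' ≤ rho S t) :
    z⁻¹ * t ∈ R := by
  obtain ⟨q, hq, r, hr, rfl, hq1, hr2⟩ := invol_decomp S Q R hc hinf hsup z hzu ht ht2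
  rcases hq1 with h | h
  · exfalso
    rw [h, one_mul] at hmax
    have hpos : 0 < rho S r := by
      have h1 : rho S 1 ≤ rho S r := hmax 1 S.one_mem (by simp)
      have h0 : 0 < rho S 1 := by
        unfold rho
        haveI : Nonempty {s : G // s ∈ S ∧ s * s = 1} := ⟨⟨1, S.one_mem, by simp⟩⟩
        exact Nat.card_pos
      omega
    have hlt := rho_lt S Q R hQS hRS hc hinf hsup z hzQ hzu h3 hr hpos
    have hzr : z * r ∈ S := S.mul_mem (hQS hzQ) (hRS hr)
    have hzr2 : (z * r) * (z * r) = 1 := by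
      rw [sq_mul_of_comm (hc z hzQ r hr), hz2, hr2, one_mul]
    have := hmax (z * r) hzr hzr2
    omega
  · rw [h]; simpa using hr

end QR


/-- Averaging: `N` normalizes the commutative subgroup `E`, `S ⊴ N` of odd index centralizes `E`, and
all `N`-conjugates of `t₀ ∈ E` lie in the coset `z R'` where `z ∈ E`, `z² = 1`, `z ∉ R'`.  Then `N`
fixes a nonidentity element of `E`. -/
theorem exists_fixed_of_odd_index {G : Type*} [Group G] [Finite G] (E S N R' : Subgroup G)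
    (hSnorm : ∀ m ∈ N, ∀ s ∈ S, m * s * m⁻¹ ∈ S)
    (hodd : Odd (S.relIndex N))
    (hEc : ∀ a ∈ E, ∀ b ∈ E, a * b = b * a)
    (hNE : ∀ m ∈ N, ∀ e ∈ E, m * e * m⁻¹ ∈ E)
    (hSE : ∀ s ∈ S, ∀ e ∈ E, s * e = e * s)
    (z : G) (hzE : z ∈ E) (hz2 : z * z = 1) (hzR : z ∉ R')
    (t₀ : G) (ht₀ : t₀ ∈ E) (hF : ∀ m ∈ N, z⁻¹ * (m * t₀ * m⁻¹) ∈ R') :
    ∃ ℓ ∈ E, ℓ ≠ 1 ∧ ∀ m ∈ N, m * ℓ * m⁻¹ = ℓ := by
  classical
  letI : CommGroup ↥E :=
    { (inferInstance : Group ↥E) with mul_comm := fun a b => Subtype.ext (hEc a a.2 b b.2) }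
  let S' : Subgroup ↥N := S.subgroupOf N
  haveI hS'n : S'.Normal := ⟨fun s hs m => by
    rw [Subgroup.mem_subgroupOf] at hs ⊢
    simpa using hSnorm m m.2 s hs⟩
  haveI : Fintype (↥N ⧸ S') := Fintype.ofFinite _
  let φ : ↥N → ↥E := fun m => ⟨(m : G) * t₀ * (m : G)⁻¹, hNE m m.2 t₀ ht₀⟩
  have hφ : ∀ m m' : ↥N, (QuotientGroup.leftRel S') m m' → φ m = φ m' := by
    intro m m' h
    rw [QuotientGroup.leftRel_apply, Subgroup.mem_subgroupOf] at h
    apply Subtype.ext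
    show (m : G) * t₀ * (m : G)⁻¹ = (m' : G) * t₀ * (m' : G)⁻¹
    have hs : ((m : G)⁻¹ * (m' : G)) * t₀ = t₀ * ((m : G)⁻¹ * (m' : G)) := by
      simpa using hSE _ h t₀ ht₀
    calc (m : G) * t₀ * (m : G)⁻¹
        = (m : G) * (t₀ * ((m : G)⁻¹ * (m' : G))) * (m' : G)⁻¹ := by group
      _ = (m : G) * (((m : G)⁻¹ * (m' : G)) * t₀) * (m' : G)⁻¹ := by rw [hs]
      _ = (m' : G) * t₀ * (m' : G)⁻¹ := by group
  let φb : ↥N ⧸ S' → ↥E := Quotient.lift φ hφ
  have hφb : ∀ m : ↥N, φb (QuotientGroup.mk m) = φ m := fun m => rfl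
  let ℓ : ↥E := ∏ a : ↥N ⧸ S', φb a
  refine ⟨ℓ, ℓ.2, ?_, ?_⟩
  · -- nontriviality
    let π : ↥E →* ↥E ⧸ (R'.subgroupOf E) := QuotientGroup.mk' _
    let zE : ↥E := ⟨z, hzE⟩
    have hπ : ∀ a : ↥N ⧸ S', π (φb a) = π zE := by
      intro a
      induction a using QuotientGroup.induction_on with
      | H m =>
        rw [hφb]
        show (QuotientGroup.mk (φ m) : ↥E ⧸ (R'.subgroupOf E)) = QuotientGroup.mk zE
        rw [eq_comm, QuotientGroup.eq, Subgroup.mem_subgroupOf]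
        exact hF m m.2
    have hπℓ : π ℓ = π zE ^ Fintype.card (↥N ⧸ S') := by
      show π (∏ a, φb a) = _
      rw [map_prod, Finset.prod_congr rfl (fun a _ => hπ a), Finset.prod_const, Finset.card_univ]
    have hcard : Fintype.card (↥N ⧸ S') = S.relIndex N := by
      rw [← Nat.card_eq_fintype_card]; rfl
    have hz2' : π zE ^ 2 = 1 := by
      rw [← map_pow]
      have : zE ^ 2 = 1 := by
        apply Subtype.ext
        simp [zE, pow_two, hz2]
      rw [this, map_one]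
    obtain ⟨k, hk⟩ := hodd
    have hπz : π ℓ = π zE := by
      rw [hπℓ, hcard, hk, pow_succ, pow_mul, hz2', one_pow, one_mul]
    intro hℓ1
    have hℓ : ℓ = 1 := Subtype.ext hℓ1
    rw [hℓ, map_one] at hπz
    have hz : zE ∈ R'.subgroupOf E := (QuotientGroup.eq_one_iff zE).mp hπz.symm
    exact hzR (Subgroup.mem_subgroupOf.mp hz)
  · intro m hm
    let cE : ↥E →* ↥E :=
      { toFun := fun e => ⟨m * e * m⁻¹, hNE m hm e e.2⟩
        map_one' := by apply Subtype.ext; simp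
        map_mul' := fun a b => by apply Subtype.ext; simp [mul_assoc] }
    have hc : ∀ a : ↥N ⧸ S', cE (φb a) = φb ((QuotientGroup.mk ⟨m, hm⟩ : ↥N ⧸ S') * a) := by
      intro a
      induction a using QuotientGroup.induction_on with
      | H m' =>
        rw [← QuotientGroup.mk_mul, hφb, hφb]
        apply Subtype.ext
        show m * ((m' : G) * t₀ * (m' : G)⁻¹) * m⁻¹ =
          ((⟨m, hm⟩ * m' : ↥N) : G) * t₀ * ((⟨m, hm⟩ * m' : ↥N) : G)⁻¹
        simp [mul_assoc]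
    have hfix : cE ℓ = ℓ := by
      show cE (∏ a, φb a) = ∏ a, φb a
      rw [map_prod, Finset.prod_congr rfl (fun a _ => hc a)]
      exact Fintype.prod_equiv (Equiv.mulLeft (QuotientGroup.mk ⟨m, hm⟩ : ↥N ⧸ S')) _ _ (fun _ => rfl)
    exact congrArg Subtype.val hfix


/-- A Sylow 2-subgroup `S = Q × R`, `Q` with a unique involution `z` having at least three square
roots in `Q`, all involutions of `R` central in `R`: some involution of `S` is the only one of its
conjugates lying in `S`. -/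
theorem exists_isolated {G : Type*} [Group G] [Finite G] (S : Sylow 2 G) (Q R : Subgroup G)
    (hQS : Q ≤ (S : Subgroup G)) (hRS : R ≤ (S : Subgroup G))
    (hc : ∀ a ∈ Q, ∀ b ∈ R, a * b = b * a) (hinf : Q ⊓ R = ⊥)
    (hsup : Q ⊔ R = (S : Subgroup G))
    (z : G) (hzQ : z ∈ Q) (hz1 : z ≠ 1) (hz2 : z * z = 1)
    (hzu : ∀ q ∈ Q, q * q = 1 → q = 1 ∨ q = z)
    (h3 : 3 ≤ Nat.card {q : G // q ∈ Q ∧ q * q = z})
    (hR : ∀ r ∈ R, r * r = 1 → ∀ s ∈ R, r * s = s * r) :
    ∃ ℓ : G, orderOf ℓ = 2 ∧ ℓ ∈ (S : Subgroup G) ∧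
      ∀ g : G, g * ℓ * g⁻¹ ∈ (S : Subgroup G) → g * ℓ * g⁻¹ = ℓ := by
  classical
  have hcen : ∀ {t : G}, t ∈ (S : Subgroup G) → t * t = 1 → ∀ s ∈ (S : Subgroup G), t * s = s * t :=
    fun ht ht2 => invol_central (S : Subgroup G) Q R hc hinf hsup z hzQ hz1 hz2 hzu hR ht ht2
  let E : Subgroup G :=
    { carrier := {t | t ∈ (S : Subgroup G) ∧ t * t = 1}
      mul_mem' := by
        rintro a b ⟨ha, ha2⟩ ⟨hb, hb2⟩
        refine ⟨Subgroup.mul_mem _ ha hb, ?_⟩
        rw [sq_mul_of_comm (hcen ha ha2 b hb), ha2, hb2, one_mul]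
      one_mem' := ⟨Subgroup.one_mem _, by simp⟩
      inv_mem' := by
        rintro a ⟨ha, ha2⟩
        refine ⟨Subgroup.inv_mem _ ha, ?_⟩
        rw [← mul_inv_rev, ha2, inv_one] }
  have hE : ∀ t : G, t ∈ E ↔ t ∈ (S : Subgroup G) ∧ t * t = 1 := fun t => Iff.rfl
  let N := Subgroup.normalizer ((S : Subgroup G) : Set G)
  haveI : Nonempty ↥E := ⟨1⟩
  obtain ⟨t₀, hmax⟩ := Finite.exists_max (fun e : ↥E => rho (S : Subgroup G) (e : G))
  have hmax' : ∀ t' ∈ (S : Subgroup G), t' * t' = 1 →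
      rho (S : Subgroup G) t' ≤ rho (S : Subgroup G) (t₀ : G) :=
    fun t' h1 h2 => hmax ⟨t', h1, h2⟩
  have hodd : Odd ((S : Subgroup G).relIndex N) := by
    rw [← Nat.not_even_iff_odd, even_iff_two_dvd]
    intro h2
    have h := Subgroup.relIndex_mul_index (Subgroup.le_normalizer : (S : Subgroup G) ≤ N)
    exact S.not_dvd_index (h ▸ Dvd.dvd.mul_right h2 _)
  have hNE : ∀ m ∈ N, ∀ e ∈ E, m * e * m⁻¹ ∈ E := by
    intro m hm e he
    refine ⟨(Subgroup.mem_normalizer_iff.mp hm e).mp he.1, ?_⟩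
    calc m * e * m⁻¹ * (m * e * m⁻¹) = m * (e * e) * m⁻¹ := by group
      _ = 1 := by rw [he.2]; group
  obtain ⟨ℓ, hℓE, hℓ1, hℓfix⟩ := exists_fixed_of_odd_index E (S : Subgroup G) N R
    (fun m hm s hs => (Subgroup.mem_normalizer_iff.mp hm s).mp hs) hodd
    (fun a ha b hb => hcen ha.1 ha.2 b hb.1) hNE
    (fun s hs e he => (hcen he.1 he.2 s hs).symm)
    z ⟨hQS hzQ, hz2⟩ hz2
    (fun hzR => hz1 (by
      have : z ∈ Q ⊓ R := ⟨hzQ, hzR⟩
      rwa [hinf, Subgroup.mem_bot] at this))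
    (t₀ : G) t₀.2
    (fun m hm => maximizer_mem (S : Subgroup G) Q R hQS hRS hc hinf hsup z hzQ hz2 hzu h3
      (hNE m hm t₀ t₀.2).1 (hNE m hm t₀ t₀.2).2
      (fun t' h1 h2 => by rw [rho_conj (S : Subgroup G) m hm]; exact hmax' t' h1 h2))
  refine ⟨ℓ, orderOf_eq_prime (by rw [pow_two]; exact hℓE.2) hℓ1, hℓE.1, ?_⟩
  intro g hg
  have hy2 : (g * ℓ * g⁻¹) * (g * ℓ * g⁻¹) = 1 := by
    calc (g * ℓ * g⁻¹) * (g * ℓ * g⁻¹) = g * (ℓ * ℓ) * g⁻¹ := by group
      _ = 1 := by rw [hℓE.2]; group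
  have hxc : ℓ ∈ Subgroup.centralizer ((S : Subgroup G) : Set G) := by
    rw [Subgroup.mem_centralizer_iff]
    intro s hs
    exact (hcen hℓE.1 hℓE.2 s hs).symm
  have hyc : (g⁻¹)⁻¹ * ℓ * g⁻¹ ∈ Subgroup.centralizer ((S : Subgroup G) : Set G) := by
    rw [inv_inv, Subgroup.mem_centralizer_iff]
    intro s hs
    exact (hcen hg hy2 s hs).symm
  obtain ⟨n, hn, hn2⟩ := S.conj_eq_normalizer_conj_of_mem_centralizer ℓ g⁻¹ hxc hyc
  rw [inv_inv] at hn2
  rw [hn2]
  have := hℓfix n⁻¹ (Subgroup.inv_mem _ hn)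
  simpa using this


/-- Conditional on the `Z*`-theorem for `G` (in the form of statement `S0215`): a group whose Sylow
2-subgroup is `Q × R` with `Q` generalized quaternion and the involutions of `R` central in `R` is
not simple. -/
theorem not_simple_of_zstar {G : Type*} [Group G] [Finite G]
    (hZ : ∀ (P : Sylow 2 G) (u : G), orderOf u = 2 → u ∈ P →
      (∀ g : G, g * u * g⁻¹ ∈ P → g * u * g⁻¹ = u) →
      ∃ N : Subgroup G, N.Normal ∧ Odd (Nat.card N) ∧ ∀ g : G, (u * g * u⁻¹ * g⁻¹) ∈ N)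
    (S : Sylow 2 G) (Q R : Subgroup G)
    (hQS : Q ≤ (S : Subgroup G)) (hRS : R ≤ (S : Subgroup G))
    (hc : ∀ a ∈ Q, ∀ b ∈ R, a * b = b * a) (hinf : Q ⊓ R = ⊥)
    (hsup : Q ⊔ R = (S : Subgroup G))
    (n : ℕ) (hn : 1 ≤ n) (eQ : ↥Q ≃* QuaternionGroup (2 ^ n))
    (hR : ∀ r ∈ R, orderOf r = 2 → ∀ s ∈ R, r * s = s * r) :
    ¬ IsSimpleGroup G := by
  classical
  have hm2 : 2 ≤ 2 ^ n := by
    calc 2 = 2 ^ 1 := by norm_num
      _ ≤ 2 ^ n := Nat.pow_le_pow_right (by norm_num) hn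
  have hm1 : 1 ≤ 2 ^ n := by omega
  set m := 2 ^ n with hm
  let zq : ↥Q := eQ.symm (a (m : ZMod (2 * m)))
  have hzq1 : zq ≠ 1 := by
    intro h
    have : eQ zq = 1 := by rw [h, map_one]
    rw [MulEquiv.apply_symm_apply] at this
    exact quat_z_ne_one hm1 this
  have hzq2 : zq * zq = 1 := by
    show eQ.symm _ * eQ.symm _ = 1
    rw [← map_mul, quat_z_sq, map_one]
  have hzu : ∀ q ∈ Q, q * q = 1 → q = 1 ∨ q = (zq : G) := by
    intro q hq hq2
    have h1 : eQ ⟨q, hq⟩ * eQ ⟨q, hq⟩ = 1 := by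
      rw [← map_mul]
      have : (⟨q, hq⟩ : ↥Q) * ⟨q, hq⟩ = 1 := Subtype.ext hq2
      rw [this, map_one]
    rcases quat_sq_eq_one hm1 _ h1 with h | h
    · left
      have : (⟨q, hq⟩ : ↥Q) = 1 := by
        have := congrArg eQ.symm h
        simpa using this
      exact congrArg Subtype.val this
    · right
      have : (⟨q, hq⟩ : ↥Q) = zq := by
        have := congrArg eQ.symm h
        simpa using this
      exact congrArg Subtype.val this
  have h3 : 3 ≤ Nat.card {q : G // q ∈ Q ∧ q * q = (zq : G)} := by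
    refine le_trans (quat_three_roots hm2) ?_
    let f : {g : QuaternionGroup m // g * g = a (m : ZMod (2 * m))} →
        {q : G // q ∈ Q ∧ q * q = (zq : G)} := fun g =>
      ⟨(eQ.symm g.1 : G), (eQ.symm g.1).2, by
        have : eQ.symm g.1 * eQ.symm g.1 = zq := by
          rw [← map_mul, g.2]
        exact congrArg Subtype.val this⟩
    refine Nat.card_le_card_of_injective f ?_
    intro g g' h
    have h1 : ((f g).1 : G) = ((f g').1 : G) := congrArg Subtype.val h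
    exact Subtype.ext (eQ.symm.injective (Subtype.ext h1))
  have hR' : ∀ r ∈ R, r * r = 1 → ∀ s ∈ R, r * s = s * r := by
    intro r hr hr2 s hs
    by_cases h1 : r = 1
    · rw [h1]; simp
    · exact hR r hr (orderOf_eq_prime (by rw [pow_two]; exact hr2) h1) s hs
  obtain ⟨ℓ, hℓ2, hℓS, hℓiso⟩ := exists_isolated S Q R hQS hRS hc hinf hsup (zq : G) zq.2
    (fun h => hzq1 (Subtype.ext h)) (congrArg Subtype.val hzq2) hzu h3 hR'
  obtain ⟨N₀, hN₀, hodd, hcomm⟩ := hZ S ℓ hℓ2 hℓS hℓiso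
  intro hs
  have hℓ1 : ℓ ≠ 1 := by
    intro h
    rw [h, orderOf_one] at hℓ2
    exact absurd hℓ2 (by norm_num)
  rcases hs.eq_bot_or_eq_top_of_normal N₀ hN₀ with h | h
  · -- ℓ is central
    have hcen : ℓ ∈ Subgroup.center G := by
      rw [Subgroup.mem_center_iff]
      intro g
      have := hcomm g
      rw [h, Subgroup.mem_bot] at this
      have h2 : ℓ * g * ℓ⁻¹ * g⁻¹ * (g * ℓ) = 1 * (g * ℓ) := by rw [this]
      calc g * ℓ = 1 * (g * ℓ) := (one_mul _).symm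
        _ = ℓ * g * ℓ⁻¹ * g⁻¹ * (g * ℓ) := h2.symm
        _ = ℓ * g := by group
    rcases hs.eq_bot_or_eq_top_of_normal (Subgroup.center G) inferInstance with h' | h'
    · rw [h', Subgroup.mem_bot] at hcen
      exact hℓ1 hcen
    · -- G commutative, contradiction with Q nonabelian
      have hcomm' : ∀ x y : G, x * y = y * x := by
        intro x y
        have hx : x ∈ Subgroup.center G := by rw [h']; trivial
        exact (Subgroup.mem_center_iff.mp hx y).symm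
      have := hcomm' (eQ.symm (a 1) : G) (eQ.symm (xa 0) : G)
      have h4 : eQ.symm (a 1) * eQ.symm (xa 0) = eQ.symm (xa 0) * eQ.symm (a 1) := Subtype.ext this
      rw [← map_mul, ← map_mul] at h4
      exact quat_not_comm hm2 (eQ.symm.injective h4)
  · rw [h] at hodd
    have hdvd : orderOf ℓ ∣ Nat.card G := orderOf_dvd_natCard ℓ
    rw [hℓ2] at hdvd
    have : Nat.card (⊤ : Subgroup G) = Nat.card G := Subgroup.card_top
    rw [this] at hodd
    exact (Nat.not_even_iff_odd.mpr hodd) (even_iff_two_dvd.mpr hdvd)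

end Cfsg.Agent.Helper60.QuatSyl
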