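import Mathlib
import Cfsg.Agent.Lib.Helper98.RT0

/-!
# RT (V1)–(V4): the values of the dite-definitions (helper98's server, S2278)
-/

set_option autoImplicit false

namespace Cfsg.Agent.Helper60.RT

open Matrix Cfsg.Agent.Helper93.RU Cfsg.Agent.Helper98.RT

variable {F : Type*} [Field F]

theorem det_Ymat (n w : F) : (Ymat n w).det = 1 := by
  unfold Ymat
  rw [Matrix.det_fin_three]
  simp

theorem det_Smat (ζ ρ : F) (hζ : ζ ≠ 0) : (Smat ζ ρ).det = 1 := by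
  unfold Smat
  rw [Matrix.det_fin_three]
  simp
  field_simp

theorem det_Zmat (ζ : F) (hζ : ζ ≠ 0) : (Zmat ζ).det = 1 := by
  unfold Zmat
  rw [Matrix.det_fin_three]
  simp
  field_simp

theorem det_Dmat (ζ : F) (hζ : ζ ≠ 0) : (Dmat ζ).det = 1 := by
  unfold Dmat
  rw [Matrix.det_fin_three]
  simp
  field_simp

/-- (V1) `det (Ymat n w) = 1` identically (`Matrix.det_fin_three`, `ring`). -/
theorem yEl_val (n w : F) : (yEl n w).1 = Ymat n w := by
  have hd := det_Ymat n w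
  simp [yEl, hd]

/-- (V2) `det = ζ * ζ * (ζ^2)⁻¹ = 1`. -/
theorem sEl_val (ζ ρ : F) (hζ : ζ ≠ 0) : (sEl ζ ρ).1 = Smat ζ ρ := by
  have hd := det_Smat ζ ρ hζ
  simp [sEl, hd]

/-- (V3) -/
theorem zEl_val (ζ : F) (hζ : ζ ≠ 0) : (zEl ζ).1 = Zmat ζ := by
  have hd := det_Zmat ζ hζ
  simp [zEl, hd]

/-- (V4) -/
theorem dEl_val (ζ : F) (hζ : ζ ≠ 0) : (dEl ζ).1 = Dmat ζ := by
  have hd := det_Dmat ζ hζ
  simp [dEl, hd]

end Cfsg.Agent.Helper60.RT
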