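import Mathlib
import Cfsg.Agent.Lib.Helper98.RT0
import Cfsg.Agent.Lib.Helper60.RTV

/-!
# RT (U1): `y` is regular unipotent (helper98's server, S2278)
-/

set_option autoImplicit false

namespace Cfsg.Agent.Helper60.RT

open Matrix Cfsg.Agent.Helper93.RU Cfsg.Agent.Helper98.RT

variable {F : Type*} [Field F]

/-- (U1) `(Ymat n w - 1)^3 = 0` (entrywise, `ring`); the `(0,2)` entry of `(Ymat n w - 1)^2` is `1`. -/
theorem yEl_regular (n w : F) :
    IsNilpotent ((yEl n w).1 - 1) ∧ ((yEl n w).1 - 1) ^ (3 - 1) ≠ 0 := by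
  rw [yEl_val]
  constructor
  · refine ⟨3, ?_⟩
    rw [pow_succ, pow_two]
    ext i j
    fin_cases i <;> fin_cases j <;>
      simp [Ymat, Matrix.mul_apply, Fin.sum_univ_three, Matrix.one_apply] <;> ring
  · intro h
    have h02 := congrFun (congrFun h 0) 2
    rw [show (3 - 1 : ℕ) = 2 from rfl, pow_two] at h02
    simp [Ymat, Matrix.mul_apply, Fin.sum_univ_three, Matrix.one_apply] at h02

end Cfsg.Agent.Helper60.RT
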