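import Mathlib
import Cfsg.Agent.Lib.Helper98.SPE0
import Cfsg.Agent.Lib.Helper77.SPEQ1
import Cfsg.Agent.Lib.Helper19.SPEK1c

/-!
SPE (K2) `level_card_le` for helper98's lemma server (S2333), with the generic fibre-counting lemma and the
decomposition `x = s • x₁ + t • y₁ + w` w.r.t. a hyperbolic-like pair, reused by (K3), (K5).
Uses helper77's Q2/Q3 and helper19's K1c; (K1a) is re-proved privately as `k_card_perp_pair`.
-/

set_option autoImplicit false

namespace Cfsg.Agent.Helper60.SPE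

open Matrix Cfsg.Agent.Helper93.U2 Cfsg.Agent.Helper98.SPE
open Cfsg.Agent.Helper77.SPE (bv_add_left bv_smul_left bv_self)
open Cfsg.Agent.Helper19.SPE (qv_decomp)

/-- generic: a set of pairs whose first components lie in `W` and whose fibres have at most `N` elements
has at most `#W * N` elements. -/
theorem k_ncard_le_mul {α β : Type*} [Finite α] [Finite β] (T : Set (α × β)) (W : Set α) (N : ℕ)
    (hW : ∀ p ∈ T, p.1 ∈ W) (hN : ∀ w ∈ W, {b : β | (w, b) ∈ T}.ncard ≤ N) :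
    T.ncard ≤ W.ncard * N := by
  classical
  haveI := Fintype.ofFinite α
  haveI := Fintype.ofFinite β
  rw [Set.ncard_eq_toFinset_card' T, Set.ncard_eq_toFinset_card' W]
  have h1 : T.toFinset.card ≤ N * (T.toFinset.image Prod.fst).card := by
    refine Finset.card_le_mul_card_image (f := Prod.fst) T.toFinset N ?_
    intro w hw
    rw [Finset.mem_image] at hw
    obtain ⟨p, hp, rfl⟩ := hw
    rw [Set.mem_toFinset] at hp
    have hw' := hW p hp
    refine le_trans ?_ (hN p.1 hw')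
    rw [Set.ncard_eq_toFinset_card' {b : β | (p.1, b) ∈ T}]
    apply Finset.card_le_card_of_injOn Prod.snd
    · intro r hr
      simp only [Finset.coe_filter, Set.mem_ofPred_eq, Set.mem_toFinset] at hr
      obtain ⟨hrT, hr1⟩ := hr
      simp only [Set.coe_toFinset, Set.mem_ofPred_eq]
      rw [← hr1]
      exact hrT
    · intro r hr r' hr' h
      simp only [Finset.coe_filter, Set.mem_ofPred_eq, Set.mem_toFinset] at hr hr'
      exact Prod.ext (hr.2.trans hr'.2.symm) h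
  calc T.toFinset.card ≤ N * (T.toFinset.image Prod.fst).card := h1
    _ ≤ N * W.toFinset.card := by
      apply Nat.mul_le_mul_left
      apply Finset.card_le_card
      intro w hw
      rw [Finset.mem_image] at hw
      obtain ⟨p, hp, rfl⟩ := hw
      rw [Set.mem_toFinset] at hp ⊢
      exact hW p hp
    _ = W.toFinset.card * N := Nat.mul_comm _ _

section CNT

variable {F : Type*} [Field F] {n : ℕ}

noncomputable def kS (S : Matrix (Fin n) (Fin n) F) (x₁ y₁ x : Fin n → F) : F :=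
  bv S x y₁ / bv S x₁ y₁

noncomputable def kT (S : Matrix (Fin n) (Fin n) F) (x₁ y₁ x : Fin n → F) : F :=
  bv S x₁ x / bv S x₁ y₁

noncomputable def kW (S : Matrix (Fin n) (Fin n) F) (x₁ y₁ x : Fin n → F) : Fin n → F :=
  x + (-kS S x₁ y₁ x) • x₁ + (-kT S x₁ y₁ x) • y₁

theorem k_decomp (S : Matrix (Fin n) (Fin n) F) (x₁ y₁ x : Fin n → F) :
    x = kS S x₁ y₁ x • x₁ + kT S x₁ y₁ x • y₁ + kW S x₁ y₁ x := by
  unfold kW
  ext i
  simp only [Pi.add_apply, Pi.smul_apply, smul_eq_mul, neg_mul]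
  ring

theorem k_bv_self (h2 : (2 : F) = 0) (S : Matrix (Fin n) (Fin n) F) (x : Fin n → F) :
    bv S x x = 0 := by
  rw [bv_self, h2, zero_mul]

theorem kW_left (h2 : (2 : F) = 0) (S : Matrix (Fin n) (Fin n) F) (x₁ y₁ x : Fin n → F)
    (hb : bv S x₁ y₁ ≠ 0) : bv S (kW S x₁ y₁ x) x₁ = 0 := by
  unfold kW kT kS
  rw [bv_add_left, bv_add_left, bv_smul_left, bv_smul_left, k_bv_self h2, bv_symm S y₁ x₁,
    bv_symm S x x₁]
  field_simp
  ring

theorem kW_right (h2 : (2 : F) = 0) (S : Matrix (Fin n) (Fin n) F) (x₁ y₁ x : Fin n → F)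
    (hb : bv S x₁ y₁ ≠ 0) : bv S (kW S x₁ y₁ x) y₁ = 0 := by
  unfold kW kT kS
  rw [bv_add_left, bv_add_left, bv_smul_left, bv_smul_left, k_bv_self h2]
  field_simp
  ring

/-- `bv` of a combination `s • x₁ + t • y₁ + w` against `z`. -/
theorem k_bv_comb (S : Matrix (Fin n) (Fin n) F) (x₁ y₁ w z : Fin n → F) (s t : F) :
    bv S (s • x₁ + t • y₁ + w) z = s * bv S x₁ z + t * bv S y₁ z + bv S w z := by
  rw [bv_add_left, bv_add_left, bv_smul_left, bv_smul_left]

theorem kS_comb (h2 : (2 : F) = 0) (S : Matrix (Fin n) (Fin n) F) (x₁ y₁ w : Fin n → F) (s t : F)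
    (hb : bv S x₁ y₁ ≠ 0) (hw2 : bv S w y₁ = 0) :
    kS S x₁ y₁ (s • x₁ + t • y₁ + w) = s := by
  unfold kS
  rw [k_bv_comb, k_bv_self h2, hw2, mul_zero, add_zero, add_zero]
  exact mul_div_cancel_right₀ s hb

theorem kT_comb (h2 : (2 : F) = 0) (S : Matrix (Fin n) (Fin n) F) (x₁ y₁ w : Fin n → F) (s t : F)
    (hb : bv S x₁ y₁ ≠ 0) (hw1 : bv S w x₁ = 0) :
    kT S x₁ y₁ (s • x₁ + t • y₁ + w) = t := by
  unfold kT
  rw [bv_symm S x₁, k_bv_comb, k_bv_self h2, hw1, mul_zero, zero_add, add_zero, bv_symm S y₁ x₁]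
  exact mul_div_cancel_right₀ t hb

theorem k_qv [Fintype F] (h2 : (2 : F) = 0) (S : Matrix (Fin n) (Fin n) F) (x₁ y₁ x : Fin n → F)
    (hb : bv S x₁ y₁ ≠ 0) :
    qv S x = qv S x₁ * kS S x₁ y₁ x ^ 2 + bv S x₁ y₁ * kS S x₁ y₁ x * kT S x₁ y₁ x
      + qv S y₁ * kT S x₁ y₁ x ^ 2 + qv S (kW S x₁ y₁ x) := by
  have h := qv_decomp S x₁ y₁ (kW S x₁ y₁ x) (kS S x₁ y₁ x) (kT S x₁ y₁ x)
    (kW_left h2 S x₁ y₁ x hb) (kW_right h2 S x₁ y₁ x hb)
  rw [← k_decomp] at h
  exact h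

variable [Fintype F] {q : ℕ} (hq : Fintype.card F = q)

include hq in
/-- private copy of (K1a). -/
theorem k_card_perp_pair (h2 : (2 : F) = 0) (S : Matrix (Fin n) (Fin n) F) (x₁ y₁ : Fin n → F)
    (hb : bv S x₁ y₁ ≠ 0) :
    q ^ 2 * {w : Fin n → F | bv S w x₁ = 0 ∧ bv S w y₁ = 0}.ncard = q ^ n := by
  classical
  set W : Set (Fin n → F) := {w : Fin n → F | bv S w x₁ = 0 ∧ bv S w y₁ = 0} with hW
  let e : (Fin n → F) ≃ F × F × W :=
    { toFun := fun x => (kS S x₁ y₁ x, kT S x₁ y₁ x,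
        ⟨kW S x₁ y₁ x, kW_left h2 S x₁ y₁ x hb, kW_right h2 S x₁ y₁ x hb⟩)
      invFun := fun p => p.1 • x₁ + p.2.1 • y₁ + p.2.2.1
      left_inv := fun x => (k_decomp S x₁ y₁ x).symm
      right_inv := by
        rintro ⟨s, t, ⟨w, hw1, hw2⟩⟩
        have hs := kS_comb h2 S x₁ y₁ w s t hb hw2
        have ht := kT_comb h2 S x₁ y₁ w s t hb hw1
        refine Prod.ext hs (Prod.ext ht (Subtype.ext ?_))
        show kW S x₁ y₁ (s • x₁ + t • y₁ + w) = w
        unfold kW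
        rw [hs, ht]
        ext i
        simp only [Pi.add_apply, Pi.smul_apply, smul_eq_mul, neg_mul]
        ring }
  have h1 := Nat.card_congr e
  rw [Nat.card_fun, Nat.card_prod, Nat.card_prod, Nat.card_eq_fintype_card, hq, Nat.card_fin,
    Nat.card_coe_set_eq] at h1
  rw [h1]
  ring

include hq in
/-- piece K2 (uses K1a, K1c). Map `x ↦ w(x) = x - s(x) • x₁ - t(x) • y₁` (as in K1a) into `W`;
the fibre over `w` of `{x | qv S x = e}` injects into `{(s,t) | q₀(s,t) = e - qv S w}` (K1c),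
so `#level ≤ N * #W` (`Set.ncard`/`Finset.card_le_mul_card_image`), then K1a. -/
theorem level_card_le (h2 : (2 : F) = 0) (S : Matrix (Fin n) (Fin n) F) (x₁ y₁ : Fin n → F)
    (hb : bv S x₁ y₁ ≠ 0) (N : ℕ)
    (hN : ∀ e : F, {st : F × F | qv S x₁ * st.1 ^ 2 + bv S x₁ y₁ * st.1 * st.2
      + qv S y₁ * st.2 ^ 2 = e}.ncard ≤ N) (e : F) :
    {x : Fin n → F | qv S x = e}.ncard * q ^ 2 ≤ N * q ^ n := by
  classical
  set W : Set (Fin n → F) := {w : Fin n → F | bv S w x₁ = 0 ∧ bv S w y₁ = 0} with hWdef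
  have hK1a : q ^ 2 * W.ncard = q ^ n := k_card_perp_pair hq h2 S x₁ y₁ hb
  set T : Set ((Fin n → F) × (F × F)) := {p | p.1 ∈ W ∧
    qv S x₁ * p.2.1 ^ 2 + bv S x₁ y₁ * p.2.1 * p.2.2 + qv S y₁ * p.2.2 ^ 2 = e - qv S p.1} with hT
  have h1 : {x : Fin n → F | qv S x = e}.ncard ≤ T.ncard := by
    refine Set.ncard_le_ncard_of_injOn
      (fun x => (kW S x₁ y₁ x, (kS S x₁ y₁ x, kT S x₁ y₁ x))) ?_ ?_ (Set.toFinite T)
    · intro x hx
      simp only [Set.mem_ofPred_eq] at hx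
      refine ⟨⟨kW_left h2 S x₁ y₁ x hb, kW_right h2 S x₁ y₁ x hb⟩, ?_⟩
      have := k_qv h2 S x₁ y₁ x hb
      simp only
      rw [← hx, this]
      ring
    · intro x _ x' _ hxx'
      simp only [Prod.mk.injEq] at hxx'
      obtain ⟨hw, hs, ht⟩ := hxx'
      rw [k_decomp S x₁ y₁ x, k_decomp S x₁ y₁ x', hw, hs, ht]
  have h2' : T.ncard ≤ W.ncard * N := by
    refine k_ncard_le_mul T W N (fun p hp => hp.1) ?_
    intro w hw
    refine le_trans (Set.ncard_le_ncard ?_ (Set.toFinite _)) (hN (e - qv S w))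
    intro st hst
    simp only [Set.mem_ofPred_eq] at hst ⊢
    exact hst.2
  calc {x : Fin n → F | qv S x = e}.ncard * q ^ 2 ≤ W.ncard * N * q ^ 2 :=
        Nat.mul_le_mul_right _ (h1.trans h2')
    _ = N * (q ^ 2 * W.ncard) := by ring
    _ = N * q ^ n := by rw [hK1a]

end CNT

end Cfsg.Agent.Helper60.SPE
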