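import Mathlib
import Cfsg.Agent.Lib.Helper98.SPE0
import Cfsg.Agent.Lib.Helper60.SPEK2

/-!
SPE (K3) `fibre_card_le` for helper98's lemma server (S2333).
-/

set_option autoImplicit false

namespace Cfsg.Agent.Helper60.SPE

open Matrix Cfsg.Agent.Helper93.U2 Cfsg.Agent.Helper98.SPE

section CNT

variable {F : Type*} [Field F] [Fintype F] {q : ℕ} (hq : Fintype.card F = q) {n : ℕ}

include hq in
/-- piece K3 (uses K1a, K1c). If the set is empty there is nothing to prove. Otherwise fix `y₀` in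
it and decompose w.r.t. the pair `(x, y₀)`: `y = s • x + t • y₀ + w`, `bv S x y = t * b` forces
`t = 1`, and `qv S y = qv S x * s^2 + b * s + qv S y₀ + qv S w = c`: at most `R` values of `s`
for each `w`. -/
theorem fibre_card_le (h2 : (2 : F) = 0) (S : Matrix (Fin n) (Fin n) F) (x : Fin n → F)
    (b c : F) (hb : b ≠ 0) (R : ℕ)
    (hR : ∀ d : F, {s : F | qv S x * s ^ 2 + b * s = d}.ncard ≤ R) :
    {y : Fin n → F | qv S y = c ∧ bv S x y = b}.ncard * q ^ 2 ≤ R * q ^ n := by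
  classical
  rcases Set.eq_empty_or_nonempty {y : Fin n → F | qv S y = c ∧ bv S x y = b} with hemp | hne
  · rw [hemp, Set.ncard_empty, zero_mul]
    exact Nat.zero_le _
  obtain ⟨y₀, hy₀⟩ := hne
  simp only [Set.mem_ofPred_eq] at hy₀
  obtain ⟨hy₀c, hy₀b⟩ := hy₀
  have hb' : bv S x y₀ ≠ 0 := by rw [hy₀b]; exact hb
  set W : Set (Fin n → F) := {w : Fin n → F | bv S w x = 0 ∧ bv S w y₀ = 0} with hWdef
  have hK1a : q ^ 2 * W.ncard = q ^ n := k_card_perp_pair hq h2 S x y₀ hb'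
  set T : Set ((Fin n → F) × F) := {p | p.1 ∈ W ∧
    qv S x * p.2 ^ 2 + b * p.2 = c - qv S y₀ - qv S p.1} with hT
  have hkT : ∀ y : Fin n → F, bv S x y = b → kT S x y₀ y = 1 := by
    intro y hy
    unfold kT
    rw [hy, hy₀b]
    exact div_self hb
  have h1 : {y : Fin n → F | qv S y = c ∧ bv S x y = b}.ncard ≤ T.ncard := by
    refine Set.ncard_le_ncard_of_injOn
      (fun y => (kW S x y₀ y, kS S x y₀ y)) ?_ ?_ (Set.toFinite T)
    · intro y hy
      simp only [Set.mem_ofPred_eq] at hy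
      obtain ⟨hyc, hyb⟩ := hy
      refine ⟨⟨kW_left h2 S x y₀ y hb', kW_right h2 S x y₀ y hb'⟩, ?_⟩
      have := k_qv h2 S x y₀ y hb'
      rw [hkT y hyb, hy₀b, hyc] at this
      simp only
      rw [this]
      ring
    · intro y hy y' hy' hyy'
      simp only [Set.mem_ofPred_eq] at hy hy'
      simp only [Prod.mk.injEq] at hyy'
      obtain ⟨hw, hs⟩ := hyy'
      rw [k_decomp S x y₀ y, k_decomp S x y₀ y', hw, hs, hkT y hy.2, hkT y' hy'.2]
  have h2' : T.ncard ≤ W.ncard * R := by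
    refine k_ncard_le_mul T W R (fun p hp => hp.1) ?_
    intro w hw
    refine le_trans (Set.ncard_le_ncard ?_ (Set.toFinite _)) (hR (c - qv S y₀ - qv S w))
    intro s hs
    simp only [Set.mem_ofPred_eq] at hs ⊢
    exact hs.2
  calc {y : Fin n → F | qv S y = c ∧ bv S x y = b}.ncard * q ^ 2 ≤ W.ncard * R * q ^ 2 :=
        Nat.mul_le_mul_right _ (h1.trans h2')
    _ = R * (q ^ 2 * W.ncard) := by ring
    _ = R * q ^ n := by rw [hK1a]

end CNT

end Cfsg.Agent.Helper60.SPE
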