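import Mathlib
import Cfsg.Agent.Lib.Helper98.SPE0
import Cfsg.Agent.Lib.Helper60.SPEK2
import Cfsg.Agent.Lib.Helper60.SPEK3

/-!
SPE (K5) `pairs_card_le` for helper98's lemma server (S2333).
-/

set_option autoImplicit false

namespace Cfsg.Agent.Helper60.SPE

open Matrix Cfsg.Agent.Helper93.U2 Cfsg.Agent.Helper98.SPE

section CNT

variable {F : Type*} [Field F] [Fintype F] {q : ℕ} (hq : Fintype.card F = q) {n : ℕ}

include hq in
/-- piece K5 (uses K2, K3). If the set `P` is empty: trivial. Otherwise pick `(x₁, y₁) ∈ P` and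
apply K2 to it: `#{x | qv S x = a} * q^2 ≤ N * q^n`; by K3 each fibre
`{y | qv S y = c ∧ bv S x y = b}` (for `qv S x = a`) has `# * q^2 ≤ R * q^n`;
`P = ⋃_x {x} × fibre x`, so `#P ≤ #level * max fibre`. -/
theorem pairs_card_le (h2 : (2 : F) = 0) (S : Matrix (Fin n) (Fin n) F) (a b c : F) (hb : b ≠ 0)
    (N R : ℕ)
    (hN : ∀ e : F, {st : F × F | a * st.1 ^ 2 + b * st.1 * st.2 + c * st.2 ^ 2 = e}.ncard ≤ N)
    (hR : ∀ d : F, {s : F | a * s ^ 2 + b * s = d}.ncard ≤ R) :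
    {xy : (Fin n → F) × (Fin n → F) |
        qv S xy.1 = a ∧ qv S xy.2 = c ∧ bv S xy.1 xy.2 = b}.ncard * q ^ 4
      ≤ R * N * q ^ (2 * n) := by
  classical
  set P : Set ((Fin n → F) × (Fin n → F)) := {xy : (Fin n → F) × (Fin n → F) |
        qv S xy.1 = a ∧ qv S xy.2 = c ∧ bv S xy.1 xy.2 = b} with hP
  rcases Set.eq_empty_or_nonempty P with hemp | hne
  · rw [hemp, Set.ncard_empty, zero_mul]
    exact Nat.zero_le _
  obtain ⟨⟨x₁, y₁⟩, hxy⟩ := hne
  simp only [hP, Set.mem_ofPred_eq] at hxy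
  obtain ⟨hx₁, hy₁, hb₁⟩ := hxy
  have hqpos : 0 < q := by rw [← hq]; exact Fintype.card_pos
  have hq2pos : 0 < q ^ 2 := pow_pos hqpos 2
  -- the level set
  have hL : {x : Fin n → F | qv S x = a}.ncard * q ^ 2 ≤ N * q ^ n := by
    refine level_card_le hq h2 S x₁ y₁ (by rw [hb₁]; exact hb) N ?_ a
    intro e
    rw [hx₁, hy₁, hb₁]
    exact hN e
  -- the fibres
  have hfib : ∀ x : Fin n → F, qv S x = a →
      {y : Fin n → F | qv S y = c ∧ bv S x y = b}.ncard * q ^ 2 ≤ R * q ^ n := by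
    intro x hx
    refine fibre_card_le hq h2 S x b c hb R ?_
    intro d
    rw [hx]
    exact hR d
  set M : ℕ := R * q ^ n / q ^ 2 with hM
  have hfib' : ∀ x ∈ {x : Fin n → F | qv S x = a},
      {y : Fin n → F | (x, y) ∈ P}.ncard ≤ M := by
    intro x hx
    simp only [Set.mem_ofPred_eq] at hx
    rw [hM, Nat.le_div_iff_mul_le hq2pos]
    refine le_trans (Nat.mul_le_mul_right _ (Set.ncard_le_ncard ?_ (Set.toFinite _))) (hfib x hx)
    intro y hy
    simp only [hP, Set.mem_ofPred_eq] at hy ⊢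
    exact ⟨hy.2.1, hy.2.2⟩
  have hPle : P.ncard ≤ {x : Fin n → F | qv S x = a}.ncard * M :=
    k_ncard_le_mul P _ M (fun p hp => hp.1) hfib'
  have hMle : M * q ^ 2 ≤ R * q ^ n := Nat.div_mul_le_self _ _
  calc P.ncard * q ^ 4 ≤ {x : Fin n → F | qv S x = a}.ncard * M * q ^ 4 :=
        Nat.mul_le_mul_right _ hPle
    _ = ({x : Fin n → F | qv S x = a}.ncard * q ^ 2) * (M * q ^ 2) := by ring
    _ ≤ (N * q ^ n) * (R * q ^ n) := Nat.mul_le_mul hL hMle
    _ = R * N * q ^ (2 * n) := by ring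

end CNT

end Cfsg.Agent.Helper60.SPE
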