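import Mathlib
import Cfsg.Agent.Lib.Helper62.SUO0
import Cfsg.Agent.Lib.Helper53.SUOE3

/-!
# SUO server (helper62, S2282), piece (E4) core: `WW_all` with (E2a) (E2c) as hypotheses
-/

set_option autoImplicit false
set_option linter.unusedSectionVars false
set_option linter.unusedVariables false
set_option quotPrecheck false

namespace Cfsg.Agent.Helper60.SUO

open Matrix Cfsg Cfsg.Agent.Helper13 Cfsg.Agent.Helper87.PsuA Cfsg.Agent.Helper62.SUO

section E
variable {F : Type*} [Field F] [Fintype F] {q n : ℕ} (hF : Fintype.card F = q ^ 2)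
  {Hs : Subgroup ↥(Cfsg.SU n F q)}

local notation "V" => Fin n → F
local notation "G" => ↥(Cfsg.SU n F q)
local notation "H" => Cfsg.hermForm n F q

include hF

theorem h60_H_symm_ne {x y : V} (h : H x y ≠ 0) : H y x ≠ 0 := by
  intro h0
  exact h (H_symm_zero hF h0)

/-- (E4) with (E2a) and (E2c) as hypotheses -/
theorem h60_WW_all_core
    (hact : ∀ {v : V}, v ∈ WW hF Hs → ∀ {h : G}, h ∈ Hs → actv h v ∈ WW hF Hs)
    (hstep : ∀ {e v v' : V}, e ∈ WW hF Hs → v ∈ WW hF Hs → H v' v' = 0 → H v e ≠ 0 →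
      H v' e ≠ 0 → v' ∈ WW hF Hs)
    {e0 : V} (he : e0 ∈ WW hF Hs) {t : G} (ht : t ∈ Hs)
    (hte : H (actv t e0) e0 ≠ 0) : ∀ v : V, v ≠ 0 → H v v = 0 → v ∈ WW hF Hs := by
  have he1 : actv t e0 ∈ WW hF Hs := hact he ht
  have he0ne : e0 ≠ 0 := by
    rintro rfl
    exact hte (H_zero_right hF _)
  have hcase1 : ∀ v : V, H v v = 0 → H v e0 ≠ 0 → v ∈ WW hF Hs :=
    fun v hvv hve => hstep he he1 hvv hte hve
  intro v hv hvv
  by_cases hve : H v e0 = 0
  · obtain ⟨v', hv'v', hv'e, hv'v⟩ :=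
      Cfsg.Agent.Helper53.SUO.exists_opp hF he0ne hv he.1 (H_symm_zero hF hve)
    have hv'W : v' ∈ WW hF Hs := hcase1 v' hv'v' hv'e
    exact hstep hv'W he hvv (h60_H_symm_ne hF hv'e) (h60_H_symm_ne hF hv'v)
  · exact hcase1 v hvv hve

end E

end Cfsg.Agent.Helper60.SUO
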