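import Mathlib
import Cfsg.Agent.Lib.Helper62.SUO0
import Cfsg.Agent.Lib.Helper66.SUOE2
import Cfsg.Agent.Lib.Helper60.SUOE4Core

/-!
# SUO server (helper62, S2282), piece (E4): `WW_all` (E2c twice, E3)
-/

set_option autoImplicit false
set_option linter.unusedSectionVars false
set_option linter.unusedVariables false
set_option quotPrecheck false

namespace Cfsg.Agent.Helper60.SUO

open Matrix Cfsg Cfsg.Agent.Helper13 Cfsg.Agent.Helper87.PsuA Cfsg.Agent.Helper62.SUO

section E
variable {F : Type*} [Field F] [Fintype F] {q n : ℕ} (hF : Fintype.card F = q ^ 2)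
  {Hs : Subgroup ↥(Cfsg.SU n F q)}

local notation "V" => Fin n → F
local notation "G" => ↥(Cfsg.SU n F q)
local notation "H" => Cfsg.hermForm n F q

include hF

/-- (E4) E2c twice, E3 -/
theorem WW_all {e0 : V} (he : e0 ∈ WW hF Hs) {t : G} (ht : t ∈ Hs)
    (hte : H (actv t e0) e0 ≠ 0) : ∀ v : V, v ≠ 0 → H v v = 0 → v ∈ WW hF Hs :=
  h60_WW_all_core hF (fun hv _ hh => Cfsg.Agent.Helper66.SUO.WW_act hF hv hh)
    (fun he hv hv'v' hve hv'e => Cfsg.Agent.Helper66.SUO.WW_step hF he hv hv'v' hve hv'e)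
    he ht hte

end E

end Cfsg.Agent.Helper60.SUO
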