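import Mathlib
import Cfsg.Prelude.Def_Sz

set_option autoImplicit false

namespace Cfsg.Agent.Helper60

open Matrix Cfsg.Lie

variable {F : Type*} [Field F]

/-- the antidiagonal Gram matrix of `altForm4` -/
def J4 (F : Type*) [Field F] : Matrix (Fin 4) (Fin 4) F :=
  !![0, 0, 0, 1; 0, 0, 1, 0; 0, 1, 0, 0; 1, 0, 0, 0]

/-- true 2×2 minor on rows `k l`, columns `i j` -/
def minor2 (g : Matrix (Fin 4) (Fin 4) F) (k l i j : Fin 4) : F :=
  g k i * g l j - g l i * g k j

theorem star4_apply (g : Matrix (Fin 4) (Fin 4) F) (p r : Fin 4) :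
    star4 g p r = minor2 g (pairOf p).1 (pairOf p).2 (pairOf r).1 (pairOf r).2 := rfl

theorem altForm4_eq (u v : Fin 4 → F) : altForm4 u v = u ⬝ᵥ (J4 F *ᵥ v) := by
  simp [altForm4, J4, dotProduct, Matrix.mulVec, Fin.sum_univ_four]

theorem J4_mul_self : J4 F * J4 F = 1 := by
  ext i j
  fin_cases i <;> fin_cases j <;> simp [J4, Matrix.mul_apply, Fin.sum_univ_four]

theorem J4_transpose : (J4 F)ᵀ = J4 F := by
  ext i j
  fin_cases i <;> fin_cases j <;> simp [J4]

/-- column form of the symplectic condition -/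
theorem mem_Sp4_iff (g : GL (Fin 4) F) :
    g ∈ Sp4 F ↔ (g : Matrix (Fin 4) (Fin 4) F)ᵀ * J4 F * (g : Matrix (Fin 4) (Fin 4) F) = J4 F := by
  change (∀ u v : Fin 4 → F, altForm4 ((g : Matrix (Fin 4) (Fin 4) F) *ᵥ u)
    ((g : Matrix (Fin 4) (Fin 4) F) *ᵥ v) = altForm4 u v) ↔ _
  simp only [altForm4_eq]
  constructor
  · intro h
    ext i j
    have := h (Pi.single i 1) (Pi.single j 1)
    simp only [Matrix.mulVec_mulVec, Matrix.dotProduct_mulVec, Matrix.vecMul_mulVec] at this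
    simpa [Matrix.mul_assoc, Matrix.vecMul_mulVec] using this
  · intro h u v
    have h1 : (g : Matrix (Fin 4) (Fin 4) F) *ᵥ u ⬝ᵥ J4 F *ᵥ (g : Matrix (Fin 4) (Fin 4) F) *ᵥ v
        = u ⬝ᵥ (((g : Matrix (Fin 4) (Fin 4) F)ᵀ * J4 F * (g : Matrix (Fin 4) (Fin 4) F)) *ᵥ v) := by
      rw [Matrix.mulVec_mulVec, Matrix.dotProduct_mulVec, Matrix.vecMul_mulVec,
        ← Matrix.dotProduct_mulVec, Matrix.mul_assoc]
    rw [h1, h]


/-- matrix form of the symplectic condition -/
def IsSp (g : Matrix (Fin 4) (Fin 4) F) : Prop := gᵀ * J4 F * g = J4 F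

theorem IsSp.col {g : Matrix (Fin 4) (Fin 4) F} (h : IsSp g) (i j : Fin 4) :
    g 0 i * g 3 j + g 1 i * g 2 j + g 2 i * g 1 j + g 3 i * g 0 j = J4 F i j := by
  have := congrFun (congrFun h i) j
  rw [← this]
  simp [Matrix.mul_apply, Fin.sum_univ_four, J4]
  ring

theorem IsSp.mul_transpose {g : Matrix (Fin 4) (Fin 4) F} (h : IsSp g) :
    g * J4 F * gᵀ = J4 F := by
  have h1 : (J4 F * gᵀ * J4 F) * g = 1 := by
    rw [Matrix.mul_assoc, Matrix.mul_assoc, ← Matrix.mul_assoc gᵀ, h, J4_mul_self]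
  have h2 : g * (J4 F * gᵀ * J4 F) = 1 := mul_eq_one_comm.mp h1
  calc g * J4 F * gᵀ = g * (J4 F * gᵀ * J4 F) * J4 F := by
        simp only [Matrix.mul_assoc, J4_mul_self, Matrix.mul_one]
    _ = J4 F := by rw [h2, Matrix.one_mul]

theorem IsSp.row {g : Matrix (Fin 4) (Fin 4) F} (h : IsSp g) (k l : Fin 4) :
    g k 0 * g l 3 + g k 1 * g l 2 + g k 2 * g l 1 + g k 3 * g l 0 = J4 F k l := by
  have := congrFun (congrFun h.mul_transpose k) l
  rw [← this]
  simp [Matrix.mul_apply, Fin.sum_univ_four, J4]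
  ring

theorem IsSp.mul {g h : Matrix (Fin 4) (Fin 4) F} (hg : IsSp g) (hh : IsSp h) : IsSp (g * h) := by
  unfold IsSp at *
  calc (g * h)ᵀ * J4 F * (g * h) = hᵀ * (gᵀ * J4 F * g) * h := by
        rw [Matrix.transpose_mul]; simp only [Matrix.mul_assoc]
    _ = J4 F := by rw [hg, hh]

theorem isSp_one : IsSp (1 : Matrix (Fin 4) (Fin 4) F) := by
  unfold IsSp; simp

section char2

variable [CharP F 2]

theorem IsSp.colMinor {g : Matrix (Fin 4) (Fin 4) F} (h : IsSp g) (i j : Fin 4) :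
    minor2 g 0 3 i j + minor2 g 1 2 i j = J4 F i j := by
  have T : (2 : F) = 0 := CharTwo.two_eq_zero
  have := h.col i j
  unfold minor2
  linear_combination this - (g 3 i * g 0 j + g 2 i * g 1 j) * T

theorem IsSp.rowMinor {g : Matrix (Fin 4) (Fin 4) F} (h : IsSp g) (k l : Fin 4) :
    minor2 g k l 0 3 + minor2 g k l 1 2 = J4 F k l := by
  have T : (2 : F) = 0 := CharTwo.two_eq_zero
  have := h.row k l
  unfold minor2
  linear_combination this - (g l 0 * g k 3 + g l 1 * g k 2) * T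

omit [CharP F 2] in
theorem J4_pair (p : Fin 4) : J4 F (pairOf p).1 (pairOf p).2 = 0 := by
  fin_cases p <;> simp [J4, pairOf]

omit [CharP F 2] in
/-- Cauchy–Binet for 2×2 minors of 4×4 matrices -/
theorem minor2_mul (g h : Matrix (Fin 4) (Fin 4) F) (k l i j : Fin 4) :
    minor2 (g * h) k l i j =
      minor2 g k l 0 1 * minor2 h 0 1 i j + minor2 g k l 0 2 * minor2 h 0 2 i j +
      minor2 g k l 0 3 * minor2 h 0 3 i j + minor2 g k l 1 2 * minor2 h 1 2 i j +
      minor2 g k l 1 3 * minor2 h 1 3 i j + minor2 g k l 2 3 * minor2 h 2 3 i j := by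
  simp only [minor2, Matrix.mul_apply, Fin.sum_univ_four]
  ring

/-- `star4` is multiplicative on symplectic matrices in characteristic 2 -/
theorem star4_mul {g h : Matrix (Fin 4) (Fin 4) F} (hg : IsSp g) (hh : IsSp h) :
    star4 (g * h) = star4 g * star4 h := by
  have T : (2 : F) = 0 := CharTwo.two_eq_zero
  ext p r
  rw [Matrix.mul_apply, Fin.sum_univ_four]
  simp only [star4_apply]
  rw [minor2_mul]
  have hr := hg.rowMinor (pairOf p).1 (pairOf p).2
  have hc := hh.colMinor (pairOf r).1 (pairOf r).2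
  rw [J4_pair] at hr hc
  have e0 : pairOf (0 : Fin 4) = (0, 1) := rfl
  have e1 : pairOf (1 : Fin 4) = (0, 2) := rfl
  have e2 : pairOf (2 : Fin 4) = (1, 3) := rfl
  have e3 : pairOf (3 : Fin 4) = (2, 3) := rfl
  simp only [e0, e1, e2, e3]
  generalize (pairOf p).1 = k at *
  generalize (pairOf p).2 = l at *
  generalize (pairOf r).1 = i at *
  generalize (pairOf r).2 = j at *
  linear_combination (minor2 h 0 3 i j) * hr + (minor2 g k l 1 2) * hc
    - (minor2 g k l 1 2) * (minor2 h 0 3 i j) * T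

end char2

end Cfsg.Agent.Helper60
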