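import Mathlib
import Cfsg.Agent.Lib.Helper60.SzBasic

set_option autoImplicit false

namespace Cfsg.Agent.Helper60

open Matrix Polynomial Cfsg.Lie

theorem det_fin_four' {R : Type*} [CommRing R] (A : Matrix (Fin 4) (Fin 4) R) :
    A.det = A 0 0 * (A 1 1 * A 2 2 * A 3 3 - A 1 1 * A 2 3 * A 3 2 - A 1 2 * A 2 1 * A 3 3 + A 1 2 * A 2 3 * A 3 1 + A 1 3 * A 2 1 * A 3 2 - A 1 3 * A 2 2 * A 3 1)
      - A 0 1 * (A 1 0 * A 2 2 * A 3 3 - A 1 0 * A 2 3 * A 3 2 - A 1 2 * A 2 0 * A 3 3 + A 1 2 * A 2 3 * A 3 0 + A 1 3 * A 2 0 * A 3 2 - A 1 3 * A 2 2 * A 3 0)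
      + A 0 2 * (A 1 0 * A 2 1 * A 3 3 - A 1 0 * A 2 3 * A 3 1 - A 1 1 * A 2 0 * A 3 3 + A 1 1 * A 2 3 * A 3 0 + A 1 3 * A 2 0 * A 3 1 - A 1 3 * A 2 1 * A 3 0)
      - A 0 3 * (A 1 0 * A 2 1 * A 3 2 - A 1 0 * A 2 2 * A 3 1 - A 1 1 * A 2 0 * A 3 2 + A 1 1 * A 2 2 * A 3 0 + A 1 2 * A 2 0 * A 3 1 - A 1 2 * A 2 1 * A 3 0) := by
  rw [Matrix.det_succ_row_zero, Fin.sum_univ_four]
  simp only [Matrix.det_fin_three, submatrix_apply]
  simp [Fin.succAbove]
  ring

/-- sum of principal 3×3 minors -/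
def e3 {R : Type*} [CommRing R] (A : Matrix (Fin 4) (Fin 4) R) : R :=
  (A 1 1 * A 2 2 * A 3 3 - A 1 1 * A 2 3 * A 3 2 - A 1 2 * A 2 1 * A 3 3 + A 1 2 * A 2 3 * A 3 1 + A 1 3 * A 2 1 * A 3 2 - A 1 3 * A 2 2 * A 3 1)
  + (A 0 0 * A 2 2 * A 3 3 - A 0 0 * A 2 3 * A 3 2 - A 0 2 * A 2 0 * A 3 3 + A 0 2 * A 2 3 * A 3 0 + A 0 3 * A 2 0 * A 3 2 - A 0 3 * A 2 2 * A 3 0)
  + (A 0 0 * A 1 1 * A 3 3 - A 0 0 * A 1 3 * A 3 1 - A 0 1 * A 1 0 * A 3 3 + A 0 1 * A 1 3 * A 3 0 + A 0 3 * A 1 0 * A 3 1 - A 0 3 * A 1 1 * A 3 0)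
  + (A 0 0 * A 1 1 * A 2 2 - A 0 0 * A 1 2 * A 2 1 - A 0 1 * A 1 0 * A 2 2 + A 0 1 * A 1 2 * A 2 0 + A 0 2 * A 1 0 * A 2 1 - A 0 2 * A 1 1 * A 2 0)

/-- sum of principal 2×2 minors -/
def e2 {F : Type*} [Field F] (M : Matrix (Fin 4) (Fin 4) F) : F :=
  minor2 M 0 1 0 1 + minor2 M 0 2 0 2 + minor2 M 0 3 0 3 + minor2 M 1 2 1 2 + minor2 M 1 3 1 3 +
    minor2 M 2 3 2 3

/-- trace -/
def e1 {F : Type*} [Field F] (M : Matrix (Fin 4) (Fin 4) F) : F := M 0 0 + M 1 1 + M 2 2 + M 3 3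

theorem charpoly_fin_four {F : Type*} [Field F] (M : Matrix (Fin 4) (Fin 4) F) :
    M.charpoly = X ^ 4 - C (e1 M) * X ^ 3 + C (e2 M) * X ^ 2 - C (e3 M) * X + C M.det := by
  rw [Matrix.charpoly, det_fin_four', det_fin_four' M]
  simp only [Matrix.charmatrix_apply, Matrix.diagonal_apply, minor2, e1, e2, e3]
  simp only [map_add, map_sub, map_mul]
  simp
  ring

variable {F : Type*} [Field F] [CharP F 2]

theorem IsSp.e2_eq {g : Matrix (Fin 4) (Fin 4) F} (h : IsSp g) :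
    e2 g = Matrix.trace (star4 g) := by
  have T : (2 : F) = 0 := CharTwo.two_eq_zero
  have c := h.colMinor 0 3
  have r := h.rowMinor 1 2
  have hJ03 : J4 F 0 3 = 1 := by simp [J4]
  have hJ12 : J4 F 1 2 = 1 := by simp [J4]
  rw [hJ03] at c
  rw [hJ12] at r
  rw [Matrix.trace, Fin.sum_univ_four]
  simp only [Matrix.diag_apply, star4_apply]
  have e0 : pairOf (0 : Fin 4) = (0, 1) := rfl
  have e1' : pairOf (1 : Fin 4) = (0, 2) := rfl
  have e2' : pairOf (2 : Fin 4) = (1, 3) := rfl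
  have e3' : pairOf (3 : Fin 4) = (2, 3) := rfl
  simp only [e0, e1', e2', e3', e2]
  linear_combination c + r + (1 - minor2 g 1 2 0 3) * T

theorem IsSp.det_eq_one {g : Matrix (Fin 4) (Fin 4) F} (h : IsSp g) : g.det = 1 := by
  have T : (2 : F) = 0 := CharTwo.two_eq_zero
  have hJ : (J4 F).det * (J4 F).det = 1 := by rw [← Matrix.det_mul, J4_mul_self, Matrix.det_one]
  have hJ0 : (J4 F).det ≠ 0 := by
    intro h0; rw [h0, zero_mul] at hJ; exact zero_ne_one hJ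
  have h1 : g.det * (J4 F).det * g.det = (J4 F).det := by
    have := congrArg Matrix.det h
    rwa [Matrix.det_mul, Matrix.det_mul, Matrix.det_transpose] at this
  have h2 : g.det * g.det = 1 := by
    have : (g.det * g.det - 1) * (J4 F).det = 0 := by linear_combination h1
    rcases mul_eq_zero.mp this with h | h
    · linear_combination h
    · exact absurd h hJ0
  have h3 : (g.det - 1) ^ 2 = 0 := by linear_combination h2 + (1 - g.det) * T
  have := pow_eq_zero_iff (two_ne_zero) |>.mp h3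
  linear_combination this

omit [CharP F 2] in
theorem IsSp.inv_eq {g : Matrix (Fin 4) (Fin 4) F} (h : IsSp g) : g⁻¹ = J4 F * gᵀ * J4 F := by
  apply Matrix.inv_eq_left_inv
  rw [Matrix.mul_assoc, Matrix.mul_assoc, ← Matrix.mul_assoc gᵀ, h, J4_mul_self]

/-- the characteristic polynomial of a symplectic matrix is palindromic -/
theorem IsSp.reverse_charpoly {g : Matrix (Fin 4) (Fin 4) F} (h : IsSp g) :
    g.charpoly.reverse = g.charpoly := by
  have hdet := h.det_eq_one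
  have hunit : IsUnit g := (Matrix.isUnit_iff_isUnit_det g).mpr (hdet ▸ isUnit_one)
  have h1 := Matrix.charpoly_inv g hunit
  rw [hdet, Ring.inverse_one, Fintype.card_fin] at h1
  have h2 : g⁻¹.charpoly = g.charpolyRev := by
    rw [h1]
    have : ((-1 : F[X]) ^ 4) = 1 := by norm_num
    rw [this, map_one, one_mul, one_mul]
  rw [Matrix.reverse_charpoly, ← h2, h.inv_eq]
  let Ju : (Matrix (Fin 4) (Fin 4) F)ˣ := ⟨J4 F, J4 F, J4_mul_self, J4_mul_self⟩
  have h3 := Matrix.charpoly_units_conj Ju gᵀ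
  have h4 : (Ju : Matrix (Fin 4) (Fin 4) F)⁻¹ = J4 F := Matrix.inv_eq_left_inv J4_mul_self
  have h5 : (Ju : Matrix (Fin 4) (Fin 4) F) = J4 F := rfl
  rw [h4, h5] at h3
  rw [h3, Matrix.charpoly_transpose]

theorem IsSp.e3_eq {g : Matrix (Fin 4) (Fin 4) F} (h : IsSp g) : e3 g = e1 g := by
  have h1 := h.reverse_charpoly
  have h2 := congrArg (fun p => Polynomial.coeff p 1) h1
  simp only [Polynomial.coeff_reverse, Matrix.charpoly_natDegree_eq_dim, Fintype.card_fin] at h2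
  have h3 : Polynomial.revAt 4 1 = 3 := by decide
  rw [h3, charpoly_fin_four] at h2
  simp only [Polynomial.coeff_add, Polynomial.coeff_sub, Polynomial.coeff_C_mul,
    Polynomial.coeff_X_pow, Polynomial.coeff_X, Polynomial.coeff_C] at h2
  norm_num at h2
  linear_combination -h2


/-- Key fact: an element of the Suzuki set with a nonzero fixed vector is unipotent of order
dividing 4. -/
theorem pow_four_eq_one_of_fixed {g : Matrix (Fin 4) (Fin 4) F} (h : IsSp g) (φ : F →+* F)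
    (hstar : star4 g = g.map φ) (hφ0 : ∀ x, φ x = 0 → x = 0) (v : Fin 4 → F) (hv : v ≠ 0)
    (hfix : g *ᵥ v = v) : g ^ 4 = 1 := by
  have T : (2 : F) = 0 := CharTwo.two_eq_zero
  have he2 : e2 g = φ (e1 g) := by
    rw [h.e2_eq, hstar, Matrix.trace, Fin.sum_univ_four]
    simp only [Matrix.diag_apply, Matrix.map_apply, e1, map_add]
  have hcp := charpoly_fin_four g
  rw [h.e3_eq, he2, h.det_eq_one] at hcp
  -- eigenvalue 1
  have hdet : (1 - g).det = 0 := by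
    apply Matrix.exists_mulVec_eq_zero_iff.mp
    refine ⟨v, hv, ?_⟩
    rw [Matrix.sub_mulVec, Matrix.one_mulVec, hfix, sub_self]
  have heval : g.charpoly.eval 1 = 0 := by
    rw [Matrix.eval_charpoly]
    simpa using hdet
  rw [hcp] at heval
  simp only [Polynomial.eval_add, Polynomial.eval_sub, Polynomial.eval_mul, Polynomial.eval_pow,
    Polynomial.eval_X, Polynomial.eval_C, one_pow, mul_one] at heval
  have hφa : φ (e1 g) = 0 := by linear_combination heval + (e1 g - 1) * T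
  have ha : e1 g = 0 := hφ0 _ hφa
  rw [ha, map_zero] at hcp
  have hCH := Matrix.aeval_self_charpoly g
  rw [hcp] at hCH
  simp only [map_zero, zero_mul, sub_zero, add_zero, map_add, map_pow, Polynomial.aeval_X,
    map_one] at hCH
  have h2 : (2 : Matrix (Fin 4) (Fin 4) F) = 0 := by
    ext i j
    have : (2 : Matrix (Fin 4) (Fin 4) F) i j = if i = j then 2 else 0 := by
      rw [show (2 : Matrix (Fin 4) (Fin 4) F) = (1 : Matrix (Fin 4) (Fin 4) F) + 1 by norm_num]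
      by_cases hij : i = j <;> simp [hij]
      norm_num
    rw [this]; split_ifs <;> simp [T]
  have h3 : g ^ 4 = (g ^ 4 + 1) - 2 + 1 := by
    rw [show (2 : Matrix (Fin 4) (Fin 4) F) = 1 + 1 by norm_num]; abel
  rw [h3, hCH, h2]; simp

end Cfsg.Agent.Helper60
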