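import Mathlib
import Cfsg.Agent.Lib.Helper60.SzCharpoly

set_option autoImplicit false

namespace Cfsg.Agent.Helper60

open Matrix Cfsg.Lie

variable {F : Type*} [Field F] [CharP F 2]

/-- the field endomorphism `x ↦ x ^ (2 ^ n)` -/
noncomputable def theta (F : Type*) [Field F] [CharP F 2] (n : ℕ) : F →+* F :=
  iterateFrobenius F 2 n

theorem theta_apply (n : ℕ) (x : F) : theta F n x = x ^ 2 ^ n := iterateFrobenius_def 2 n x

theorem map_pow_eq (n : ℕ) (g : Matrix (Fin 4) (Fin 4) F) :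
    g.map (fun x => x ^ 2 ^ n) = g.map (theta F n) := by
  ext i j
  simp [theta_apply]

omit [CharP F 2] in
theorem star4_one : star4 (1 : Matrix (Fin 4) (Fin 4) F) = 1 := by
  have e0 : pairOf (0 : Fin 4) = (0, 1) := rfl
  have e1 : pairOf (1 : Fin 4) = (0, 2) := rfl
  have e2 : pairOf (2 : Fin 4) = (1, 3) := rfl
  have e3 : pairOf (3 : Fin 4) = (2, 3) := rfl
  ext p r
  rw [star4_apply]
  fin_cases p <;> fin_cases r <;> simp [minor2, e0, e1, e2, e3]

/-- membership predicate of the Suzuki generating set -/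
def InX (n : ℕ) (g : GL (Fin 4) F) : Prop :=
  g ∈ Sp4 F ∧ star4 (g : Matrix (Fin 4) (Fin 4) F) =
    (g : Matrix (Fin 4) (Fin 4) F).map (fun x => x ^ 2 ^ n)

omit [CharP F 2] in
theorem isSp_of_mem {g : GL (Fin 4) F} (h : g ∈ Sp4 F) : IsSp (g : Matrix (Fin 4) (Fin 4) F) :=
  (mem_Sp4_iff g).mp h

/-- The Suzuki generating set is a subgroup. -/
noncomputable def szSubgroup (F : Type*) [Field F] [CharP F 2] (n : ℕ) : Subgroup (GL (Fin 4) F) where
  carrier := {g | InX n g}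
  one_mem' := by
    refine ⟨(Sp4 F).one_mem, ?_⟩
    rw [map_pow_eq]
    simp [star4_one]
  mul_mem' := by
    rintro g h ⟨hg, hg'⟩ ⟨hh, hh'⟩
    refine ⟨(Sp4 F).mul_mem hg hh, ?_⟩
    rw [map_pow_eq] at *
    rw [Units.val_mul, star4_mul (isSp_of_mem hg) (isSp_of_mem hh), hg', hh', Matrix.map_mul]
  inv_mem' := by
    rintro g ⟨hg, hg'⟩
    have hgi : g⁻¹ ∈ Sp4 F := (Sp4 F).inv_mem hg
    refine ⟨hgi, ?_⟩
    rw [map_pow_eq] at *
    have h1 : star4 ((g⁻¹ : GL (Fin 4) F) : Matrix (Fin 4) (Fin 4) F) *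
        star4 (g : Matrix (Fin 4) (Fin 4) F) = 1 := by
      rw [← star4_mul (isSp_of_mem hgi) (isSp_of_mem hg), ← Units.val_mul, inv_mul_cancel,
        Units.val_one, star4_one]
    have h2 : ((g⁻¹ : GL (Fin 4) F) : Matrix (Fin 4) (Fin 4) F).map (theta F n) *
        (g : Matrix (Fin 4) (Fin 4) F).map (theta F n) = 1 := by
      rw [← Matrix.map_mul, ← Units.val_mul, inv_mul_cancel, Units.val_one]
      simp
    rw [hg'] at h1
    have h3 : (g : Matrix (Fin 4) (Fin 4) F).map (theta F n) *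
        ((g⁻¹ : GL (Fin 4) F) : Matrix (Fin 4) (Fin 4) F).map (theta F n) = 1 :=
      mul_eq_one_comm.mp h2
    calc star4 ((g⁻¹ : GL (Fin 4) F) : Matrix (Fin 4) (Fin 4) F)
        = star4 ((g⁻¹ : GL (Fin 4) F) : Matrix (Fin 4) (Fin 4) F) *
          ((g : Matrix (Fin 4) (Fin 4) F).map (theta F n) *
            ((g⁻¹ : GL (Fin 4) F) : Matrix (Fin 4) (Fin 4) F).map (theta F n)) := by
          rw [h3, Matrix.mul_one]
      _ = ((g⁻¹ : GL (Fin 4) F) : Matrix (Fin 4) (Fin 4) F).map (theta F n) := by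
          rw [← Matrix.mul_assoc, h1, Matrix.one_mul]

theorem Sz_eq (n : ℕ) : Sz F (2 ^ n) = szSubgroup F n := by
  unfold Sz
  exact Subgroup.closure_eq (szSubgroup F n)

theorem mem_Sz_iff (n : ℕ) (g : GL (Fin 4) F) : g ∈ Sz F (2 ^ n) ↔ InX n g := by
  rw [Sz_eq]; rfl

/-- elements of the Suzuki group with a nonzero fixed vector have order dividing 4 -/
theorem Sz_pow_four_eq_one (n : ℕ) {g : GL (Fin 4) F} (hg : g ∈ Sz F (2 ^ n)) (v : Fin 4 → F)
    (hv : v ≠ 0) (hfix : (g : Matrix (Fin 4) (Fin 4) F) *ᵥ v = v) : g ^ 4 = 1 := by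
  obtain ⟨h1, h2⟩ := (mem_Sz_iff n g).mp hg
  rw [map_pow_eq] at h2
  have := pow_four_eq_one_of_fixed (isSp_of_mem h1) (theta F n) h2
    (fun x hx => by rw [theta_apply] at hx; exact pow_eq_zero_iff (by positivity) |>.mp hx) v hv hfix
  apply Units.ext
  rw [Units.val_pow_eq_pow_val, this, Units.val_one]

end Cfsg.Agent.Helper60
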