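import Mathlib
import Cfsg.Prelude.Def_Classical
import Cfsg.Prelude.Def_SporadicB
import Cfsg.Agent.Lib.Helper92.U6Defs

/-!
# U6 server pieces (TV2) `exists_tvSU` (+ helper lemmas on the Hermitian form over `F4`), for helper92 (S1684)
-/

set_option autoImplicit false
set_option linter.unusedVariables false

namespace Cfsg.Agent.Helper60.U6

open Cfsg.Agent.Helper92.U6

theorem F_add_sq : ∀ s t : F, (s + t) ^ 2 = s ^ 2 + t ^ 2 := by decide +kernel

theorem F_pow4 : ∀ s : F, s ^ 4 = s := by decide +kernel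

theorem F_add_self : ∀ s : F, s + s = 0 := by decide +kernel

theorem F_cube : ∀ s : F, s ≠ 0 → s ^ 3 = 1 := by decide +kernel

theorem sq_sum {ι : Type*} (s : Finset ι) (a : ι → F) :
    (∑ i ∈ s, a i) ^ 2 = ∑ i ∈ s, (a i) ^ 2 := by
  classical
  induction s using Finset.induction_on with
  | empty => simp
  | insert i s hi ih => rw [Finset.sum_insert hi, Finset.sum_insert hi, F_add_sq, ih]

theorem hf_add_left (x x' w : Fin 6 → F) : hf (x + x') w = hf x w + hf x' w := by
  simp only [hf, Cfsg.hermForm, Pi.add_apply, add_mul, Finset.sum_add_distrib]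

theorem hf_smul_left (a : F) (x w : Fin 6 → F) : hf (a • x) w = a * hf x w := by
  simp only [hf, Cfsg.hermForm, Pi.smul_apply, smul_eq_mul, Finset.mul_sum, mul_assoc]

theorem hf_add_right (u y y' : Fin 6 → F) : hf u (y + y') = hf u y + hf u y' := by
  simp only [hf, Cfsg.hermForm, Pi.add_apply, F_add_sq, mul_add, Finset.sum_add_distrib]

theorem hf_smul_right (b : F) (u y : Fin 6 → F) : hf u (b • y) = b ^ 2 * hf u y := by
  simp only [hf, Cfsg.hermForm, Pi.smul_apply, smul_eq_mul, mul_pow, Finset.mul_sum]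
  apply Finset.sum_congr rfl
  intro i _
  ring

theorem hf_sq (y v : Fin 6 → F) : (hf y v) ^ 2 = hf v y := by
  simp only [hf, Cfsg.hermForm]
  rw [sq_sum]
  apply Finset.sum_congr rfl
  intro i _
  rw [mul_pow, ← pow_mul, F_pow4, mul_comm]

/-- (TV1) the transvection matrix acts as `x ↦ x + hf x v • v`. -/
theorem tv_mulVec (v x : Fin 6 → F) : (tv v).mulVec x = x + hf x v • v := by
  rw [tv, Matrix.add_mulVec, Matrix.one_mulVec]
  congr 1
  funext i
  simp only [Matrix.mulVec, dotProduct, Matrix.vecMulVec_apply, Pi.smul_apply, smul_eq_mul, hf,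
    Cfsg.hermForm, Finset.sum_mul]
  apply Finset.sum_congr rfl
  intro j _
  ring

theorem tv_det (v : Fin 6 → F) (hv : hf v v = 0) : (tv v).det = 1 := by
  rw [tv, Matrix.vecMulVec_eq (Fin 1), Matrix.det_one_add_replicateCol_mul_replicateRow]
  have : (fun j => v j ^ 2) ⬝ᵥ v = hf v v := by
    simp only [dotProduct, hf, Cfsg.hermForm]
    apply Finset.sum_congr rfl
    intro j _
    ring
  rw [this, hv, add_zero]

theorem tv_preserves (v : Fin 6 → F) (hv : hf v v = 0) (x y : Fin 6 → F) :
    hf ((tv v).mulVec x) ((tv v).mulVec y) = hf x y := by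
  rw [tv_mulVec, tv_mulVec]
  simp only [hf_add_left, hf_add_right, hf_smul_left, hf_smul_right]
  rw [hv, hf_sq]
  have h2 := F_add_self (hf v y * hf x v)
  linear_combination h2

/-- (TV2) an isotropic `v` gives an element of `SU6`. -/
theorem exists_tvSU (v : Fin 6 → F) (hv : hf v v = 0) :
    ∃ s : ↥SU6, ((s : Matrix.SpecialLinearGroup (Fin 6) F) : Matrix (Fin 6) (Fin 6) F) = tv v := by
  refine ⟨⟨⟨tv v, tv_det v hv⟩, ?_⟩, rfl⟩
  show ∀ x y, hf ((tv v).mulVec x) ((tv v).mulVec y) = hf x y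
  exact tv_preserves v hv

end Cfsg.Agent.Helper60.U6
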