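import Mathlib
import Cfsg.Prelude.Def_Classical
import Cfsg.Prelude.Def_SporadicB
import Cfsg.Agent.Lib.Helper92.U6Defs
import Cfsg.Agent.Lib.Helper60.U6TV2

/-!
# U6 server piece (TV3) `conj_tv`, for helper92 (S1684)
-/

set_option autoImplicit false
set_option linter.unusedVariables false

namespace Cfsg.Agent.Helper60.U6

open Cfsg.Agent.Helper92.U6

theorem su6_preserves (g : ↥SU6) (x y : Fin 6 → F) :
    hf (((g : Matrix.SpecialLinearGroup (Fin 6) F) : Matrix (Fin 6) (Fin 6) F).mulVec x)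
      (((g : Matrix.SpecialLinearGroup (Fin 6) F) : Matrix (Fin 6) (Fin 6) F).mulVec y) = hf x y :=
  g.2 x y

/-- (TV3) conjugation of transvections: `g τ_v g⁻¹ = τ_{g v}` in `SU6`. -/
theorem conj_tv (g s s' : ↥SU6) (v : Fin 6 → F)
    (hs : ((s : Matrix.SpecialLinearGroup (Fin 6) F) : Matrix (Fin 6) (Fin 6) F) = tv v)
    (hs' : ((s' : Matrix.SpecialLinearGroup (Fin 6) F) : Matrix (Fin 6) (Fin 6) F) =
      tv (((g : Matrix.SpecialLinearGroup (Fin 6) F) : Matrix (Fin 6) (Fin 6) F).mulVec v)) :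
    g * s * g⁻¹ = s' := by
  rw [mul_inv_eq_iff_eq_mul]
  apply Subtype.ext
  apply Subtype.ext
  show ((g : Matrix.SpecialLinearGroup (Fin 6) F) : Matrix (Fin 6) (Fin 6) F) *
      ((s : Matrix.SpecialLinearGroup (Fin 6) F) : Matrix (Fin 6) (Fin 6) F) =
    ((s' : Matrix.SpecialLinearGroup (Fin 6) F) : Matrix (Fin 6) (Fin 6) F) *
      ((g : Matrix.SpecialLinearGroup (Fin 6) F) : Matrix (Fin 6) (Fin 6) F)
  rw [hs, hs']
  apply Matrix.mulVec_injective
  funext x
  rw [← Matrix.mulVec_mulVec, ← Matrix.mulVec_mulVec, tv_mulVec, tv_mulVec, Matrix.mulVec_add,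
    Matrix.mulVec_smul, su6_preserves]

end Cfsg.Agent.Helper60.U6
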